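import Groth.Agent.Lib.MultDef14.Spec
import Groth.Agent.Lib.HomScheme.GrpHom
import Groth.Agent.Lib.EssFree.Subgroup

/-!
The transporter of one homomorphism of a group of multiplicative type into another is smooth.
-/

universe u

open CategoryTheory MonoidalCategory CartesianMonoidalCategory MonObj GrpObj AlgebraicGeometry

set_option backward.isDefEq.respectTransparency false

namespace GrothLib.MultDef14

variable {S : Scheme.{u}} {H G : Over S} [GrpObj H] [GrpObj G]

/-- The transporter of `u` into `v`, with its smoothness. -/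
theorem exists_transporter {Q : ∀ (M : Type), AddCommGroup M → Prop} (hH : DiagGrp.HasChartsFpqc Q H)
    (hG : Smooth G.hom) (hGa : IsAffineHom G.hom) (u v : H ⟶ G) [IsMonHom u] [IsMonHom v] :
    ∃ (T : Over S) (j : T ⟶ G), IsClosedImmersion j.left ∧ Smooth T.hom ∧
      ∀ (X : Over S) (g : X ⟶ G), (∃ t : X ⟶ T, t ≫ j = g) ↔ ConjOn u v g := by
  haveI := hG
  haveI := hGa
  have hHa := EssFree.isAffineHom_of_charts hH
  haveI := hHa
  let c : G ⊗ H ⟶ G := fst G H * (snd G H ≫ u) * (fst G H)⁻¹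
  obtain ⟨E, e, _, hec, heq, hefp, hE⟩ := HomScheme.exists_equalizer (snd G H ≫ v) c
  obtain ⟨T, j, hj, hjfp, hT⟩ := EssFree.exists_closed_forall_points_essFree (X := G) (Y := H) e
    (EssFree.of_charts hH)
  haveI := hj
  have hjm : Mono j := (Over.forget S).mono_of_mono_map (show Mono j.left from inferInstance)
  have hc : ∀ (X : Over S) (g : X ⟶ G) (h : X ⟶ H), lift g h ≫ c = g * (h ≫ u) * g⁻¹ := fun X g h => by
    simp [c, MonObj.comp_mul, GrpObj.comp_inv]
  have hspec : ∀ (X : Over S) (g : X ⟶ G), (∃ t : X ⟶ T, t ≫ j = g) ↔ ConjOn u v g := fun X g => by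
    refine (hT X g).trans ⟨fun hl Y p h => ?_, fun hg Y p h => ?_⟩
    · obtain ⟨l, hl⟩ := hl Y p h
      have := congrArg (l ≫ ·) heq
      simp only [← Category.assoc, hl] at this
      rw [hc, lift_snd] at this
      exact this
    · exact hE _ _ (by rw [← Category.assoc, lift_snd, hc]; exact hg Y p h)
  haveI hTfp : LocallyOfFinitePresentation T.hom := by
    haveI := hjfp inferInstance (hefp inferInstance)
    rw [← Over.w j]
    infer_instance
  refine ⟨T, j, hj, (Groth.Agent.S1488.result T.hom).mpr ⟨hTfp, ?_⟩, hspec⟩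
  intro A _ I hI a b w
  let g₀ : aff b (A ⧸ I) ⟶ T := Over.homMk a w.symm
  obtain ⟨g, hg, hgc⟩ := exists_conjOn_lift hH hHa u v ((Groth.Agent.S1488.result G.hom).mp hG).2 b I ⟨2, hI⟩
    (g₀ ≫ j) ((hspec _ _).mp ⟨g₀, rfl⟩)
  obtain ⟨t, ht⟩ := (hspec _ g).mpr hgc
  have hred : affMap b (Ideal.Quotient.mkₐ A I) ≫ t = g₀ := by
    rw [← cancel_mono j, Category.assoc, ht, hg]
  refine ⟨t.left, congrArg CommaMorphism.left hred, ?_⟩
  refine (Over.w t).trans ?_
  change Spec.map _ ≫ b = b
  rw [Algebra.algebraMap_self, CommRingCat.ofHom_id]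
  exact (congrArg (· ≫ b) (Spec.map_id _)).trans (Category.id_comp b)

/-- The centralizer of a homomorphism, with its smoothness and group structure. -/
theorem exists_centralizer {Q : ∀ (M : Type), AddCommGroup M → Prop} (hH : DiagGrp.HasChartsFpqc Q H)
    (hG : Smooth G.hom) (hGa : IsAffineHom G.hom) (u : H ⟶ G) [IsMonHom u] :
    ∃ (Z : Over S) (_ : GrpObj Z) (j : Z ⟶ G), Red.IsCentralizerOf u j ∧ IsClosedImmersion j.left ∧ Smooth Z.hom := by
  obtain ⟨Z, j, hj, hs, hspec⟩ := exists_transporter hH hG hGa u u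
  haveI := hj
  have hjm : Mono j := (Over.forget S).mono_of_mono_map (show Mono j.left from inferInstance)
  have hiff : ∀ (X : Over S) (g : X ⟶ G), (∃ z : X ⟶ Z, z ≫ j = g) ↔
      ∀ (X' : Over S) (x : X' ⟶ X) (h : X' ⟶ H), Commute (x ≫ g) (h ≫ u) := fun X g =>
    (hspec X g).trans (forall₃_congr fun X' x h => by
      rw [eq_comm, mul_inv_eq_iff_eq_mul]
      rfl)
  obtain ⟨inst, hmon⟩ := EssFree.exists_grpObj_of_mono j
    (fun X => (hiff X 1).mpr fun X' x h => by rw [MonObj.comp_one]; exact Commute.one_left _)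
    (fun X a b => (hiff X _).mpr fun X' x h => by
      rw [MonObj.comp_mul]
      exact Commute.mul_left ((hiff X _).mp ⟨a, rfl⟩ X' x h) ((hiff X _).mp ⟨b, rfl⟩ X' x h))
    (fun X a => (hiff X _).mpr fun X' x h => by
      rw [GrpObj.comp_inv]
      exact Commute.inv_left ((hiff X _).mp ⟨a, rfl⟩ X' x h))
  exact ⟨Z, inst, j, ⟨hmon, hjm, hiff⟩, hj, hs⟩

end GrothLib.MultDef14
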