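import Groth.Agent.Lib.MultDef14.Sub
import Groth.Agent.Lib.MultDef14.Transporter
import Groth.Agent.Lib.DiagGrp.FreeGraph
import Groth.Agent.Lib.DiagGrp.BaseChange

/-!
Transporters and normalizers of subgroups of multiplicative type are smooth.
-/

universe u

open CategoryTheory MonoidalCategory CartesianMonoidalCategory MonObj GrpObj AlgebraicGeometry

set_option backward.isDefEq.respectTransparency false

namespace GrothLib.MultDef14

open GrothLib.DiagGrp (HasChartsFpqc)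

variable {S : Scheme.{u}} {H₁ H₂ G : Over S} [GrpObj H₁] [GrpObj H₂] [GrpObj G]

/-- A subgroup of multiplicative type of an affine group is closed. -/
theorem isClosedImmersion_of_mono {H : Over S} [GrpObj H] (hH : SGA3x.IsMultTypeFT H) (hGa : IsAffineHom G.hom)
    (i : H ⟶ G) [IsMonHom i] [Mono i] : IsClosedImmersion i.left := by
  haveI := hGa
  let a : AlgGrp.Action H G :=
    { act := (fst H G ≫ i) * snd H G
      one_act := by
        rw [MonObj.comp_mul, ← Category.assoc, whiskerRight_fst, whiskerRight_snd, Category.assoc,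
          IsMonHom.one_hom i, toUnit_unique (fst (𝟙_ (Over S)) G) (toUnit _), leftUnitor_hom]
        simp [← Hom.one_def]
      mul_act := by
        have hμ : μ[H] ≫ i = (fst H H ≫ i) * (snd H H ≫ i) := by
          rw [← MonObj.mul_comp, Hom.mul_def, lift_fst_snd, Category.id_comp]
        rw [MonObj.comp_mul, ← Category.assoc, whiskerRight_fst, whiskerRight_snd, Category.assoc, hμ,
          ← Category.assoc (α_ H H G).hom (H ◁ _), MonObj.comp_mul]
        simp [MonObj.comp_mul, _root_.mul_assoc] }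
  have hfree : ∀ (Y : Over S) (g : Y ⟶ H) (x : Y ⟶ G), lift g x ≫ a.act = x → g = 1 := by
    intro Y g x hx
    change lift g x ≫ ((fst H G ≫ i) * snd H G) = x at hx
    rw [MonObj.comp_mul, lift_fst_assoc, lift_snd, mul_eq_right] at hx
    rw [← cancel_mono i, hx, MonObj.one_comp]
  have h := DiagGrp.orbitMap_isClosedImmersion a
    (DiagGrp.graph_isClosedImmersion (DiagGrp.locally_of_isMultTypeFT hH) a hfree) 1
  have e : a.orbitMap 1 = i := by
    change lift (𝟙 H) (toUnit H ≫ 1) ≫ ((fst H G ≫ i) * snd H G) = i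
    rw [MonObj.comp_mul, lift_fst_assoc, lift_snd, MonObj.comp_one, Category.id_comp, _root_.mul_one]
  rwa [e] at h

variable (hH₁ : SGA3x.IsMultTypeFT H₁) (hH₂ : SGA3x.IsMultTypeFT H₂) (hG : Smooth G.hom) (hGa : IsAffineHom G.hom)
  (i₁ : H₁ ⟶ G) [IsMonHom i₁] (i₂ : H₂ ⟶ G) [IsMonHom i₂] [Mono i₂]

include hH₁ hH₂ hG hGa in
/-- The closed transporter for containment. -/
theorem exists_into : ∃ (T : Over S) (j : T ⟶ G), IsClosedImmersion j.left ∧ LocallyOfFinitePresentation T.hom ∧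
    ∀ (X : Over S) (g : X ⟶ G), (∃ t : X ⟶ T, t ≫ j = g) ↔ ConjInto i₁ i₂ g := by
  haveI := hG
  haveI := hGa
  haveI := isClosedImmersion_of_mono hH₂ hGa i₂
  haveI := EssFree.isAffineHom_multTypeFT H₁ hH₁
  obtain ⟨T, j, hj, hfp, hT⟩ := EssFree.exists_closed_transporter G H₁ H₂ inferInstance i₁
    (EssFree.of_multTypeFT H₁ hH₁) i₂ (DiagGrp.lfp_of_isMultTypeFT hH₂)
  exact ⟨T, j, hj, hfp, hT⟩

omit [GrpObj H₁] [GrpObj H₂] [GrpObj G] in
theorem smooth_of_lift (T : Over S) (hfp : LocallyOfFinitePresentation T.hom)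
    (h : ∀ {R : Type u} [CommRing R] (q : Spec (CommRingCat.of R) ⟶ S) (J : Ideal R), J ^ 2 = ⊥ →
      ∀ t₀ : aff q (R ⧸ J) ⟶ T, ∃ t : aff q R ⟶ T, affMap q (Ideal.Quotient.mkₐ R J) ≫ t = t₀) :
    Smooth T.hom := by
  refine (Groth.Agent.S1488.result T.hom).mpr ⟨hfp, ?_⟩
  intro A _ I hI a b w
  obtain ⟨t, ht⟩ := h b I hI (Over.homMk a w.symm)
  refine ⟨t.left, congrArg CommaMorphism.left ht, ?_⟩
  refine (Over.w t).trans ?_
  change Spec.map _ ≫ b = b
  rw [Algebra.algebraMap_self, CommRingCat.ofHom_id]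
  exact (congrArg (· ≫ b) (Spec.map_id _)).trans (Category.id_comp b)

include hH₁ hH₂ hG hGa in
/-- The smooth transporter for containment. -/
theorem exists_transporterInto : ∃ (T : Over S) (j : T ⟶ G), IsClosedImmersion j.left ∧ Smooth T.hom ∧
    ∀ (X : Over S) (g : X ⟶ G), (∃ t : X ⟶ T, t ≫ j = g) ↔ ConjInto i₁ i₂ g := by
  obtain ⟨T, j, hj, hfp, hT⟩ := exists_into hH₁ hH₂ hG hGa i₁ i₂
  haveI := hj
  have hjm : Mono j := (Over.forget S).mono_of_mono_map (show Mono j.left from inferInstance)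
  refine ⟨T, j, hj, smooth_of_lift T hfp fun q J hJ t₀ => ?_, hT⟩
  obtain ⟨g₁, hg₁⟩ := exists_lift_point ((Groth.Agent.S1488.result G.hom).mp hG).2 q J hJ (t₀ ≫ j)
  obtain ⟨g, hg, hgc⟩ := exists_conjInto_step (DiagGrp.hasChartsFpqc_of_isMultTypeFT hH₁)
    (DiagGrp.hasChartsFpqc_of_isMultTypeFT hH₂) i₁ i₂ q J hJ g₁ (by rw [hg₁]; exact (hT _ _).mp ⟨t₀, rfl⟩)
  obtain ⟨t, rfl⟩ := (hT _ g).mpr hgc
  exact ⟨t, by rw [← cancel_mono j, Category.assoc, hg, hg₁]⟩

include hH₁ hH₂ hG hGa in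
/-- The smooth transporter of one subgroup onto another. -/
theorem exists_transporterSub [Mono i₁] : ∃ (T : Over S) (j : T ⟶ G), IsClosedImmersion j.left ∧ Smooth T.hom ∧
    ∀ (X : Over S) (g : X ⟶ G), (∃ t : X ⟶ T, t ≫ j = g) ↔ ConjSub i₁ i₂ g := by
  obtain ⟨T₁, j₁, hj₁, hf₁, h₁⟩ := exists_into hH₁ hH₂ hG hGa i₁ i₂
  obtain ⟨T₂, j₂, hj₂, hf₂, h₂⟩ := exists_into hH₂ hH₁ hG hGa i₂ i₁
  haveI := hj₁
  haveI := hj₂
  let j₂' : T₂ ⟶ G := j₂ ≫ ι[G]
  have hj₂' : IsClosedImmersion j₂'.left := by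
    haveI : IsIso (ι[G] : G ⟶ G).left := inferInstanceAs (IsIso ((Over.forget S).map (ι[G])))
    change IsClosedImmersion (j₂.left ≫ (ι[G] : G ⟶ G).left)
    infer_instance
  haveI := hj₂'
  let P := Limits.pullback j₁ j₂'
  let j : P ⟶ G := Limits.pullback.fst j₁ j₂' ≫ j₁
  have sq := (IsPullback.of_hasPullback j₁ j₂').map (Over.forget S)
  haveI : IsClosedImmersion (Limits.pullback.fst j₁ j₂').left :=
    MorphismProperty.of_isPullback sq.flip hj₂'
  have hj : IsClosedImmersion j.left := by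
    change IsClosedImmersion ((Limits.pullback.fst j₁ j₂').left ≫ j₁.left)
    infer_instance
  haveI := hj
  have hjm : Mono j := (Over.forget S).mono_of_mono_map (show Mono j.left from inferInstance)
  haveI : LocallyOfFinitePresentation P.hom := by
    haveI : LocallyOfFinitePresentation j₂'.left := by
      haveI : LocallyOfFinitePresentation (j₂'.left ≫ G.hom) := by rw [Over.w j₂']; exact hf₂
      haveI := hG
      exact DiagGrp.lfp_of_comp_of_lft j₂'.left G.hom inferInstance inferInstance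
    haveI : LocallyOfFinitePresentation (Limits.pullback.fst j₁ j₂').left :=
      MorphismProperty.of_isPullback sq.flip ‹LocallyOfFinitePresentation j₂'.left›
    haveI := hf₁
    rw [← Over.w (Limits.pullback.fst j₁ j₂')]
    infer_instance
  have hspec : ∀ (X : Over S) (g : X ⟶ G), (∃ t : X ⟶ P, t ≫ j = g) ↔ ConjSub i₁ i₂ g := by
    intro X g
    constructor
    · rintro ⟨t, rfl⟩
      intro Y p
      refine ⟨fun h => (h₁ X _).mp ⟨t ≫ Limits.pullback.fst j₁ j₂', by rw [Category.assoc]⟩ Y p h, fun h' => ?_⟩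
      have e : (t ≫ j)⁻¹ = (t ≫ Limits.pullback.snd j₁ j₂') ≫ j₂ := by
        rw [show t ≫ j = t ≫ Limits.pullback.snd j₁ j₂' ≫ j₂ ≫ ι[G] from
          congrArg (t ≫ ·) Limits.pullback.condition, Hom.inv_def]
        simp
      obtain ⟨h, hh⟩ := (h₂ X _).mp ⟨_, e.symm⟩ Y p h'
      exact ⟨h, by rwa [GrpObj.comp_inv, _root_.inv_inv] at hh⟩
    · intro hg
      obtain ⟨t₁, ht₁⟩ := (h₁ X g).mpr hg.conjInto
      obtain ⟨t₂, ht₂⟩ := (h₂ X g⁻¹).mpr hg.symm.conjInto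
      refine ⟨Limits.pullback.lift t₁ t₂ ?_, by rw [Limits.pullback.lift_fst_assoc, ht₁]⟩
      rw [ht₁, ← Category.assoc, ht₂, Hom.inv_def]
      simp
  refine ⟨P, j, hj, smooth_of_lift P inferInstance fun q J hJ t₀ => ?_, hspec⟩
  obtain ⟨g₁, hg₁⟩ := exists_lift_point ((Groth.Agent.S1488.result G.hom).mp hG).2 q J hJ (t₀ ≫ j)
  obtain ⟨g, hg, hgc⟩ := exists_conjSub_step (DiagGrp.hasChartsFpqc_of_isMultTypeFT hH₁)
    (DiagGrp.hasChartsFpqc_of_isMultTypeFT hH₂) i₁ i₂ q J hJ g₁ (by rw [hg₁]; exact (hspec _ _).mp ⟨t₀, rfl⟩)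
  obtain ⟨t, rfl⟩ := (hspec _ g).mpr hgc
  exact ⟨t, by rw [← cancel_mono j, Category.assoc, hg, hg₁]⟩

omit hH₁ hH₂ in
theorem exists_normalizer {H : Over S} [GrpObj H] (hH : SGA3x.IsMultTypeFT H) (hG : Smooth G.hom)
    (hGa : IsAffineHom G.hom) (i : H ⟶ G) [IsMonHom i] [Mono i] :
    ∃ (N : Over S) (_ : GrpObj N) (j : N ⟶ G), Red.IsNormalizerOf i j ∧ IsClosedImmersion j.left ∧ Smooth N.hom := by
  obtain ⟨N, j, hj, hs, hspec⟩ := exists_transporterSub hH hH hG hGa i i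
  haveI := hj
  have hjm : Mono j := (Over.forget S).mono_of_mono_map (show Mono j.left from inferInstance)
  obtain ⟨inst, hmon⟩ := EssFree.exists_grpObj_of_mono j
    (fun X => (hspec X 1).mpr fun Y p => by
      simp only [MonObj.comp_one, inv_one, _root_.one_mul, _root_.mul_one]
      exact ⟨fun h => ⟨h, rfl⟩, fun h => ⟨h, rfl⟩⟩)
    (fun X a b => (hspec X _).mpr fun Y p => by
      refine ⟨fun h => ?_, fun h => ?_⟩
      · obtain ⟨h₁, e₁⟩ := ((hspec X _).mp ⟨b, rfl⟩ Y p).1 h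
        obtain ⟨h₂, e₂⟩ := ((hspec X _).mp ⟨a, rfl⟩ Y p).1 h₁
        exact ⟨h₂, by rw [← e₂, ← e₁, MonObj.comp_mul]; group⟩
      · obtain ⟨h₁, e₁⟩ := ((hspec X _).mp ⟨a, rfl⟩ Y p).2 h
        obtain ⟨h₂, e₂⟩ := ((hspec X _).mp ⟨b, rfl⟩ Y p).2 h₁
        exact ⟨h₂, by rw [← e₂, ← e₁, MonObj.comp_mul]; group⟩)
    (fun X a => (hspec X _).mpr ((hspec X _).mp ⟨a, rfl⟩).symm)
  refine ⟨N, inst, j, ⟨hmon, hjm, fun X g => (hspec X g).trans ?_⟩, hj, hs⟩
  exact ⟨fun hg Y p h => ⟨(hg Y p).1 h, (hg Y p).2 h⟩, fun hg Y p => ⟨fun h => (hg Y p h).1, fun h => (hg Y p h).2⟩⟩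

end GrothLib.MultDef14
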