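import Groth.Agent.Lib.EssFree.Transporter

/-!
Groups with diagonalisable charts of arbitrary type are affine and essentially free.
-/

open CategoryTheory CategoryTheory.Limits AlgebraicGeometry MonoidalCategory CartesianMonoidalCategory MonObj GrpObj
open scoped TensorProduct

universe u

set_option backward.isDefEq.respectTransparency.types false

namespace GrothLib.EssFree

theorem of_charts {S : Scheme.{u}} {Q : ∀ (M : Type), AddCommGroup M → Prop} {H : Over S} [GrpObj H]
    (hH : DiagGrp.HasChartsFpqc Q H) :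
    SGA3x.IsEssentiallyFree H.hom := by
  intro s
  obtain ⟨V, hV, hsV, -⟩ := exists_isAffineOpen_mem_and_subset (x := s) (U := (⊤ : S.Opens)) trivial
  haveI : IsAffine (V : Scheme.{u}) := hV
  obtain ⟨W, q, hqf, hqs, hqc, hloc⟩ := hH.coverBy V hV
  choose R hwR hRa M instM hM hch using hloc
  haveI : CompactSpace W := QuasiCompact.compactSpace_of_compactSpace q
  obtain ⟨t, ht⟩ := isCompact_univ.elim_finite_subcover (fun w => ((R w : W.Opens) : Set W))
    (fun w => (R w).2) fun w _ => Set.mem_iUnion.2 ⟨w, hwR w⟩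
  let σ : Type u := {w : W // w ∈ t}
  haveI : Finite σ := Finite.of_fintype _
  let gi : σ → Scheme.{u} := fun i => (R i.1 : Scheme.{u})
  haveI : ∀ i, IsAffine (gi i) := fun i => hRa i.1
  let g : (∐ gi) ⟶ (V : Scheme.{u}) := Sigma.desc fun i => (R i.1).ι ≫ q
  haveI : Flat g := by
    refine IsZariskiLocalAtSource.of_openCover (P := @Flat) (sigmaOpenCover gi) fun i => ?_
    show Flat (Sigma.ι gi i ≫ g)
    rw [Sigma.ι_desc]
    infer_instance
  haveI : Surjective g := ⟨fun v => by
    obtain ⟨w, rfl⟩ := q.surjective v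
    obtain ⟨i, hi, hwi⟩ := Set.mem_iUnion₂.1 (ht (Set.mem_univ w))
    refine ⟨Sigma.ι gi ⟨i, hi⟩ ⟨w, hwi⟩, ?_⟩
    rw [← Scheme.Hom.comp_apply, Sigma.ι_desc]
    rfl⟩
  refine ⟨V, hsV, hV, ∐ gi, inferInstance, g, inferInstance, inferInstance, fun x => ?_⟩
  obtain ⟨i, r, hr⟩ := (sigmaOpenCover gi).exists_eq (pullback.snd H.hom (g ≫ V.ι) x)
  let f' : gi i ⟶ S := (R i.1).ι ≫ q ≫ V.ι
  have hf' : Sigma.ι gi i ≫ g ≫ V.ι = f' := by rw [Sigma.ι_desc_assoc, Category.assoc]
  let m : pullback H.hom f' ⟶ pullback H.hom (g ≫ V.ι) :=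
    pullback.map _ _ _ _ (𝟙 _) (Sigma.ι gi i) (𝟙 _) (by simp) (by rw [Category.comp_id, hf'])
  haveI : IsOpenImmersion m := MorphismProperty.pullbackMap (P := @IsOpenImmersion) inferInstance
    (inferInstanceAs (IsOpenImmersion (Sigma.ι gi i))) (Category.id_comp _).symm hf'.symm
  obtain ⟨e⟩ := hch i.1
  obtain ⟨hQ, hQp⟩ := isAffineHom_bc f' H e
  refine ⟨m.opensRange, ?_, isAffineOpen_opensRange m, ?_⟩
  · show x ∈ Set.range m
    rw [Scheme.Pullback.range_map]
    exact ⟨⟨_, rfl⟩, r, hr⟩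
  · haveI : IsAffine (m.opensRange : Scheme.{u}) := isAffineOpen_opensRange m
    show ProjHom _
    have he : m.opensRange.ι ≫ pullback.snd H.hom (g ≫ V.ι) =
        m.isoOpensRange.inv ≫ pullback.snd H.hom f' ≫ Sigma.ι gi i := by
      rw [← Scheme.Hom.isoOpensRange_inv_comp, Category.assoc, pullback.lift_snd]
    rw [he]
    haveI := isClosedImmersion_sigmaι gi i
    exact (projHom_of_finLocFree m.isoOpensRange.inv).comp (hQp.comp (projHom_of_finLocFree _))

theorem isAffineHom_of_charts {S : Scheme.{u}} {Q : ∀ (M : Type), AddCommGroup M → Prop} {H : Over S} [GrpObj H]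
    (hH : DiagGrp.HasChartsFpqc Q H) :
    IsAffineHom H.hom := by
  obtain ⟨S', f, h1, h2, h3, h4⟩ := hH
  have h : IsAffineHom (toUnit H).left :=
    DiagGrp.of_charts @IsAffineHom (G := H) (fun _ _ => True)
      ⟨S', f, h1, h2, h3, fun s' => by
        obtain ⟨U, hU, M, inst, _, e⟩ := h4 s'
        exact ⟨U, hU, M, inst, trivial, e⟩⟩ (toUnit H) fun {W} _ g {M} inst _ e => by
      haveI : IsIso (pullback.snd (𝟙_ (Over S)).hom g) := inferInstanceAs (IsIso (pullback.snd (𝟙 S) g))
      rw [← MorphismProperty.cancel_right_of_respectsIso @IsAffineHom _ (pullback.snd (𝟙_ (Over S)).hom g)]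
      have h5 : ((Over.pullback g).map (toUnit H)).left ≫ pullback.snd (𝟙_ (Over S)).hom g = (Red.bc g H).hom :=
        pullback.lift_snd _ _ _
      rw [h5]
      haveI : IsAffine (Red.bc g H).left := (isAffineHom_bc g H e).1
      exact isAffineHom_of_isAffine _
  rw [← Over.w (toUnit H)]
  exact (MorphismProperty.cancel_right_of_respectsIso @IsAffineHom _ (𝟙 S)).mpr h

end GrothLib.EssFree
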