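import Groth.Agent.Lib.MultDef14.Squeeze
import Groth.Agent.Lib.DiagGrp.BaseChange
import Mathlib.AlgebraicGeometry.Pullbacks
import Mathlib.AlgebraicGeometry.Limits

/-!
Finite faithfully flat families of algebras over which groups of multiplicative type split, and the test
of equality of points on such a family.
-/

universe u

open CategoryTheory MonoidalCategory CartesianMonoidalCategory MonObj GrpObj AlgebraicGeometry
open CategoryTheory.Limits
open scoped TensorProduct

namespace GrothLib.MultDef14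

/-- A finite flat jointly surjective family of algebras. -/
structure IsCoverFam (R : Type u) [CommRing R] {σ : Type u} (T : σ → Type u) [∀ i, CommRing (T i)]
    [∀ i, Algebra R (T i)] : Prop where
  finite : Finite σ
  flat : ∀ i, Module.Flat R (T i)
  surj : ∀ x : PrimeSpectrum R, ∃ i, x ∈ Set.range (PrimeSpectrum.comap (algebraMap R (T i)))

section Over

variable {S : Scheme.{u}} {R : Type u} [CommRing R] (q : Spec (CommRingCat.of R) ⟶ S)

/-- Two groups of multiplicative type split over a common finite flat covering family. -/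
theorem exists_splitting {H K : Over S} [GrpObj H] [GrpObj K] {Q Q' : ∀ (M : Type), AddCommGroup M → Prop}
    (hH : DiagGrp.HasChartsFpqc Q H) (hK : DiagGrp.HasChartsFpqc Q' K) :
    ∃ (σ : Type u) (T : σ → Type u) (_ : ∀ i, CommRing (T i)) (_ : ∀ i, Algebra R (T i)), IsCoverFam R T ∧
      ∀ i, DiagGrp.HasChart Q H (Spec.map (CommRingCat.ofHom (algebraMap R (T i))) ≫ q) ∧
        DiagGrp.HasChart Q' K (Spec.map (CommRingCat.ofHom (algebraMap R (T i))) ≫ q) := by
  classical
  obtain ⟨W, g, _, _, _, hR⟩ :=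
    ((hH.baseChange q).coverBy (⊤ : (Spec (CommRingCat.of R)).Opens) (isAffineOpen_top _)).inter
      ((hK.baseChange q).coverBy (⊤ : (Spec (CommRingCat.of R)).Opens) (isAffineOpen_top _))
      (fun f g' f' hf h => DiagGrp.HasChart.precomp h g' f' hf) (fun f g' f' hf h => DiagGrp.HasChart.precomp h g' f' hf)
  choose U hwU hUa hch using hR
  haveI : IsAffine ((⊤ : (Spec (CommRingCat.of R)).Opens) : Scheme.{u}) := isAffineOpen_top _
  haveI : CompactSpace W := QuasiCompact.compactSpace_of_compactSpace g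
  obtain ⟨t, ht⟩ := isCompact_univ.elim_finite_subcover (fun w => ((U w : W.Opens) : Set W))
    (fun w => (U w).2) fun w _ => Set.mem_iUnion.2 ⟨w, hwU w⟩
  let σ : Type u := {w : W // w ∈ t}
  let T : σ → Type u := fun i => Γ(W, U i.1)
  let f : ∀ i : σ, Spec (CommRingCat.of (T i)) ⟶ Spec (CommRingCat.of R) := fun i =>
    (hUa i.1).fromSpec ≫ g ≫ (⊤ : (Spec (CommRingCat.of R)).Opens).ι
  letI : ∀ i, Algebra R (T i) := fun i => (Spec.preimage (f i)).hom.toAlgebra
  have hf : ∀ i, Spec.map (CommRingCat.ofHom (algebraMap R (T i))) = f i := fun i => Spec.map_preimage _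
  refine ⟨σ, T, inferInstance, inferInstance, ⟨Finite.of_fintype _, fun i => ?_, fun x => ?_⟩, fun i => ?_⟩
  · have : Flat (f i) := inferInstance
    rw [← hf i, HasRingHomProperty.Spec_iff (P := @Flat)] at this
    exact RingHom.flat_algebraMap_iff.mp this
  · obtain ⟨w, hw⟩ := g.surjective ⟨x, trivial⟩
    obtain ⟨i, hi, hwi⟩ := Set.mem_iUnion₂.1 (ht (Set.mem_univ w))
    obtain ⟨z, hz⟩ : w ∈ Set.range (hUa i).fromSpec := by rw [IsAffineOpen.range_fromSpec]; exact hwi
    refine ⟨⟨i, hi⟩, z, ?_⟩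
    change (Spec.map (CommRingCat.ofHom (algebraMap R (T ⟨i, hi⟩)))) z = x
    rw [hf]
    change (⊤ : (Spec (CommRingCat.of R)).Opens).ι (g ((hUa i).fromSpec z)) = x
    rw [hz, hw]
    rfl
  · have hci : DiagGrp.HasChart Q (Red.bc q H) (f i) ∧ DiagGrp.HasChart Q' (Red.bc q K) (f i) := by
      have e : f i = (hUa i.1).isoSpec.inv ≫ (U i.1).ι ≫ g ≫ (⊤ : (Spec (CommRingCat.of R)).Opens).ι := by
        change (hUa i.1).fromSpec ≫ g ≫ _ = _
        rw [← (hUa i.1).isoSpec_inv_ι, Category.assoc]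
      exact ⟨(hch i.1).1.precomp _ _ e, (hch i.1).2.precomp _ _ e⟩
    rw [← hf i] at hci
    obtain ⟨⟨M, inst, hQ, ⟨e⟩⟩, ⟨M', inst', hQ', ⟨e'⟩⟩⟩ := hci
    exact ⟨⟨M, inst, hQ, ⟨(DiagGrp.bcGrpComp H q _ _ rfl).trans e⟩⟩,
      ⟨M', inst', hQ', ⟨(DiagGrp.bcGrpComp K q _ _ rfl).trans e'⟩⟩⟩

variable {σ : Type u} {T : σ → Type u} [∀ i, CommRing (T i)] [∀ i, Algebra R (T i)]
  (hT : IsCoverFam R T) {B : Type u} [CommRing B] [Algebra R B]

/-- The covering family over an algebra. -/
noncomputable abbrev famMap (i : σ) : Spec (CommRingCat.of (T i ⊗[R] B)) ⟶ Spec (CommRingCat.of B) :=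
  Spec.map (CommRingCat.ofHom ((Algebra.TensorProduct.includeRight : B →ₐ[R] T i ⊗[R] B) : B →+* T i ⊗[R] B))

include hT in
theorem flat_desc : Flat (Sigma.desc (famMap (R := R) (T := T) (B := B))) ∧
    Surjective (Sigma.desc (famMap (R := R) (T := T) (B := B))) ∧ QuasiCompact (Sigma.desc (famMap (R := R) (T := T) (B := B))) := by
  haveI := hT.finite
  refine ⟨IsZariskiLocalAtSource.of_openCover (P := @Flat) (sigmaOpenCover _) fun i => ?_, ⟨fun b => ?_⟩, ?_⟩
  · change Flat (Sigma.ι (fun i => Spec (CommRingCat.of (T i ⊗[R] B))) (i : σ) ≫ _)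
    erw [Sigma.ι_desc]
    haveI : Flat (Spec.map (CommRingCat.ofHom (algebraMap R (T i)))) := by
      rw [HasRingHomProperty.Spec_iff (P := @Flat)]
      exact RingHom.flat_algebraMap_iff.mpr (hT.flat i)
    have := pullbackSpecIso_inv_snd R (T i) B
    rw [famMap]
    exact this ▸ inferInstance
  · obtain ⟨i, z, hz⟩ := hT.surj (PrimeSpectrum.comap (algebraMap R B) b)
    obtain ⟨p, -, hp⟩ := Scheme.Pullback.exists_preimage_pullback
      (f := Spec.map (CommRingCat.ofHom (algebraMap R (T i)))) (g := Spec.map (CommRingCat.ofHom (algebraMap R B)))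
      z b hz
    refine ⟨Sigma.ι (fun i => Spec (CommRingCat.of (T i ⊗[R] B))) i ((pullbackSpecIso R (T i) B).hom p), ?_⟩
    rw [← Scheme.Hom.comp_apply, Sigma.ι_desc, ← Scheme.Hom.comp_apply]
    rw [show (pullbackSpecIso R (T i) B).hom ≫ famMap i = pullback.snd _ _ from pullbackSpecIso_hom_snd R (T i) B]
    exact hp
  · haveI : IsAffine (∐ fun i => Spec (CommRingCat.of (T i ⊗[R] B))) := inferInstance
    infer_instance

include hT in
/-- Points of algebras are determined on a covering family. -/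
theorem ext_cover {X : Over S} {x y : aff q B ⟶ X}
    (h : ∀ i, affMap q (Algebra.TensorProduct.includeRight : B →ₐ[R] T i ⊗[R] B) ≫ x =
      affMap q (Algebra.TensorProduct.includeRight : B →ₐ[R] T i ⊗[R] B) ≫ y) : x = y := by
  obtain ⟨_, _, _⟩ := flat_desc (B := B) hT
  haveI : Epi (Sigma.desc (famMap (R := R) (T := T) (B := B))) := Flat.epi_of_flat_of_surjective _
  apply Over.OverMorphism.ext
  rw [← cancel_epi (Sigma.desc (famMap (R := R) (T := T) (B := B)))]
  refine Sigma.hom_ext _ _ fun i => ?_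
  rw [Sigma.ι_desc_assoc, Sigma.ι_desc_assoc]
  exact congrArg CommaMorphism.left (h i)

end Over

end GrothLib.MultDef14
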