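import Groth.Agent.Lib.DiagGrp.CharHom
import Groth.Agent.Lib.GrpSchField.Points
import Mathlib.RingTheory.TensorProduct.MonoidAlgebra

/-!
The group `D(M)` over an affine base is diagonalisable.
-/

universe u

open CategoryTheory MonoidalCategory CartesianMonoidalCategory MonObj GrpObj AlgebraicGeometry
open scoped TensorProduct AlgebraMonoidAlgebra

namespace GrothLib.MultDef14

open GrothLib.DiagGrp (dsPoint specPoint HasChartsFpqc)

variable (R : Type u) [CommRing R] (M : Type) [AddCommGroup M]

omit [CommRing R] in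
theorem zalg_hom_ext {B : Type u} [CommRing B] {φ ψ : MonoidAlgebra (ULift.{u} ℤ) (Multiplicative M) →+* B}
    (h : ∀ m, φ (MonoidAlgebra.single m 1) = ψ (MonoidAlgebra.single m 1)) : φ = ψ :=
  MonoidAlgebra.ringHom_ext (fun r => RingHom.congr_fun
    (DiagGrp.ulift_int_hom_ext (φ.comp MonoidAlgebra.singleOneRingHom) (ψ.comp MonoidAlgebra.singleOneRingHom)) r) h

/-- The universal character as a point of the constant diagonalisable group. -/
noncomputable def diagToDS : Red.diag R M ⟶ Red.DS (Spec (CommRingCat.of R)) M :=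
  dsPoint M (Red.diag R M).hom (MonoidAlgebra.of R (Multiplicative M))

theorem specPoint_comp_diagToDS {C : Type u} [CommRing C] [Algebra R C] (χ : Multiplicative M →* C) :
    (specPoint R M C χ) ≫ diagToDS R M =
      dsPoint M ((Spec (CommRingCat.of C)).asOver (Spec (CommRingCat.of R))).hom χ := by
  have hp : Spec.map (CommRingCat.ofHom (MonoidAlgebra.lift R C (Multiplicative M) χ).toRingHom) ≫
      (Red.diag R M).hom = ((Spec (CommRingCat.of C)).asOver (Spec (CommRingCat.of R))).hom :=
    Over.w (specPoint R M C χ)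
  have h := DiagGrp.dsPoint_comp (S := Spec (CommRingCat.of R)) (Red.diag R M).hom _
    (MonoidAlgebra.lift R C (Multiplicative M) χ).toRingHom (MonoidAlgebra.of R (Multiplicative M)) hp
  refine Eq.trans ?_ (h.trans (congrArg _ (MonoidHom.ext fun m => MonoidAlgebra.lift_of χ m)))
  rfl

theorem isIso_diagToDS : IsIso (diagToDS R M) := by
  let tR := Limits.IsTerminal.from specULiftZIsTerminal (Spec (CommRingCat.of R))
  letI : Algebra (ULift.{u} ℤ) R := ((Int.castRingHom R).comp (ULift.ringEquiv (R := ℤ)).toRingHom).toAlgebra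
  have sq : IsPullback (Spec.map (CommRingCat.ofHom (MonoidAlgebra.mapRingHom (Multiplicative M) (algebraMap (ULift.{u} ℤ) R))))
      (Spec.map (CommRingCat.ofHom (algebraMap R (MonoidAlgebra R (Multiplicative M)))))
      (Red.diag (ULift.{u} ℤ) M).hom tR := by
    have e : Spec.map (CommRingCat.ofHom (algebraMap (ULift.{u} ℤ) R)) = tR := specULiftZIsTerminal.hom_ext _ _
    rw [← e]
    refine isPullback_SpecMap_of_isPushout
      (CommRingCat.ofHom (algebraMap (ULift.{u} ℤ) (MonoidAlgebra (ULift.{u} ℤ) (Multiplicative M)))) _ _ _ ?_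
    refine ⟨⟨CommRingCat.hom_ext (DiagGrp.ulift_int_hom_ext _ _)⟩, ⟨Limits.PushoutCocone.IsColimit.mk _
      (fun t => CommRingCat.ofHom (MonoidAlgebra.liftNCRingHom t.inr.hom
        ((t.inl.hom : _ →* _).comp (MonoidAlgebra.of (ULift.{u} ℤ) (Multiplicative M)))
        fun _ _ => Commute.all _ _)) ?_ ?_ ?_⟩⟩
    · intro t
      refine CommRingCat.hom_ext (zalg_hom_ext M fun m => ?_)
      simp
    · intro t
      refine CommRingCat.hom_ext (RingHom.ext fun r => ?_)
      simp [← MonoidAlgebra.one_def]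
    · intro t m h₁ h₂
      refine CommRingCat.hom_ext (MonoidAlgebra.ringHom_ext (fun r => ?_) fun k => ?_)
      · simp [← h₂, ← MonoidAlgebra.one_def]
      · simp [← h₁]
  haveI : IsIso (diagToDS R M).left := by
    have hfst : (diagToDS R M).left ≫ Limits.pullback.fst (Red.diag (ULift.{u} ℤ) M).hom tR =
        Spec.map (CommRingCat.ofHom (MonoidAlgebra.mapRingHom (Multiplicative M) (algebraMap (ULift.{u} ℤ) R))) := by
      have := congrArg CommaMorphism.left (Equiv.symm_apply_apply
        (DiagGrp.bcPoint tR (Red.diag (ULift.{u} ℤ) M) (Over.mk (Red.diag R M).hom))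
        ((DiagGrp.baseIso (Red.diag R M).hom).hom ≫
          @specPoint (ULift.{u} ℤ) _ M _ _ _ (DiagGrp.algZ _) (MonoidAlgebra.of R (Multiplicative M))))
      change (diagToDS R M).left ≫ Limits.pullback.fst (Red.diag (ULift.{u} ℤ) M).hom tR = 𝟙 _ ≫ Spec.map _ at this
      rw [this, Category.id_comp]
      congr 2
      refine zalg_hom_ext M fun m => ?_
      simp [DiagGrp.convEquiv]
      exact @one_smul (ULift.{u} ℤ) _ _ (@Algebra.toModule _ _ _ _ (DiagGrp.algZ _)).toMulAction _
    have hsnd : (diagToDS R M).left ≫ Limits.pullback.snd (Red.diag (ULift.{u} ℤ) M).hom tR =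
        Spec.map (CommRingCat.ofHom (algebraMap R (MonoidAlgebra R (Multiplicative M)))) := Over.w (diagToDS R M)
    have e : (diagToDS R M).left = sq.isoPullback.hom := by
      apply Limits.pullback.hom_ext
      · exact hfst.trans sq.isoPullback_hom_fst.symm
      · exact hsnd.trans sq.isoPullback_hom_snd.symm
    rw [e]
    infer_instance
  haveI : IsIso ((Over.forget _).map (diagToDS R M)) := ‹IsIso (diagToDS R M).left›
  exact isIso_of_reflects_iso (diagToDS R M) (Over.forget _)

theorem isMonHom_diagToDS : IsMonHom (diagToDS R M) := by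
  let C := MonoidAlgebra R (Multiplicative M)
  let W : Over (Spec (CommRingCat.of R)) := (Spec (CommRingCat.of (C ⊗[R] C))).asOver (Spec (CommRingCat.of R))
  refine GrpSchField.isMonHom_of_mul (diagToDS R M) ?_
  let e : W ≅ Red.diag R M ⊗ Red.diag R M := Over.isoMk (pullbackSpecIso R C C).symm (by
    simp only [Over.tensorObj_hom, Iso.symm_hom]
    refine (pullbackSpecIso_inv_fst_assoc R C C _).trans ?_
    change Spec.map _ ≫ Spec.map _ = Spec.map _
    rw [← Spec.map_comp, ← CommRingCat.ofHom_comp])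
  rw [← cancel_epi e.hom, ← lift_fst_comp_snd_comp, ← Hom.mul_def, ← Category.assoc, MonObj.comp_mul,
    show e.hom ≫ μ = (e.hom ≫ fst _ _) * (e.hom ≫ snd _ _) by
      rw [← MonObj.comp_mul, Hom.mul_def, lift_fst_snd, Category.id_comp],
    ← Category.assoc e.hom (fst _ _), ← Category.assoc e.hom (snd _ _)]
  obtain ⟨χ, hχ⟩ := (specPoint R M (C ⊗[R] C)).surjective (e.hom ≫ fst _ _)
  obtain ⟨χ', hχ'⟩ := (specPoint R M (C ⊗[R] C)).surjective (e.hom ≫ snd _ _)
  rw [← hχ, ← hχ', ← map_mul, specPoint_comp_diagToDS, specPoint_comp_diagToDS, specPoint_comp_diagToDS]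
  exact map_mul _ _ _

theorem hasChartsFpqc_diag (Q : ∀ (M : Type), AddCommGroup M → Prop) (hM : Q M inferInstance) :
    HasChartsFpqc Q (Red.diag R M) := by
  haveI := isMonHom_diagToDS R M
  haveI := isIso_diagToDS R M
  let e : Grp.mk (Red.diag R M) ≅ Grp.mk (Red.DS (Spec (CommRingCat.of R)) M) := Grp.mkIso (asIso (diagToDS R M)) (IsMonHom.one_hom _) (IsMonHom.mul_hom _)
  exact DiagGrp.hasChartsFpqc_of_chart ⟨M, inferInstance, hM,
    ⟨((Over.pullback (𝟙 _)).mapGrp.mapIso e).trans (DiagGrp.bcGrpComp (Red.diag (ULift.{u} ℤ) M)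
      (Limits.IsTerminal.from specULiftZIsTerminal _) (𝟙 _) (Limits.IsTerminal.from specULiftZIsTerminal _)
      (Category.id_comp _).symm).symm⟩⟩

end GrothLib.MultDef14
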