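import Groth.Agent.Lib.MultDef14.Successive
import Groth.Agent.Lib.LocalPts.FiniteComplete

/-!
Homomorphisms out of finite groups of multiplicative type over a complete Noetherian local ring.
-/

universe u

open CategoryTheory MonoidalCategory CartesianMonoidalCategory MonObj GrpObj AlgebraicGeometry IsLocalRing
open scoped TensorProduct

set_option backward.isDefEq.respectTransparency false

namespace GrothLib.MultDef14

open GrothLib.DiagGrp (HasChartsFpqc bcPoint bcPointMulEquiv)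

section Univ

variable {R : Type u} [CommRing R] {H : Over (Spec (CommRingCat.of R))} {B : Type u} [CommRing B] [Algebra R B]
  {h : aff (𝟙 (Spec (CommRingCat.of R))) B ⟶ H}

theorem isIso_univ (hu : IsUniv (𝟙 (Spec (CommRingCat.of R))) h) : IsIso h := by
  obtain ⟨t, htp, hth⟩ := hu.factor H (toUnit H ≫ unitTo) (𝟙 H)
  refine ⟨t, ?_, hth⟩
  have hw : (h ≫ t).left ≫ Spec.map (CommRingCat.ofHom (algebraMap R B)) ≫ 𝟙 _ =
      Spec.map (CommRingCat.ofHom (algebraMap R B)) ≫ 𝟙 _ := Over.w (h ≫ t)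
  rw [Category.comp_id] at hw
  have hφ : CommRingCat.ofHom (algebraMap R B) ≫ Spec.preimage (h ≫ t).left = CommRingCat.ofHom (algebraMap R B) := by
    apply Spec.map_injective
    rw [Spec.map_comp, Spec.map_preimage, hw]
  let φ : B →ₐ[R] B := ⟨(Spec.preimage (h ≫ t).left).hom, fun r => congr($(hφ).hom r)⟩
  have e : h ≫ t = affMap _ φ := Over.OverMorphism.ext (Spec.map_preimage _).symm
  have hid : φ = AlgHom.id R B := (hu.bij B).1 (by
    dsimp only
    rw [← e, Category.assoc, hth, Category.comp_id, affMap_id, Category.id_comp])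
  rw [e, hid, affMap_id]

theorem moduleFinite_univ [IsFinite H.hom] (hu : IsUniv (𝟙 (Spec (CommRingCat.of R))) h) : Module.Finite R B := by
  haveI := isIso_univ hu
  haveI : IsIso h.left := inferInstanceAs (IsIso ((Over.forget _).map h))
  have e : Spec.map (CommRingCat.ofHom (algebraMap R B)) = h.left ≫ H.hom := by
    rw [Over.w h]
    exact (Category.comp_id _).symm
  have hf : IsFinite (Spec.map (CommRingCat.ofHom (algebraMap R B))) := by rw [e]; infer_instance
  rw [IsFinite.SpecMap_iff] at hf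
  exact RingHom.finite_algebraMap.mp hf

end Univ

variable {R : Type u} [CommRing R] [IsLocalRing R] [IsNoetherianRing R] [IsAdicComplete (maximalIdeal R) R]
variable {H G : Over (Spec (CommRingCat.of R))} [GrpObj H] [GrpObj G] [IsFinite H.hom]
variable {Q : ∀ (M : Type), AddCommGroup M → Prop} (hH : HasChartsFpqc Q H)

include hH

/-- Homomorphisms from the closed fibre lift. -/
theorem exists_hom_complete (hG : MoreMor.IsFormallySmoothHom G.hom)
    (f₀ : Red.bc (Spec.map (CommRingCat.ofHom (Ideal.Quotient.mk (maximalIdeal R)))) H ⟶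
      Red.bc (Spec.map (CommRingCat.ofHom (Ideal.Quotient.mk (maximalIdeal R)))) G) [IsMonHom f₀] :
    ∃ f : H ⟶ G, IsMonHom f ∧
      (Over.pullback (Spec.map (CommRingCat.ofHom (Ideal.Quotient.mk (maximalIdeal R))))).map f = f₀ := by
  let q := 𝟙 (Spec (CommRingCat.of R))
  obtain ⟨B, _, _, h, hu⟩ := exists_isUniv q H (EssFree.isAffineHom_of_charts hH)
  haveI := moduleFinite_univ hu
  obtain ⟨Δ, hΔ⟩ := hu.exists_isComul
  obtain ⟨a₀, ha₀, hred⟩ := exists_point_of_hom₀ hu (maximalIdeal R) f₀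
  let P : ℕ → Type u := fun k =>
    { a : aff q (B ⧸ (maximalIdeal R ^ (k + 1)).map (algebraMap R B)) ⟶ G //
      IsHomPt (affMap q (Ideal.Quotient.mkₐ R ((maximalIdeal R ^ (k + 1)).map (algebraMap R B))) ≫ h) a }
  have h01 : maximalIdeal R ^ (0 + 1) ≤ maximalIdeal R := by rw [zero_add, pow_one]
  have hstart : ∃ v : P 0, affMap q (Ideal.Quotient.factorₐ R (Ideal.map_mono (f := algebraMap R B) h01)) ≫ v.1 = a₀ := by
    obtain ⟨a, ha, hah⟩ := exists_homPt_mod hH hG hu _ _ h01 (k := 1) (by rw [zero_add]) a₀ ha₀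
    exact ⟨⟨a, hah⟩, ha⟩
  have hle : ∀ k : ℕ, maximalIdeal R ^ (k + 1 + 1) ≤ maximalIdeal R ^ (k + 1) := fun k =>
    Ideal.pow_le_pow_right (Nat.le_succ _)
  have hstep : ∀ (k : ℕ) (v : P k), ∃ w : P (k + 1),
      affMap q (Ideal.Quotient.factorₐ R (Ideal.map_mono (f := algebraMap R B) (hle k))) ≫ w.1 = v.1 := fun k v => by
    obtain ⟨a, ha, hah⟩ := exists_homPt_mod hH hG hu _ _ (hle k) (k := 2)
      ((pow_mul (maximalIdeal R) (k + 1) 2).symm.trans_le (Ideal.pow_le_pow_right (by lia))) v.1 v.2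
    exact ⟨⟨a, hah⟩, ha⟩
  choose nx hnx using hstep
  obtain ⟨v0, hv0⟩ := hstart
  let v : ∀ k, P k := fun k => Nat.rec v0 nx k
  have hv : ∀ k, affMap q (Ideal.Quotient.factorₐ R (Ideal.map_mono (f := algebraMap R B) (hle k))) ≫ (v (k + 1)).1 =
      (v k).1 := fun k => hnx k (v k)
  let fac : ∀ n : ℕ, (B ⧸ (maximalIdeal R ^ (n + 1)).map (algebraMap R B)) →ₐ[R]
      B ⧸ (maximalIdeal R ^ n).map (algebraMap R B) := fun n =>
    Ideal.Quotient.factorₐ R (Ideal.map_mono (f := algebraMap R B) (Ideal.pow_le_pow_right n.le_succ))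
  have hfac : ∀ n, (fac n).comp (Ideal.Quotient.mkₐ R _) = Ideal.Quotient.mkₐ R _ := fun n => AlgHom.ext fun _ => rfl
  let u : ∀ n : ℕ, aff q (B ⧸ (maximalIdeal R ^ n).map (algebraMap R B)) ⟶ G := fun n => affMap q (fac n) ≫ (v n).1
  have huh : ∀ n, IsHomPt (affMap q (Ideal.Quotient.mkₐ R ((maximalIdeal R ^ n).map (algebraMap R B))) ≫ h) (u n) :=
    fun n => by
      have := (v n).2.map (fac n)
      rwa [affMap_comp_assoc, hfac] at this
  obtain ⟨F, hF⟩ := LocalPts.exists_hom_finite (B := B) R (fun n => (u n).left) fun n =>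
    congrArg CommaMorphism.left (show affMap q (fac n) ≫ u (n + 1) = u n from congrArg (affMap q (fac n) ≫ ·) (hv n))
  have hw : F ≫ G.hom = (aff q B).hom := LocalPts.hom_ext_finite R _ _ fun n => by
    rw [← Category.assoc, hF n, Over.w (u n)]
    exact (Over.w (affMap q (Ideal.Quotient.mkₐ R ((maximalIdeal R ^ n).map (algebraMap R B))))).symm
  let a : aff q B ⟶ G := Over.homMk F hw
  have ha : ∀ n, affMap q (Ideal.Quotient.mkₐ R ((maximalIdeal R ^ n).map (algebraMap R B))) ≫ a = u n := fun n =>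
    Over.OverMorphism.ext (hF n)
  have hah : IsHomPt h a := isHomPt_of_comul hu hΔ (Over.OverMorphism.ext (LocalPts.hom_ext_finite R _ _ fun n => by
    refine congrArg CommaMorphism.left (?_ : affMap q (Ideal.Quotient.mkₐ R ((maximalIdeal R ^ n).map
      (algebraMap R (B ⊗[R] B)))) ≫ (affMap q Δ ≫ a) = affMap q (Ideal.Quotient.mkₐ R ((maximalIdeal R ^ n).map
      (algebraMap R (B ⊗[R] B)))) ≫ ((affMap q Algebra.TensorProduct.includeLeft ≫ a) *
        (affMap q Algebra.TensorProduct.includeRight ≫ a)))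
    have e : ∀ f : B →ₐ[R] B ⊗[R] B, (Ideal.Quotient.mkₐ R ((maximalIdeal R ^ n).map
        (algebraMap R (B ⊗[R] B)))).comp f = (quotMap (maximalIdeal R ^ n) f).comp (Ideal.Quotient.mkₐ R _) :=
      fun f => AlgHom.ext fun _ => rfl
    simp only [MonObj.comp_mul, affMap_comp_assoc, e]
    simp only [← affMap_comp_assoc, ha]
    refine huh n _ _ _ _ ?_
    simp only [affMap_comp_assoc, ← e]
    simp only [← affMap_comp_assoc, ← MonObj.comp_mul]
    exact congrArg _ hΔ))
  obtain ⟨w, hwm, hw'⟩ := exists_hom_of_homPt hu hah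
  refine ⟨w, hwm, hred w ?_⟩
  rw [hw', show Ideal.Quotient.mkₐ R ((maximalIdeal R).map (algebraMap R B)) =
    (Ideal.Quotient.factorₐ R (Ideal.map_mono (f := algebraMap R B) h01)).comp (Ideal.Quotient.mkₐ R _) from
      AlgHom.ext fun _ => rfl, ← affMap_comp_assoc, ha]
  refine Eq.trans ?_ hv0
  exact congrArg (affMap q _ ≫ ·) (hv 0)

/-- Homomorphisms agreeing on the closed fibre are conjugate by a point reducing to the unit. -/
theorem exists_conj_complete (hG : MoreMor.IsFormallySmoothHom G.hom) (f f' : H ⟶ G) [IsMonHom f] [IsMonHom f']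
    (he : (Over.pullback (Spec.map (CommRingCat.ofHom (Ideal.Quotient.mk (maximalIdeal R))))).map f =
      (Over.pullback (Spec.map (CommRingCat.ofHom (Ideal.Quotient.mk (maximalIdeal R))))).map f') :
    ∃ g : 𝟙_ (Over (Spec (CommRingCat.of R))) ⟶ G,
      (Over.pullback (Spec.map (CommRingCat.ofHom (Ideal.Quotient.mk (maximalIdeal R))))).map g =
        toUnit _ ≫ η[Red.bc (Spec.map (CommRingCat.ofHom (Ideal.Quotient.mk (maximalIdeal R)))) G] ∧
      ConjOn f f' g := by
  let q := 𝟙 (Spec (CommRingCat.of R))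
  let z := Spec.map (CommRingCat.ofHom (Ideal.Quotient.mk (maximalIdeal R)))
  have hHa := EssFree.isAffineHom_of_charts hH
  obtain ⟨B, _, _, h, hu⟩ := exists_isUniv q H hHa
  haveI := moduleFinite_univ hu
  let P : ℕ → Type u := fun k => { g : aff q (R ⧸ maximalIdeal R ^ (k + 1)) ⟶ G // ConjOn f f' g }
  have h01 : maximalIdeal R ^ (0 + 1) ≤ maximalIdeal R := by rw [zero_add, pow_one]
  have toClosed : ∀ (Y : Over (Spec (CommRingCat.of R))), (Y ⟶ aff q (R ⧸ maximalIdeal R ^ (0 + 1))) →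
      ∃ b : Y.left ⟶ Spec (CommRingCat.of (R ⧸ maximalIdeal R)), b ≫ z = Y.hom := fun Y p => by
    have h10 : maximalIdeal R ≤ maximalIdeal R ^ (0 + 1) := by rw [zero_add, pow_one]
    refine ⟨p.left ≫ Spec.map (CommRingCat.ofHom (Ideal.Quotient.factor h10)), ?_⟩
    rw [Category.assoc, ← Spec.map_comp, ← CommRingCat.ofHom_comp, Ideal.Quotient.factor_comp_mk, ← Over.w p]
    change _ = p.left ≫ Spec.map _ ≫ 𝟙 _
    rw [Category.comp_id]
    rfl
  have h1 : ConjOn f f' (1 : aff q (R ⧸ maximalIdeal R ^ (0 + 1)) ⟶ G) := fun Y p y => by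
    rw [MonObj.comp_one, _root_.one_mul, inv_one, _root_.mul_one]
    obtain ⟨b, hb⟩ := toClosed Y p
    let i : Y ⟶ (Over.map z).obj (Over.mk b) := Over.homMk (𝟙 _) ((Category.id_comp _).trans hb)
    let i' : (Over.map z).obj (Over.mk b) ⟶ Y := Over.homMk (𝟙 _) ((Category.id_comp _).trans hb.symm)
    have e : (i' ≫ y) ≫ f' = (i' ≫ y) ≫ f := (bcPoint z G _).injective (by
      rw [DiagGrp.bcPoint_comp_right z (i' ≫ y) f', DiagGrp.bcPoint_comp_right z (i' ≫ y) f, he])
    have e2 := congrArg (i ≫ ·) e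
    simp only [← Category.assoc, show i ≫ i' = 𝟙 _ from Over.OverMorphism.ext (Category.id_comp _),
      Category.id_comp] at e2
    exact e2
  have hle : ∀ k : ℕ, maximalIdeal R ^ (k + 1 + 1) ≤ maximalIdeal R ^ (k + 1) := fun k =>
    Ideal.pow_le_pow_right (Nat.le_succ _)
  have hstep : ∀ (k : ℕ) (v : P k), ∃ w : P (k + 1),
      affMap q (Ideal.Quotient.factorₐ R (hle k)) ≫ w.1 = v.1 := fun k v => by
    let T := R ⧸ maximalIdeal R ^ (k + 1 + 1)
    let J' := (maximalIdeal R ^ (k + 1)).map (algebraMap R T)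
    have hnil : IsNilpotent J' := ⟨2, by
      rw [← Ideal.map_pow, Ideal.Quotient.algebraMap_eq]
      exact Ideal.map_eq_bot_iff_le_ker _ |>.mpr (((pow_mul (maximalIdeal R) (k + 1) 2).symm.trans_le
        (Ideal.pow_le_pow_right (by lia))).trans_eq Ideal.mk_ker.symm)⟩
    let κ : R ⧸ maximalIdeal R ^ (k + 1) →ₐ[R] T ⧸ J' :=
      Ideal.Quotient.liftₐ _ (Algebra.ofId R (T ⧸ J')) fun x hx =>
        Ideal.Quotient.eq_zero_iff_mem.mpr (Ideal.mem_map_of_mem (algebraMap R T) hx)
    let lam : T ⧸ J' →ₐ[R] R ⧸ maximalIdeal R ^ (k + 1) :=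
      Ideal.Quotient.liftₐ _ (Ideal.Quotient.factorₐ R (hle k)) fun x hx => by
        have : J' ≤ RingHom.ker (Ideal.Quotient.factorₐ R (hle k)) := by
          rw [Ideal.map_le_iff_le_comap]
          exact fun r hr => Ideal.Quotient.eq_zero_iff_mem.mpr hr
        exact this hx
    have hlk : lam.comp κ = AlgHom.id R _ := Ideal.Quotient.algHom_ext R (Subsingleton.elim _ _)
    have hl : lam.comp (Ideal.Quotient.mkₐ R J') = Ideal.Quotient.factorₐ R (hle k) := AlgHom.ext fun _ => rfl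
    obtain ⟨g', hg', hgc⟩ := exists_conjOn_lift hH hHa f f' hG (baseMap q T) J' hnil
      (chgTo q T _ ≫ affMap q κ ≫ v.1) ((v.2.comp _).comp _)
    refine ⟨⟨chgFrom q T T ≫ g', hgc.comp _⟩, ?_⟩
    have e : affMap q (Ideal.Quotient.mkₐ R J') ≫ chgFrom q T T ≫ g' = affMap q κ ≫ v.1 := by
      refine chgTo_injective q T _ ?_
      rw [← hg', show Ideal.Quotient.mkₐ R J' = (Ideal.Quotient.mkₐ T J').restrictScalars R from rfl,
        ← chgTo_comp_assoc, ← Category.assoc (chgTo q T T), chgTo_from, Category.id_comp]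
    rw [← hl]
    refine (affMap_quot_comp _ lam _ _ hlk _ _ e).trans ?_
    rw [affMap_id, Category.id_comp]
  choose nx hnx using hstep
  let v : ∀ k, P k := fun k => Nat.rec ⟨1, h1⟩ nx k
  have hv : ∀ k, affMap q (Ideal.Quotient.factorₐ R (hle k)) ≫ (v (k + 1)).1 = (v k).1 := fun k => hnx k (v k)
  let fac : ∀ n : ℕ, (R ⧸ maximalIdeal R ^ (n + 1)) →ₐ[R] R ⧸ (maximalIdeal R ^ n).map (algebraMap R R) := fun n =>
    Ideal.Quotient.factorₐ R (by rw [Algebra.algebraMap_self, Ideal.map_id]; exact Ideal.pow_le_pow_right n.le_succ)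
  let u : ∀ n : ℕ, aff q (R ⧸ (maximalIdeal R ^ n).map (algebraMap R R)) ⟶ G := fun n => affMap q (fac n) ≫ (v n).1
  obtain ⟨F, hF⟩ := LocalPts.exists_hom_finite (B := R) R (fun n => (u n).left) fun n =>
    congrArg CommaMorphism.left (show affMap q (Ideal.Quotient.factorₐ R
        (Ideal.map_mono (f := algebraMap R R) (Ideal.pow_le_pow_right n.le_succ))) ≫ u (n + 1) = u n from by
      simp only [u]
      rw [← hv n, affMap_comp_assoc, affMap_comp_assoc]
      congr 2
      exact Ideal.Quotient.algHom_ext R (Subsingleton.elim _ _))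
  have hw : F ≫ G.hom = (aff q R).hom := LocalPts.hom_ext_finite R _ _ fun n => by
    rw [← Category.assoc, hF n, Over.w (u n)]
    exact (Over.w (affMap q (Ideal.Quotient.mkₐ R ((maximalIdeal R ^ n).map (algebraMap R R))))).symm
  let g₁ : aff q R ⟶ G := Over.homMk F hw
  have hg₁ : ∀ n, affMap q (Ideal.Quotient.mkₐ R ((maximalIdeal R ^ n).map (algebraMap R R))) ≫ g₁ = u n := fun n =>
    Over.OverMorphism.ext (hF n)
  set Pr := affMap q (Algebra.ofId R B) with hPr
  have key : h ≫ f' = (Pr ≫ g₁) * (h ≫ f) * (Pr ≫ g₁)⁻¹ :=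
    Over.OverMorphism.ext (LocalPts.hom_ext_finite R _ _ fun n => by
      let p₀ : R ⧸ (maximalIdeal R ^ n).map (algebraMap R R) →ₐ[R] B ⧸ (maximalIdeal R ^ n).map (algebraMap R B) :=
        quotMap (maximalIdeal R ^ n) (Algebra.ofId R B)
      refine congrArg CommaMorphism.left (?_ : affMap q (Ideal.Quotient.mkₐ R ((maximalIdeal R ^ n).map
        (algebraMap R B))) ≫ h ≫ f' = affMap q (Ideal.Quotient.mkₐ R ((maximalIdeal R ^ n).map
        (algebraMap R B))) ≫ ((Pr ≫ g₁) * (h ≫ f) * (Pr ≫ g₁)⁻¹))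
      have e : (Ideal.Quotient.mkₐ R ((maximalIdeal R ^ n).map (algebraMap R B))).comp (Algebra.ofId R B) =
          p₀.comp (Ideal.Quotient.mkₐ R _) := Subsingleton.elim _ _
      simp only [MonObj.comp_mul, GrpObj.comp_inv, hPr, affMap_comp_assoc, e]
      simp only [← affMap_comp_assoc, hg₁, ← Category.assoc _ h]
      have := (v n).2 _ (affMap q (p₀.comp (fac n))) (affMap q (Ideal.Quotient.mkₐ R _) ≫ h)
      rw [this]
      simp only [u, affMap_comp_assoc])
  refine ⟨unitTo ≫ g₁, ?_, fun Y p y => ?_⟩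
  · apply (bcPoint z G _).symm.injective
    change (bcPoint z G (Red.bc z (𝟙_ _))).symm ((Over.pullback z).map (unitTo ≫ g₁)) = _
    rw [show (Over.pullback z).map (unitTo ≫ g₁) = bcPoint z G _
      ((bcPoint z (𝟙_ (Over (Spec (CommRingCat.of R)))) _).symm (𝟙 (Red.bc z (𝟙_ _))) ≫ unitTo ≫ g₁) by
        rw [DiagGrp.bcPoint_comp_right, Equiv.apply_symm_apply, Category.id_comp], Equiv.symm_apply_apply,
      ← Hom.one_def, show (bcPoint z G (Red.bc z (𝟙_ _))).symm 1 = 1 from map_one (bcPointMulEquiv z G _).symm]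
    let T₁ := R ⧸ (maximalIdeal R ^ 1).map (algebraMap R R)
    have h10 : (maximalIdeal R ^ 1).map (algebraMap R R) ≤ maximalIdeal R := by
      rw [Algebra.algebraMap_self, Ideal.map_id, pow_one]
    let w : (Over.map z).obj (Red.bc z (𝟙_ (Over (Spec (CommRingCat.of R))))) ⟶ aff q T₁ :=
      Over.homMk ((Red.bc z (𝟙_ (Over (Spec (CommRingCat.of R))))).hom ≫
        Spec.map (CommRingCat.ofHom (Ideal.Quotient.factor h10))) (by
        change (_ ≫ Spec.map _) ≫ Spec.map _ ≫ 𝟙 _ = _ ≫ z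
        rw [Category.comp_id, Category.assoc, ← Spec.map_comp, ← CommRingCat.ofHom_comp]
        congr 3)
    have e : (bcPoint z (𝟙_ (Over (Spec (CommRingCat.of R)))) _).symm (𝟙 (Red.bc z (𝟙_ _))) ≫ unitTo =
        w ≫ affMap q (Ideal.Quotient.mkₐ R _) := by
      refine Eq.trans ?_ (show w ≫ affMap q (Ideal.Quotient.mkₐ R _) ≫ toUnit (aff q R) ≫ unitTo =
        w ≫ affMap q (Ideal.Quotient.mkₐ R _) from ?_)
      · rw [← Category.assoc (affMap q _), ← Category.assoc w]
        congr 1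
        exact toUnit_unique _ _
      · rw [show toUnit (aff q R) ≫ unitTo = 𝟙 _ from Over.OverMorphism.ext (by
          change Spec.map (CommRingCat.ofHom (algebraMap R R)) ≫ 𝟙 _ ≫ 𝟙 _ = 𝟙 _
          rw [Category.comp_id, Category.comp_id, Algebra.algebraMap_self, CommRingCat.ofHom_id]
          exact Spec.map_id _), Category.comp_id]
    rw [reassoc_of% e, hg₁]
    change w ≫ affMap q (fac 1) ≫ (v 1).1 = 1
    rw [show fac 1 = (Ideal.Quotient.factorₐ R
        (show maximalIdeal R ^ (0 + 1) ≤ (maximalIdeal R ^ 1).map (algebraMap R R) by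
          rw [Algebra.algebraMap_self, Ideal.map_id, zero_add])).comp (Ideal.Quotient.factorₐ R (hle 0)) from
        Ideal.Quotient.algHom_ext R (Subsingleton.elim _ _), ← affMap_comp_assoc]
    refine (congrArg (fun t => w ≫ affMap q _ ≫ t) (hv 0)).trans ?_
    change w ≫ affMap q _ ≫ 1 = 1
    rw [MonObj.comp_one, MonObj.comp_one]
  · obtain ⟨t, htp, hty⟩ := hu.factor Y (p ≫ unitTo) y
    rw [← Category.assoc, ← htp, ← hty, Category.assoc, Category.assoc, key, MonObj.comp_mul, MonObj.comp_mul,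
      GrpObj.comp_inv, Category.assoc]

end GrothLib.MultDef14
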