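import Groth.Agent.Lib.MultDef14.Chart
import Groth.Prelude.Def_MoreMor
import Mathlib.RingTheory.Ideal.Quotient.Operations

/-!
Homomorphisms from a group of multiplicative type which are conjugate modulo a nilpotent ideal are conjugate.
-/

universe u

open CategoryTheory MonoidalCategory CartesianMonoidalCategory MonObj GrpObj AlgebraicGeometry
open scoped TensorProduct

set_option backward.isDefEq.respectTransparency false

namespace GrothLib.MultDef14

variable {S : Scheme.{u}} {H G : Over S} [GrpObj H] [GrpObj G]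

/-- `g` conjugates `u` into `v` on all points. -/
def ConjOn (u v : H ⟶ G) {X : Over S} (g : X ⟶ G) : Prop :=
  ∀ (Y : Over S) (p : Y ⟶ X) (h : Y ⟶ H), h ≫ v = (p ≫ g) * (h ≫ u) * (p ≫ g)⁻¹

omit [GrpObj H] in
theorem ConjOn.comp {u v : H ⟶ G} {X X' : Over S} {g : X ⟶ G} (hg : ConjOn u v g) (k : X' ⟶ X) :
    ConjOn u v (k ≫ g) := fun Y p h => by
  have := hg Y (p ≫ k) h
  simpa [Category.assoc] using this

variable {Q : ∀ (M : Type), AddCommGroup M → Prop} (hH : DiagGrp.HasChartsFpqc Q H) (hHa : IsAffineHom H.hom)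
  (u v : H ⟶ G) [IsMonHom u] [IsMonHom v]

include hH hHa in
/-- The square-zero step: a point conjugating `u` into `v` modulo a square-zero ideal can be corrected. -/
theorem exists_conjOn_step {R : Type u} [CommRing R] (q : Spec (CommRingCat.of R) ⟶ S) (J : Ideal R)
    (hJ : J ^ 2 = ⊥) (g₁ : aff q R ⟶ G) (h0 : ConjOn u v (affMap q (Ideal.Quotient.mkₐ R J) ≫ g₁)) :
    ∃ g : aff q R ⟶ G, affMap q (Ideal.Quotient.mkₐ R J) ≫ g = affMap q (Ideal.Quotient.mkₐ R J) ≫ g₁ ∧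
      ConjOn u v g := by
  obtain ⟨A, _, _, h, hu⟩ := exists_isUniv q H hHa
  obtain ⟨Δ, hΔ⟩ := hu.exists_isComul
  obtain ⟨ε, h1, hε⟩ := exists_mean hH q hu hΔ
  set P := affMap q (Algebra.ofId R A) with hP
  set a₀ := (P ≫ g₁) * (h ≫ u) * (P ≫ g₁)⁻¹ with ha₀
  set d := (h ≫ v) * a₀⁻¹ with hd₀
  have hd : affMap q (Ideal.Quotient.mkₐ R (J.map (algebraMap R A))) ≫ d = 1 := by
    have := h0 _ (affMap q (quotA (A := A) J)) (affMap q (Ideal.Quotient.mkₐ R (J.map (algebraMap R A))) ≫ h)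
    have e : (quotA J).comp (Ideal.Quotient.mkₐ R J) =
        (Ideal.Quotient.mkₐ R (J.map (algebraMap R A))).comp (Algebra.ofId R A) := AlgHom.ext fun _ => rfl
    rw [affMap_comp_assoc, e, Category.assoc, Category.assoc] at this
    rw [hd₀, ha₀]
    simp only [MonObj.comp_mul, GrpObj.comp_inv, this, hP, affMap_comp_assoc, mul_inv_cancel]
  have ha : affMap q Δ ≫ a₀ = (affMap q Algebra.TensorProduct.includeLeft ≫ a₀) *
      (affMap q Algebra.TensorProduct.includeRight ≫ a₀) := by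
    have e₀ : ∀ f : A →ₐ[R] A ⊗[R] A, f.comp (Algebra.ofId R A) = Algebra.ofId R (A ⊗[R] A) :=
      fun f => AlgHom.ext fun r => f.commutes r
    simp only [ha₀, hP, MonObj.comp_mul, GrpObj.comp_inv, affMap_comp_assoc, e₀]
    rw [← Category.assoc (affMap q Δ), hΔ, MonObj.mul_comp, Category.assoc, Category.assoc]
    group
  have hv : affMap q Δ ≫ h ≫ v = (affMap q Algebra.TensorProduct.includeLeft ≫ h ≫ v) *
      (affMap q Algebra.TensorProduct.includeRight ≫ h ≫ v) := by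
    rw [← Category.assoc, hΔ, MonObj.mul_comp, Category.assoc, Category.assoc]
  obtain ⟨x, hx, hxd⟩ := exists_coboundary q J hJ ε h1 Δ hε a₀ d hd (by
    rw [hd₀]
    simp only [MonObj.comp_mul, GrpObj.comp_inv, hv, ha]
    group)
  refine ⟨x * g₁, by rw [MonObj.comp_mul, hx, _root_.one_mul], fun Y p y => ?_⟩
  obtain ⟨t, htp, hty⟩ := hu.factor Y p y
  have hxd' : h ≫ v = (P ≫ (x * g₁)) * (h ≫ u) * (P ≫ (x * g₁))⁻¹ := by
    have e : d * a₀ = h ≫ v := by rw [hd₀, inv_mul_cancel_right]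
    rw [e] at hxd
    rw [hxd, ha₀, MonObj.comp_mul, hP]
    group
  rw [← htp, ← hty, Category.assoc, Category.assoc, Category.assoc, hxd', MonObj.comp_mul, MonObj.comp_mul,
    GrpObj.comp_inv]

omit [GrpObj H] [GrpObj G] in
/-- Points lift along square-zero thickenings. -/
theorem exists_lift_point (hG : MoreMor.IsFormallySmoothHom G.hom) {R : Type u} [CommRing R]
    (q : Spec (CommRingCat.of R) ⟶ S) (J : Ideal R) (hJ : J ^ 2 = ⊥) (g₀ : aff q (R ⧸ J) ⟶ G) :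
    ∃ g : aff q R ⟶ G, affMap q (Ideal.Quotient.mkₐ R J) ≫ g = g₀ := by
  obtain ⟨l, hl, hlG⟩ := hG R J hJ g₀.left (aff q R).hom
    ((Over.w (affMap q (Ideal.Quotient.mkₐ R J))).trans (Over.w g₀).symm)
  exact ⟨Over.homMk l hlG, Over.OverMorphism.ext hl⟩

include hH hHa in
/-- For a formally smooth target, points conjugating `u` into `v` lift along nilpotent thickenings. -/
theorem exists_conjOn_lift (hG : MoreMor.IsFormallySmoothHom G.hom) :
    ∀ {R : Type u} [CommRing R] (q : Spec (CommRingCat.of R) ⟶ S) (J : Ideal R), IsNilpotent J →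
      ∀ g₀ : aff q (R ⧸ J) ⟶ G, ConjOn u v g₀ →
        ∃ g : aff q R ⟶ G, affMap q (Ideal.Quotient.mkₐ R J) ≫ g = g₀ ∧ ConjOn u v g := by
  suffices key : ∀ (n : ℕ) {R : Type u} [CommRing R] (q : Spec (CommRingCat.of R) ⟶ S) (J : Ideal R),
      J ^ n = ⊥ → ∀ g₀ : aff q (R ⧸ J) ⟶ G, ConjOn u v g₀ →
        ∃ g : aff q R ⟶ G, affMap q (Ideal.Quotient.mkₐ R J) ≫ g = g₀ ∧ ConjOn u v g by
    intro R _ q J ⟨n, hn⟩
    exact key n q J hn
  intro n
  induction n with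
  | zero =>
    intro R _ q J hJ g₀ h0
    have hJ2 : J ^ 2 = ⊥ := le_bot_iff.mp (hJ ▸ Ideal.pow_le_pow_right (Nat.zero_le 2))
    obtain ⟨g₁, rfl⟩ := exists_lift_point hG q J hJ2 g₀
    exact exists_conjOn_step hH hHa u v q J hJ2 g₁ h0
  | succ n IH =>
    intro R _ q J hJ g₀ h0
    by_cases hn : n ≤ 1
    · have hJ2 : J ^ 2 = ⊥ := le_bot_iff.mp (hJ ▸ Ideal.pow_le_pow_right (by omega))
      obtain ⟨g₁, rfl⟩ := exists_lift_point hG q J hJ2 g₀
      exact exists_conjOn_step hH hHa u v q J hJ2 g₁ h0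
    let I := J ^ n
    have hIJ : I ≤ J := Ideal.pow_le_self (by omega)
    have hI2 : I ^ 2 = ⊥ := le_bot_iff.mp (hJ ▸ by rw [← pow_mul]; exact Ideal.pow_le_pow_right (by omega))
    let q' : Spec (CommRingCat.of (R ⧸ I)) ⟶ S := Spec.map (CommRingCat.ofHom (Ideal.Quotient.mk I)) ≫ q
    let J' : Ideal (R ⧸ I) := J.map (Ideal.Quotient.mk I)
    have hJ' : J' ^ n = ⊥ := by rw [← Ideal.map_pow]; exact Ideal.map_quotient_self I
    let e := DoubleQuot.quotQuotEquivQuotOfLE hIJ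
    let k₁ : aff q' ((R ⧸ I) ⧸ J') ⟶ aff q (R ⧸ J) := Over.homMk (Spec.map (CommRingCat.ofHom e.symm.toRingHom)) (by
      change Spec.map _ ≫ Spec.map _ ≫ q = Spec.map _ ≫ Spec.map _ ≫ q
      rw [← Spec.map_comp_assoc, ← Spec.map_comp_assoc, ← CommRingCat.ofHom_comp, ← CommRingCat.ofHom_comp]
      rfl)
    let k₃ : aff q (R ⧸ J) ⟶ aff q' ((R ⧸ I) ⧸ J') := Over.homMk (Spec.map (CommRingCat.ofHom e.toRingHom)) (by
      change Spec.map _ ≫ Spec.map _ ≫ Spec.map _ ≫ q = Spec.map _ ≫ q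
      rw [← Spec.map_comp_assoc, ← Spec.map_comp_assoc, ← CommRingCat.ofHom_comp, ← CommRingCat.ofHom_comp]
      rfl)
    have hk : k₃ ≫ k₁ = 𝟙 _ := Over.OverMorphism.ext (by
      change Spec.map _ ≫ Spec.map _ = 𝟙 _
      rw [← Spec.map_comp, ← CommRingCat.ofHom_comp, RingEquiv.toRingHom_eq_coe, RingEquiv.toRingHom_eq_coe,
        RingEquiv.comp_symm, CommRingCat.ofHom_id]
      exact Spec.map_id _)
    obtain ⟨g', hg', hc'⟩ := IH q' J' hJ' (k₁ ≫ g₀) (h0.comp k₁)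
    let k₂ : aff q (R ⧸ I) ⟶ aff q' (R ⧸ I) := Over.homMk (𝟙 _) (by
      change 𝟙 _ ≫ Spec.map _ ≫ Spec.map _ ≫ q = Spec.map _ ≫ q
      rw [Category.id_comp, ← Spec.map_comp_assoc, ← CommRingCat.ofHom_comp]
      rfl)
    obtain ⟨g₁, hg₁⟩ := exists_lift_point hG q I hI2 (k₂ ≫ g')
    obtain ⟨g, hg, hc⟩ := exists_conjOn_step hH hHa u v q I hI2 g₁ (hg₁ ▸ hc'.comp k₂)
    refine ⟨g, ?_, hc⟩
    let f : R ⧸ I →ₐ[R] R ⧸ J := Ideal.Quotient.factorₐ R hIJ
    have hf : f.comp (Ideal.Quotient.mkₐ R I) = Ideal.Quotient.mkₐ R J := AlgHom.ext fun _ => rfl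
    have hfk : affMap q f ≫ k₂ = k₃ ≫ affMap q' (Ideal.Quotient.mkₐ (R ⧸ I) J') := Over.OverMorphism.ext (by
      change Spec.map _ ≫ 𝟙 _ = Spec.map _ ≫ Spec.map _
      rw [Category.comp_id, ← Spec.map_comp, ← CommRingCat.ofHom_comp]
      congr 2
      exact Ideal.Quotient.ringHom_ext (RingHom.ext fun _ => rfl))
    rw [← hf, ← affMap_comp, Category.assoc, hg, hg₁, ← Category.assoc, hfk, Category.assoc, hg',
      ← Category.assoc, hk, Category.id_comp]

end GrothLib.MultDef14
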