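import Groth.Agent.Lib.MultDef14.HomLift
import Groth.Agent.Lib.MultDef14.Conj

/-!
Homomorphisms out of groups of multiplicative type into formally smooth groups lift along nilpotent
thickenings.
-/

universe u

open CategoryTheory MonoidalCategory CartesianMonoidalCategory MonObj GrpObj AlgebraicGeometry
open scoped TensorProduct

set_option backward.isDefEq.respectTransparency false

namespace GrothLib.MultDef14

open GrothLib.DiagGrp (HasChartsFpqc)

variable {S : Scheme.{u}} {R : Type u} [CommRing R] {q : Spec (CommRingCat.of R) ⟶ S}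
variable {A : Type u} [CommRing A] [Algebra R A]

section Slice

variable {A' : Type u} [CommRing A'] [Algebra R A']

/-- Integration in the second factor, over any algebra. -/
noncomputable def sliceTo (A' : Type u) [CommRing A'] [Algebra R A'] (ε : A →ₗ[R] R) : A' ⊗[R] A →ₗ[A'] A' :=
  (TensorProduct.AlgebraTensorModule.rid R A' A').toLinearMap ∘ₗ ε.baseChange A'

theorem sliceTo_tmul (ε : A →ₗ[R] R) (a : A') (b : A) : sliceTo A' ε (a ⊗ₜ b) = ε b • a := by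
  simp [sliceTo]

theorem sliceTo_one (ε : A →ₗ[R] R) (h1 : ε 1 = 1) : sliceTo A' ε 1 = 1 := by
  rw [Algebra.TensorProduct.one_def, sliceTo_tmul, h1, one_smul]

theorem sliceTo_self (ε : A →ₗ[R] R) : sliceTo A ε = slice ε := rfl

variable (J : Ideal R) (g : A →ₐ[R] A') (f : A ⊗[R] A →ₐ[R] A' ⊗[R] A)

/-- A map over `g` preserves the elements congruent to constants. -/
noncomputable def sqPush (hf : ∀ a, f (a ⊗ₜ 1) = g a ⊗ₜ 1) :
    Sq (A ⊗[R] A) (J.map (algebraMap R A)) →ₐ[R] Sq (A' ⊗[R] A) (J.map (algebraMap R A')) where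
  toFun c := ⟨f c.1, by
    obtain ⟨a, ha⟩ := c.2
    refine ⟨g a, ?_⟩
    have h := Ideal.mem_map_of_mem (f : A ⊗[R] A →+* A' ⊗[R] A) ha
    rw [Ideal.map_map, Ideal.map_map, RingHom.comp_assoc, ← IsScalarTower.algebraMap_eq, AlgHom.comp_algebraMap] at h
    rw [Ideal.map_map, ← IsScalarTower.algebraMap_eq, Algebra.TensorProduct.algebraMap_apply,
      Algebra.algebraMap_self, RingHom.id_apply, ← hf]
    rw [Algebra.TensorProduct.algebraMap_apply, Algebra.algebraMap_self, RingHom.id_apply] at h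
    change f (c.1 - a ⊗ₜ[R] (1 : A)) ∈ _ at h
    rwa [map_sub] at h⟩
  map_one' := Subtype.ext (map_one f)
  map_zero' := Subtype.ext (map_zero f)
  map_add' x y := Subtype.ext (map_add f x.1 y.1)
  map_mul' x y := Subtype.ext (map_mul f x.1 y.1)
  commutes' r := Subtype.ext (f.commutes r)

variable {J} {g} {f}

theorem retr_comp_sqPush (hf : ∀ a, f (a ⊗ₜ 1) = g a ⊗ₜ 1) (hJA : (J.map (algebraMap R A)) ^ 2 = ⊥)
    (hJA' : (J.map (algebraMap R A')) ^ 2 = ⊥) (ε : A →ₗ[R] R) (h1 : ε 1 = 1)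
    (hs : ∀ z, sliceTo A' ε (f z) = g (slice ε z)) :
    (retrR (J.map (algebraMap R A')) (sliceTo A' ε) (sliceTo_one ε h1) hJA').comp (sqPush J g f hf) =
      g.comp (retrR (J.map (algebraMap R A)) (slice ε) (slice_one ε h1) hJA) :=
  AlgHom.ext fun c => hs c.1

/-- The map of reductions. -/
noncomputable def quotMap (J : Ideal R) (g : A →ₐ[R] A') :
    A ⧸ J.map (algebraMap R A) →ₐ[R] A' ⧸ J.map (algebraMap R A') :=
  Ideal.Quotient.liftₐ _ ((Ideal.Quotient.mkₐ R _).comp g) fun x hx => by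
    have h := Ideal.mem_map_of_mem (g : A →+* A') hx
    rw [Ideal.map_map, AlgHom.comp_algebraMap] at h
    exact Ideal.Quotient.eq_zero_iff_mem.mpr h

theorem red_comp_sqPush (hf : ∀ a, f (a ⊗ₜ 1) = g a ⊗ₜ 1) (hJA : (J.map (algebraMap R A)) ^ 2 = ⊥)
    (hJA' : (J.map (algebraMap R A')) ^ 2 = ⊥) (ε : A →ₗ[R] R) (h1 : ε 1 = 1)
    (hs : ∀ z, sliceTo A' ε (f z) = g (slice ε z)) :
    (redR (J.map (algebraMap R A')) (sliceTo A' ε) (sliceTo_one ε h1) hJA').comp (sqPush J g f hf) =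
      (quotMap J g).comp (redR (J.map (algebraMap R A)) (slice ε) (slice_one ε h1) hJA) := by
  rw [redR, AlgHom.comp_assoc, retr_comp_sqPush hf hJA hJA' ε h1 hs]
  rfl

end Slice

variable {H G : Over S} [GrpObj H] [GrpObj G]

/-- The square-zero step. -/
theorem exists_homPt_step {Q : ∀ (M : Type), AddCommGroup M → Prop} (hH : HasChartsFpqc Q H)
    {h : aff q A ⟶ H} (hu : IsUniv q h) (J : Ideal R) (hJ : J ^ 2 = ⊥) (a₁ : aff q A ⟶ G)
    (h0 : IsHomPt (affMap q (Ideal.Quotient.mkₐ R (J.map (algebraMap R A))) ≫ h)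
      (affMap q (Ideal.Quotient.mkₐ R (J.map (algebraMap R A))) ≫ a₁)) :
    ∃ a : aff q A ⟶ G, affMap q (Ideal.Quotient.mkₐ R (J.map (algebraMap R A))) ≫ a =
        affMap q (Ideal.Quotient.mkₐ R (J.map (algebraMap R A))) ≫ a₁ ∧ IsHomPt h a := by
  obtain ⟨Δ, hΔ⟩ := hu.exists_isComul
  obtain ⟨ε, h1, hε⟩ := exists_mean hH q hu hΔ
  have hJA : (J.map (algebraMap R A)) ^ 2 = ⊥ := by rw [← Ideal.map_pow, hJ, Ideal.map_bot]
  let L : A →ₐ[R] A ⊗[R] A := Algebra.TensorProduct.includeLeft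
  let Rt : A →ₐ[R] A ⊗[R] A := Algebra.TensorProduct.includeRight
  set c := (affMap q L ≫ a₁) * (affMap q Rt ≫ a₁) * (affMap q Δ ≫ a₁)⁻¹ with hc₀
  have hc : affMap q (Ideal.Quotient.mkₐ R ((J.map (algebraMap R A)).map (algebraMap A (A ⊗[R] A)))) ≫ c = 1 := by
    let π := Ideal.Quotient.mkₐ R ((J.map (algebraMap R A)).map (algebraMap A (A ⊗[R] A)))
    let lf : ∀ f : A →ₐ[R] A ⊗[R] A, A ⧸ J.map (algebraMap R A) →ₐ[R]
        (A ⊗[R] A) ⧸ (J.map (algebraMap R A)).map (algebraMap A (A ⊗[R] A)) := fun f =>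
      Ideal.Quotient.liftₐ _ (π.comp f) fun x hx => by
        have h := Ideal.mem_map_of_mem (f : A →+* A ⊗[R] A) hx
        rw [Ideal.map_map, AlgHom.comp_algebraMap, IsScalarTower.algebraMap_eq R A, ← Ideal.map_map] at h
        exact Ideal.Quotient.eq_zero_iff_mem.mpr h
    have hlf : ∀ f, (lf f).comp (Ideal.Quotient.mkₐ R _) = π.comp f := fun f => AlgHom.ext fun _ => rfl
    have key := h0 _ (lf L) (lf Rt) (lf Δ)
    simp only [affMap_comp_assoc, hlf] at key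
    simp only [← affMap_comp_assoc, ← MonObj.comp_mul] at key
    rw [hc₀, MonObj.comp_mul, GrpObj.comp_inv, key (congrArg (affMap q π ≫ ·) hΔ), mul_inv_cancel]
  obtain ⟨c', hc', hc'r⟩ := exists_squeeze q (J.map (algebraMap R A)) (slice ε) (slice_one ε h1) hJA c hc
  set x := affMap q (retrR (J.map (algebraMap R A)) (slice ε) (slice_one ε h1) hJA) ≫ c' with hx₀
  have hx : affMap q (Ideal.Quotient.mkₐ R (J.map (algebraMap R A))) ≫ x = 1 := by
    rw [hx₀, ← Category.assoc, affMap_comp]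
    exact hc'r
  have hA' : (J.map (algebraMap R (A ⊗[R] A))) ^ 2 = ⊥ := by rw [← Ideal.map_pow, hJ, Ideal.map_bot]
  let iC : A ⊗[R] A →ₐ[R] (A ⊗[R] A) ⊗[R] A := Algebra.TensorProduct.includeLeft
  let m : A ⊗[R] A →ₐ[R] (A ⊗[R] A) ⊗[R] A := Algebra.TensorProduct.map Δ (AlgHom.id R A)
  let f₂ : A ⊗[R] A →ₐ[R] (A ⊗[R] A) ⊗[R] A := Algebra.TensorProduct.map Rt (AlgHom.id R A)
  let f₁ : A ⊗[R] A →ₐ[R] (A ⊗[R] A) ⊗[R] A :=
    Algebra.TensorProduct.lift (iC.comp L) (f₂.comp Δ) fun _ _ => Commute.all _ _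
  let e₃ : A →ₐ[R] (A ⊗[R] A) ⊗[R] A := Algebra.TensorProduct.includeRight
  have hm : ∀ a, m (a ⊗ₜ 1) = Δ a ⊗ₜ 1 := fun a => rfl
  have hf₂ : ∀ a, f₂ (a ⊗ₜ 1) = Rt a ⊗ₜ 1 := fun a => rfl
  have hf₁ : ∀ a, f₁ (a ⊗ₜ 1) = L a ⊗ₜ 1 := fun a => by simp [f₁, iC]
  have hsm : ∀ (g : A →ₐ[R] A ⊗[R] A) (z : A ⊗[R] A),
      sliceTo (A ⊗[R] A) ε (Algebra.TensorProduct.map g (AlgHom.id R A) z) = g (slice ε z) := fun g z => by
    induction z using TensorProduct.induction_on with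
    | zero => simp
    | add x y hx hy => simp only [map_add, hx, hy]
    | tmul a b => rw [Algebra.TensorProduct.map_tmul, sliceTo_tmul, slice_tmul, map_smul]; rfl
  have hs₁ : ∀ z : A ⊗[R] A, sliceTo (A ⊗[R] A) ε (f₁ z) = L (slice ε z) := fun z => by
    induction z using TensorProduct.induction_on with
    | zero => simp
    | add x y hx hy => simp only [map_add, hx, hy]
    | tmul a b =>
      rw [show f₁ (a ⊗ₜ b) = (L a) • f₂ (Δ b) from
        (show f₁ (a ⊗ₜ b) = iC (L a) * f₂ (Δ b) from Algebra.TensorProduct.lift_tmul _ _ _ a b).trans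
          (Algebra.smul_def (L a) (f₂ (Δ b))).symm,
        map_smul, hsm, hε, slice_tmul, map_smul, AlgHom.commutes, smul_eq_mul, Algebra.smul_def, mul_comm]
  have hm0 : m.comp L = iC.comp Δ := AlgHom.ext fun _ => rfl
  have hm1 : m.comp Rt = e₃ := AlgHom.ext fun b => by simp [m, Rt, e₃, ← Algebra.TensorProduct.one_def]
  have h20 : f₂.comp L = iC.comp Rt := AlgHom.ext fun _ => rfl
  have h21 : f₂.comp Rt = e₃ := AlgHom.ext fun b => by simp [f₂, Rt, e₃, ← Algebra.TensorProduct.one_def]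
  have h10 : f₁.comp L = iC.comp L := AlgHom.ext fun b => by simp [f₁, L]
  have h11 : f₁.comp Rt = f₂.comp Δ := AlgHom.ext fun b => by simp [f₁, Rt]
  have h12 : f₁.comp Δ = m.comp Δ := by
    refine (hu.bij _).1 ?_
    dsimp only
    have sp : ∀ f : A ⊗[R] A →ₐ[R] (A ⊗[R] A) ⊗[R] A, affMap q (f.comp Δ) ≫ h =
        (affMap q (f.comp L) ≫ h) * (affMap q (f.comp Rt) ≫ h) := fun f => by
      rw [← affMap_comp_assoc, hΔ, MonObj.comp_mul, affMap_comp_assoc, affMap_comp_assoc]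
    rw [sp, sp, hm0, hm1, h10, h11, sp, sp, h20, h21, _root_.mul_assoc]
  have coc : (affMap q iC ≫ c) * (affMap q m ≫ c) =
      (affMap q (iC.comp L) ≫ a₁) * (affMap q f₂ ≫ c) * (affMap q (iC.comp L) ≫ a₁)⁻¹ * (affMap q f₁ ≫ c) := by
    simp only [hc₀, MonObj.comp_mul, GrpObj.comp_inv, affMap_comp_assoc, hm0, hm1, h20, h21, h10, h11, h12]
    group
  let cst : A ⊗[R] A →ₐ[R] Sq ((A ⊗[R] A) ⊗[R] A) (J.map (algebraMap R (A ⊗[R] A))) :=
    IsScalarTower.toAlgHom R (A ⊗[R] A) _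
  have hE := sliceTo_one (A' := A ⊗[R] A) ε h1
  have key : (affMap q cst ≫ c) * (affMap q (sqPush J Δ m hm) ≫ c') =
      (affMap q (cst.comp L) ≫ a₁) * (affMap q (sqPush J Rt f₂ hf₂) ≫ c') *
        (affMap q (cst.comp L) ≫ a₁)⁻¹ * (affMap q (sqPush J L f₁ hf₁) ≫ c') := by
    refine squeeze_ext q (J.map (algebraMap R (A ⊗[R] A))) (sliceTo (A ⊗[R] A) ε) hE hA' ?_ ?_
    · have e1 : (sqVal (J.map (algebraMap R (A ⊗[R] A)))).comp cst = iC := AlgHom.ext fun _ => rfl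
      have e2 : ∀ (g : A →ₐ[R] A ⊗[R] A) f hf, (sqVal (J.map (algebraMap R (A ⊗[R] A)))).comp (sqPush J g f hf) =
          f.comp (sqVal (J.map (algebraMap R A))) := fun _ _ _ => rfl
      simp only [MonObj.comp_mul, GrpObj.comp_inv, affMap_comp_assoc, ← AlgHom.comp_assoc, e1, e2]
      simp only [← affMap_comp_assoc _ (sqVal (J.map (algebraMap R A))), hc']
      exact coc
    · have e3 : (redR (J.map (algebraMap R (A ⊗[R] A))) (sliceTo (A ⊗[R] A) ε) hE hA').comp cst =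
          Ideal.Quotient.mkₐ R (J.map (algebraMap R (A ⊗[R] A))) := AlgHom.ext fun b => by
        change Ideal.Quotient.mk _ (sliceTo (A ⊗[R] A) ε (algebraMap (A ⊗[R] A) ((A ⊗[R] A) ⊗[R] A) b)) = _
        rw [Algebra.TensorProduct.algebraMap_apply, sliceTo_tmul, h1, one_smul]
        rfl
      have e4 : affMap q (Ideal.Quotient.mkₐ R (J.map (algebraMap R (A ⊗[R] A)))) ≫ c = 1 := by
        have hle : (J.map (algebraMap R A)).map (algebraMap A (A ⊗[R] A)) = J.map (algebraMap R (A ⊗[R] A)) := by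
          rw [Ideal.map_map, ← IsScalarTower.algebraMap_eq]
        rw [← hle]
        exact hc
      simp only [MonObj.comp_mul, GrpObj.comp_inv, affMap_comp_assoc, ← AlgHom.comp_assoc, e3,
        red_comp_sqPush hm hJA hA' ε h1 (hsm Δ), red_comp_sqPush hf₂ hJA hA' ε h1 (hsm Rt),
        red_comp_sqPush hf₁ hJA hA' ε h1 hs₁]
      simp only [← affMap_comp_assoc, hc'r, e4, MonObj.comp_one, _root_.mul_one, _root_.one_mul, mul_inv_cancel]
  have e5 : (retrR (J.map (algebraMap R (A ⊗[R] A))) (sliceTo (A ⊗[R] A) ε) hE hA').comp cst =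
      AlgHom.id R (A ⊗[R] A) := AlgHom.ext fun b => by
    change sliceTo (A ⊗[R] A) ε (algebraMap (A ⊗[R] A) ((A ⊗[R] A) ⊗[R] A) b) = b
    rw [Algebra.TensorProduct.algebraMap_apply, sliceTo_tmul, h1, one_smul]
    rfl
  have h := congrArg (affMap q (retrR (J.map (algebraMap R (A ⊗[R] A))) (sliceTo (A ⊗[R] A) ε) hE hA') ≫ ·) key
  simp only [MonObj.comp_mul, GrpObj.comp_inv, affMap_comp_assoc, ← AlgHom.comp_assoc, e5, AlgHom.id_comp,
    retr_comp_sqPush hm hJA hA' ε h1 (hsm Δ), retr_comp_sqPush hf₂ hJA hA' ε h1 (hsm Rt),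
    retr_comp_sqPush hf₁ hJA hA' ε h1 hs₁, affMap_id, Category.id_comp] at h
  simp only [← affMap_comp_assoc, ← hx₀] at h
  refine ⟨x⁻¹ * a₁, by rw [MonObj.comp_mul, GrpObj.comp_inv, hx, inv_one, _root_.one_mul], ?_⟩
  have hmain : affMap q Δ ≫ (x⁻¹ * a₁) = (affMap q L ≫ (x⁻¹ * a₁)) * (affMap q Rt ≫ (x⁻¹ * a₁)) := by
    simp only [MonObj.comp_mul, GrpObj.comp_inv]
    have hc1 : c * (affMap q Δ ≫ x) =
        (affMap q L ≫ a₁) * (affMap q Rt ≫ x) * (affMap q L ≫ a₁)⁻¹ * (affMap q L ≫ x) := h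
    have e6 : (affMap q L ≫ a₁) * (affMap q Rt ≫ a₁) = c * (affMap q Δ ≫ a₁) := by rw [hc₀, inv_mul_cancel_right]
    have e7 : c = (affMap q L ≫ a₁) * (affMap q Rt ≫ x) * (affMap q L ≫ a₁)⁻¹ * (affMap q L ≫ x) *
        (affMap q Δ ≫ x)⁻¹ := by rw [← hc1, mul_inv_cancel_right]
    symm
    calc (affMap q L ≫ x)⁻¹ * (affMap q L ≫ a₁) * ((affMap q Rt ≫ x)⁻¹ * (affMap q Rt ≫ a₁))
        = (affMap q L ≫ x)⁻¹ * ((affMap q L ≫ a₁) * (affMap q Rt ≫ x)⁻¹ * (affMap q L ≫ a₁)⁻¹) *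
            ((affMap q L ≫ a₁) * (affMap q Rt ≫ a₁)) := by group
      _ = (affMap q Δ ≫ x)⁻¹ * (affMap q Δ ≫ a₁) := by rw [e6, e7]; group
  intro B _ _ f g k e
  have hk : k = (Algebra.TensorProduct.lift f g fun _ _ => Commute.all _ _).comp Δ := by
    refine (hu.bij B).1 ?_
    dsimp only
    rw [e, ← affMap_comp_assoc, hΔ, MonObj.comp_mul, affMap_comp_assoc, affMap_comp_assoc]
    congr 2 <;> congr 1 <;> exact AlgHom.ext fun _ => by simp
  rw [hk, ← affMap_comp_assoc, hmain, MonObj.comp_mul, affMap_comp_assoc, affMap_comp_assoc]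
  congr 2 <;> congr 1 <;> exact AlgHom.ext fun _ => by simp [L, Rt]

omit [GrpObj H] [GrpObj G] in
/-- An equality of reductions, pushed forward. -/
theorem affMap_quot_comp {B₀ B₁ C : Type u} [CommRing B₀] [Algebra R B₀] [CommRing B₁] [Algebra R B₁] [CommRing C]
    [Algebra R C] (I : Ideal B₀) (m : B₀ ⧸ I →ₐ[R] C) (k : B₁ →ₐ[R] B₀ ⧸ I) (f : B₁ →ₐ[R] C) (hk : m.comp k = f)
    (x : aff q B₀ ⟶ G) (y : aff q B₁ ⟶ G) (e : affMap q (Ideal.Quotient.mkₐ R I) ≫ x = affMap q k ≫ y) :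
    affMap q (m.comp (Ideal.Quotient.mkₐ R I)) ≫ x = affMap q f ≫ y := by
  rw [← affMap_comp_assoc, e, affMap_comp_assoc, hk]

omit [GrpObj G] in
/-- Affine points lift along square-zero thickenings. -/
theorem exists_lift_aff (hG : MoreMor.IsFormallySmoothHom G.hom) {B : Type u} [CommRing B] [Algebra R B]
    (I : Ideal B) (hI : I ^ 2 = ⊥) (g₀ : aff q (B ⧸ I) ⟶ G) :
    ∃ g : aff q B ⟶ G, affMap q (Ideal.Quotient.mkₐ R I) ≫ g = g₀ := by
  obtain ⟨g, hg⟩ := exists_lift_point hG (baseMap q B) I hI (chgTo q B _ ≫ g₀)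
  refine ⟨chgFrom q B B ≫ g, chgTo_injective q B _ ?_⟩
  rw [show (Ideal.Quotient.mkₐ R I) = (Ideal.Quotient.mkₐ B I).restrictScalars R from rfl, ← chgTo_comp_assoc,
    ← Category.assoc (chgTo q B B), chgTo_from, Category.id_comp, hg]

/-- The square-zero case of lifting. -/
theorem exists_homPt_sq {Q : ∀ (M : Type), AddCommGroup M → Prop} (hH : HasChartsFpqc Q H)
    (hG : MoreMor.IsFormallySmoothHom G.hom) {h : aff q A ⟶ H} (hu : IsUniv q h) (J : Ideal R) (hJ : J ^ 2 = ⊥)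
    (a₀ : aff q (A ⧸ J.map (algebraMap R A)) ⟶ G)
    (h0 : IsHomPt (affMap q (Ideal.Quotient.mkₐ R (J.map (algebraMap R A))) ≫ h) a₀) :
    ∃ a : aff q A ⟶ G, affMap q (Ideal.Quotient.mkₐ R (J.map (algebraMap R A))) ≫ a = a₀ ∧ IsHomPt h a := by
  obtain ⟨a₁, ha₁⟩ := exists_lift_aff (q := q) hG (J.map (algebraMap R A)) (by rw [← Ideal.map_pow, hJ, Ideal.map_bot]) a₀
  obtain ⟨a, ha, hah⟩ := exists_homPt_step hH hu J hJ a₁ (by rwa [ha₁])
  exact ⟨a, ha.trans ha₁, hah⟩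

/-- Homomorphisms into formally smooth groups lift along nilpotent thickenings. -/
theorem exists_homPt_nil {Q : ∀ (M : Type), AddCommGroup M → Prop} (hH : HasChartsFpqc Q H)
    (hG : MoreMor.IsFormallySmoothHom G.hom) :
    ∀ {R : Type u} [CommRing R] {q : Spec (CommRingCat.of R) ⟶ S} {A : Type u} [CommRing A] [Algebra R A]
      {h : aff q A ⟶ H}, IsUniv q h → ∀ (J : Ideal R), IsNilpotent J →
      ∀ a₀ : aff q (A ⧸ J.map (algebraMap R A)) ⟶ G,
        IsHomPt (affMap q (Ideal.Quotient.mkₐ R (J.map (algebraMap R A))) ≫ h) a₀ →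
        ∃ a : aff q A ⟶ G, affMap q (Ideal.Quotient.mkₐ R (J.map (algebraMap R A))) ≫ a = a₀ ∧ IsHomPt h a := by
  suffices key : ∀ (n : ℕ) {R : Type u} [CommRing R] {q : Spec (CommRingCat.of R) ⟶ S} {A : Type u} [CommRing A]
      [Algebra R A] {h : aff q A ⟶ H}, IsUniv q h → ∀ (J : Ideal R), J ^ n = ⊥ →
      ∀ a₀ : aff q (A ⧸ J.map (algebraMap R A)) ⟶ G,
        IsHomPt (affMap q (Ideal.Quotient.mkₐ R (J.map (algebraMap R A))) ≫ h) a₀ →
        ∃ a : aff q A ⟶ G, affMap q (Ideal.Quotient.mkₐ R (J.map (algebraMap R A))) ≫ a = a₀ ∧ IsHomPt h a by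
    intro R _ q A _ _ h hu J ⟨n, hn⟩
    exact key n hu J hn
  intro n
  induction n with
  | zero =>
    intro R _ q A _ _ h hu J hJ a₀ h0
    exact exists_homPt_sq hH hG hu J (le_bot_iff.mp (hJ ▸ Ideal.pow_le_pow_right (Nat.zero_le 2))) a₀ h0
  | succ n ih =>
    intro R _ q A _ _ h hu J hJ a₀ h0
    rcases Nat.eq_zero_or_pos n with rfl | hn
    · exact exists_homPt_sq hH hG hu J (le_bot_iff.mp (hJ ▸ Ideal.pow_le_pow_right (by norm_num))) a₀ h0
    have hI : (J ^ n) ^ 2 = ⊥ := le_bot_iff.mp (hJ ▸ (pow_mul J n 2).symm.trans_le (Ideal.pow_le_pow_right (by lia)))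
    have hJT : (J.map (algebraMap R (R ⧸ J ^ n))) ^ n = ⊥ := by
      rw [← Ideal.map_pow, Ideal.Quotient.algebraMap_eq, Ideal.map_quotient_self]
    obtain ⟨a', ha', hah'⟩ := ih hu.baseChange _ hJT _ (h0.reduction J (R ⧸ J ^ n))
    let σ : (R ⧸ J ^ n) ⊗[R] A →ₐ[R] A ⧸ (J ^ n).map (algebraMap R A) :=
      Algebra.TensorProduct.lift (quotA (J ^ n)) (Ideal.Quotient.mkₐ R _) fun _ _ => Commute.all _ _
    have hσ : σ.comp Algebra.TensorProduct.includeRight = Ideal.Quotient.mkₐ R _ := AlgHom.ext fun x => by simp [σ]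
    obtain ⟨a₁, ha₁⟩ := exists_lift_aff (q := q) hG ((J ^ n).map (algebraMap R A))
      (by rw [← Ideal.map_pow, hI, Ideal.map_bot]) (affMap q σ ≫ chgFrom q (R ⧸ J ^ n) _ ≫ a')
    obtain ⟨a, ha, hah⟩ := exists_homPt_step hH hu (J ^ n) hI a₁ (by
      rw [ha₁]
      intro B _ _ f g k e
      simp only [affMap_comp_assoc] at e ⊢
      simp only [← affMap_comp_assoc _ σ]
      rw [affMap_comp_assoc, affMap_comp_assoc, affMap_comp_assoc]
      refine hah'.relative _ _ _ (Ideal.Quotient.algHom_ext R (Subsingleton.elim _ _))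
        (Ideal.Quotient.algHom_ext R (Subsingleton.elim _ _)) ?_
      simp only [AlgHom.comp_assoc, hσ]
      exact e)
    refine ⟨a, ?_, hah⟩
    let π : A ⧸ (J ^ n).map (algebraMap R A) →ₐ[R] A ⧸ J.map (algebraMap R A) :=
      Ideal.Quotient.liftₐ _ (Ideal.Quotient.mkₐ R _) fun x hx =>
        Ideal.Quotient.eq_zero_iff_mem.mpr (Ideal.map_mono (Ideal.pow_le_self hn.ne') hx)
    have hπ : π.comp (Ideal.Quotient.mkₐ R _) = Ideal.Quotient.mkₐ R _ := AlgHom.ext fun _ => rfl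
    let muq : ((R ⧸ J ^ n) ⊗[R] A) ⧸ (J.map (algebraMap R (R ⧸ J ^ n))).map
        (algebraMap (R ⧸ J ^ n) ((R ⧸ J ^ n) ⊗[R] A)) →ₐ[R] A ⧸ J.map (algebraMap R A) :=
      Ideal.Quotient.liftₐ _ (π.comp σ) fun x hx => by
        have hle : (J.map (algebraMap R (R ⧸ J ^ n))).map (algebraMap (R ⧸ J ^ n) ((R ⧸ J ^ n) ⊗[R] A)) ≤
            RingHom.ker (π.comp σ) := by
          rw [Ideal.map_map, ← IsScalarTower.algebraMap_eq, Ideal.map_le_iff_le_comap]
          intro r hr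
          rw [Ideal.mem_comap, RingHom.mem_ker, AlgHom.commutes]
          exact Ideal.Quotient.eq_zero_iff_mem.mpr (Ideal.mem_map_of_mem _ hr)
        exact hle hx
    have hmuq : muq.comp (Ideal.Quotient.mkₐ R _) = π.comp σ := AlgHom.ext fun _ => rfl
    have hk : muq.comp (kap J (R ⧸ J ^ n)) = AlgHom.id R _ := Ideal.Quotient.algHom_ext R (by
      rw [AlgHom.comp_assoc, kap_comp_mk, ← AlgHom.comp_assoc, hmuq, AlgHom.comp_assoc, hσ, hπ, AlgHom.id_comp])
    have hred : affMap q (Ideal.Quotient.mkₐ R _) ≫ chgFrom q (R ⧸ J ^ n) _ ≫ a' =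
        affMap q (kap J (R ⧸ J ^ n)) ≫ a₀ := by
      refine chgTo_injective q (R ⧸ J ^ n) _ ?_
      rw [← ha', show (Ideal.Quotient.mkₐ R ((J.map (algebraMap R (R ⧸ J ^ n))).map
          (algebraMap (R ⧸ J ^ n) ((R ⧸ J ^ n) ⊗[R] A)))) = (Ideal.Quotient.mkₐ (R ⧸ J ^ n)
          ((J.map (algebraMap R (R ⧸ J ^ n))).map
            (algebraMap (R ⧸ J ^ n) ((R ⧸ J ^ n) ⊗[R] A)))).restrictScalars R from rfl,
        ← chgTo_comp_assoc, ← Category.assoc (chgTo q (R ⧸ J ^ n) ((R ⧸ J ^ n) ⊗[R] A)), chgTo_from,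
        Category.id_comp]
    rw [← hπ, ← affMap_comp_assoc, ha, ha₁, affMap_comp_assoc, ← hmuq]
    refine (affMap_quot_comp _ muq _ _ hk _ _ hred).trans ?_
    rw [affMap_id, Category.id_comp]

end GrothLib.MultDef14
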