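import Groth.Agent.Lib.MultDef14.SubSpec
import Groth.Agent.Lib.MultDef14.SubTransporter
import Groth.Agent.Lib.DiagGrp.Points
import Groth.Agent.Lib.Torsor21.SmoothSection
import Groth.Prelude.Def_SGA3x

/-!
Conjugacy on geometric fibres gives conjugacy locally for the étale topology.
-/

universe u

open CategoryTheory MonoidalCategory CartesianMonoidalCategory MonObj GrpObj AlgebraicGeometry

set_option backward.isDefEq.respectTransparency false

namespace GrothLib.MultDef14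

open GrothLib.DiagGrp (bcPoint bcPointMulEquiv)

variable {S : Scheme.{u}}

/-- A smooth scheme with a point over every geometric point of the base has étale quasi-sections. -/
theorem exists_etale_point (T : Over S) [Smooth T.hom] (h : ∀ s : S, Nonempty (Over.mk (Red.geomPt s) ⟶ T)) (s : S) :
    ∃ (S' : Scheme.{u}) (f : S' ⟶ S), Etale f ∧ s ∈ Set.range f.base ∧ Nonempty (Over.mk f ⟶ T) := by
  haveI : Surjective T.hom := ⟨fun x => by
    obtain ⟨t⟩ := h x
    refine ⟨t.left (IsLocalRing.closedPoint _), ?_⟩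
    rw [← Scheme.Hom.comp_apply, Over.w t]
    exact Scheme.fromSpecResidueField_apply x _⟩
  obtain ⟨U, p, hp⟩ := Torsor21.exists_etale_sections T.hom
  rw [Scheme.etalePrecoverage, Scheme.ofArrows_mem_precoverage_iff] at hp
  obtain ⟨i, z, hz⟩ := hp.1 s
  exact ⟨U i, p i ≫ T.hom, hp.2 i, ⟨z, hz⟩, ⟨Over.homMk (p i) rfl⟩⟩

/-- The pointwise version of `exists_etale_point`. -/
theorem exists_etale_point_at (T : Over S) [Smooth T.hom] (s : S) (h : Nonempty (Over.mk (Red.geomPt s) ⟶ T)) :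
    ∃ (S' : Scheme.{u}) (f : S' ⟶ S), Etale f ∧ s ∈ Set.range f.base ∧ Nonempty (Over.mk f ⟶ T) := by
  obtain ⟨t⟩ := h
  have hx : T.hom (t.left (IsLocalRing.closedPoint _)) = s := by
    rw [← Scheme.Hom.comp_apply, Over.w t]
    exact Scheme.fromSpecResidueField_apply s _
  generalize t.left (IsLocalRing.closedPoint _) = x at hx
  subst hx
  have : Nonempty (T.hom.fiber (T.hom x)) := ⟨T.hom.asFiber x⟩
  obtain ⟨L, _, _, hfd, hsep, c, hc⟩ := @Torsor21.exists_separable_point (S.residueField (T.hom x)) _ _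
    (T.hom.fiberToSpecResidueField (T.hom x)) (MorphismProperty.pullback_snd _ _ inferInstance) ‹_›
  obtain ⟨U, p, u, hup, het⟩ := SmoothSection.exists_etale_quasiSection T.hom (T.hom x) (c ≫ T.hom.fiberι (T.hom x))
    (by rw [Category.assoc, ← hc, Category.assoc]; exact congrArg (c ≫ ·) Limits.pullback.condition)
  refine ⟨U, p ≫ T.hom, het, ⟨u (IsLocalRing.closedPoint _), ?_⟩, ⟨Over.homMk p rfl⟩⟩
  change (p ≫ T.hom) _ = _
  rw [Scheme.Hom.comp_apply, ← Scheme.Hom.comp_apply u p, hup, Scheme.Hom.comp_apply]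
  have h : T.hom.fiberι (T.hom x) (c (IsLocalRing.closedPoint L)) ∈ Set.range (T.hom.fiberι (T.hom x)) := ⟨_, rfl⟩
  rwa [Scheme.Hom.range_fiberι] at h

variable {S' : Scheme.{u}} {f : S' ⟶ S} {H₁ H₂ G : Over S} [GrpObj G]

theorem conjSub_bc {i₁ : H₁ ⟶ G} {i₂ : H₂ ⟶ G} {T : Over S'} (g : (Over.map f).obj T ⟶ G)
    (hg : ConjSub i₁ i₂ g) :
    ConjSub ((Over.pullback f).map i₁) ((Over.pullback f).map i₂) (bcPoint f G T g) := by
  intro Y p
  have key : p ≫ bcPoint f G T g = bcPointMulEquiv f G Y ((Over.map f).map p ≫ g) :=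
    (DiagGrp.bcPoint_comp f p g).symm
  refine ⟨fun h => ?_, fun h => ?_⟩
  · obtain ⟨a, rfl⟩ := (bcPoint f H₁ Y).surjective h
    obtain ⟨b, hb⟩ := (hg _ ((Over.map f).map p)).1 a
    refine ⟨bcPoint f H₂ Y b, ?_⟩
    rw [key, ← DiagGrp.bcPoint_comp_right, ← DiagGrp.bcPoint_comp_right, ← hb]
    exact (map_mul (bcPointMulEquiv f G Y) _ _ |>.trans (congrArg₂ (· * ·) (map_mul _ _ _) (map_inv _ _))).symm
  · obtain ⟨a, rfl⟩ := (bcPoint f H₂ Y).surjective h
    obtain ⟨b, hb⟩ := (hg _ ((Over.map f).map p)).2 a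
    refine ⟨bcPoint f H₁ Y b, ?_⟩
    rw [key, ← DiagGrp.bcPoint_comp_right, ← DiagGrp.bcPoint_comp_right, ← hb]
    exact (map_mul (bcPointMulEquiv f G Y) _ _ |>.trans (congrArg₂ (· * ·)
      ((map_mul _ _ _).trans (congrArg₂ (· * ·) (map_inv _ _) rfl)) rfl)).symm

theorem conjOn_bc {H : Over S} {u v : H ⟶ G} {T : Over S'} (g : (Over.map f).obj T ⟶ G)
    (hg : ConjOn u v g) :
    ConjOn ((Over.pullback f).map u) ((Over.pullback f).map v) (bcPoint f G T g) := by
  intro Y p h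
  obtain ⟨a, rfl⟩ := (bcPoint f H Y).surjective h
  have key : p ≫ bcPoint f G T g = bcPointMulEquiv f G Y ((Over.map f).map p ≫ g) :=
    (DiagGrp.bcPoint_comp f p g).symm
  rw [key, ← DiagGrp.bcPoint_comp_right, ← DiagGrp.bcPoint_comp_right, hg _ ((Over.map f).map p) a]
  exact map_mul (bcPointMulEquiv f G Y) _ _ |>.trans (congrArg₂ (· * ·) (map_mul _ _ _) (map_inv _ _))

/-- The point over the base change attached to a point over the new base. -/
noncomputable def unitMap (f : S' ⟶ S) : (Over.map f).obj (𝟙_ (Over S')) ⟶ Over.mk f :=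
  Over.homMk (𝟙 S') rfl

end GrothLib.MultDef14
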