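import Groth.Agent.Lib.MultDef14.Sub

/-!
Conjugation of subgroups of multiplicative type over an affine base.
-/

universe u

open CategoryTheory MonoidalCategory CartesianMonoidalCategory MonObj GrpObj AlgebraicGeometry

set_option backward.isDefEq.respectTransparency false

namespace GrothLib.MultDef14

open GrothLib.DiagGrp (HasChartsFpqc)

/-- Subgroups conjugate on points are conjugate by an isomorphism. -/
theorem conjBy_of_conjSub {S : Scheme.{u}} {H₁ H₂ G : Over S} [GrpObj G] (i₁ : H₁ ⟶ G) (i₂ : H₂ ⟶ G)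
    [Mono i₁] [Mono i₂] (g : 𝟙_ (Over S) ⟶ G) (hg : ConjSub i₁ i₂ g) : SGA3x.ConjBy i₁ i₂ g := by
  obtain ⟨φ, hφ⟩ := (hg H₁ (toUnit H₁)).1 (𝟙 H₁)
  obtain ⟨ψ, hψ⟩ := (hg H₂ (toUnit H₂)).2 (𝟙 H₂)
  rw [Category.id_comp] at hφ hψ
  have t₁ : φ ≫ toUnit H₂ = toUnit H₁ := toUnit_unique _ _
  have t₂ : ψ ≫ toUnit H₁ = toUnit H₂ := toUnit_unique _ _
  refine ⟨⟨φ, ψ, ?_, ?_⟩, hφ⟩
  · rw [← cancel_mono i₁, Category.assoc, ← hψ, MonObj.comp_mul, MonObj.comp_mul, GrpObj.comp_inv,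
      ← Category.assoc φ (toUnit H₂), t₁, ← hφ, Category.id_comp]
    group
  · rw [← cancel_mono i₂, Category.assoc, ← hφ, MonObj.comp_mul, MonObj.comp_mul, GrpObj.comp_inv,
      ← Category.assoc ψ (toUnit H₁), t₂, ← hψ, Category.id_comp]
    group

variable {R : Type u} [CommRing R] (J : Ideal R)
variable {H₁ H₂ G : Over (Spec (CommRingCat.of R))} [GrpObj H₁] [GrpObj H₂] [GrpObj G]
variable {Q₁ Q₂ : ∀ (M : Type), AddCommGroup M → Prop} (hH₁ : HasChartsFpqc Q₁ H₁) (hH₂ : HasChartsFpqc Q₂ H₂)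
  (i₁ : H₁ ⟶ G) [IsMonHom i₁] [Mono i₁] (i₂ : H₂ ⟶ G) [IsMonHom i₂] [Mono i₂]

include hH₁ hH₂ in
/-- Over an affine base: correct a given lift conjugating one subgroup onto the other. -/
theorem exists_conjSub_spec (hJ : J ^ 2 = ⊥) (g₁ : 𝟙_ (Over (Spec (CommRingCat.of R))) ⟶ G)
    (h0 : ConjSub i₁ i₂ (toUnit (closedPt J) ≫ g₁)) :
    ∃ g : 𝟙_ (Over (Spec (CommRingCat.of R))) ⟶ G, toUnit (closedPt J) ≫ g = toUnit (closedPt J) ≫ g₁ ∧
      ConjSub i₁ i₂ g := by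
  let q := 𝟙 (Spec (CommRingCat.of R))
  have e : affMap q (Ideal.Quotient.mkₐ R J) ≫ toUnit (aff q R) = closedFrom J ≫ toUnit (closedPt J) :=
    toUnit_unique _ _
  obtain ⟨g, hg, hc⟩ := exists_conjSub_step hH₁ hH₂ i₁ i₂ q J hJ (toUnit _ ≫ g₁)
    (by rw [← Category.assoc, e, Category.assoc]; exact h0.comp _)
  refine ⟨unitTo ≫ g, ?_, hc.comp _⟩
  rw [← Category.assoc, toUnit_unitTo, Category.assoc, hg, ← Category.assoc, ← Category.assoc]
  congr 1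

include hH₁ hH₂ in
/-- Over an affine base: lift along a nilpotent thickening, for a smooth target. -/
theorem exists_conjSub_spec_lift (hJ : IsNilpotent J) (hG : Smooth G.hom) (g₀ : closedPt J ⟶ G)
    (h0 : ConjSub i₁ i₂ g₀) :
    ∃ g : 𝟙_ (Over (Spec (CommRingCat.of R))) ⟶ G, toUnit (closedPt J) ≫ g = g₀ ∧ ConjSub i₁ i₂ g := by
  obtain ⟨g, hg, hc⟩ := exists_lift_of_step ((Groth.Agent.S1488.result G.hom).mp hG).2
    (fun {X} (g : X ⟶ G) => ConjSub i₁ i₂ g) (fun k h => ConjSub.comp h k)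
    (fun q J hJ g₁ h => exists_conjSub_step hH₁ hH₂ i₁ i₂ q J hJ g₁ h)
    (𝟙 _) J hJ (closedFrom J ≫ g₀) (h0.comp _)
  refine ⟨unitTo ≫ g, ?_, hc.comp _⟩
  rw [← Category.assoc, toUnit_unitTo, Category.assoc, hg, ← Category.assoc, closedTo_from, Category.id_comp]

end GrothLib.MultDef14
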