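import Groth.Agent.Lib.MultDef14.Conj
import Groth.Agent.Lib.MultDef14.Affine
import Groth.Agent.S1488

/-!
The conjugation theorems over an affine base.
-/

universe u

open CategoryTheory MonoidalCategory CartesianMonoidalCategory MonObj GrpObj AlgebraicGeometry

set_option backward.isDefEq.respectTransparency false

namespace GrothLib.MultDef14

variable {R : Type u} [CommRing R] (J : Ideal R)

/-- The thickened point of the base. -/
noncomputable abbrev closedPt : Over (Spec (CommRingCat.of R)) :=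
  Over.mk (Spec.map (CommRingCat.ofHom (Ideal.Quotient.mk J)))

/-- The whole base as an affine point. -/
noncomputable def unitTo : 𝟙_ (Over (Spec (CommRingCat.of R))) ⟶ aff (𝟙 (Spec (CommRingCat.of R))) R :=
  Over.homMk (𝟙 _) (by
    change 𝟙 _ ≫ Spec.map _ ≫ 𝟙 _ = 𝟙 _
    rw [Category.id_comp, Category.comp_id, Algebra.algebraMap_self, CommRingCat.ofHom_id]
    exact Spec.map_id _)

/-- The thickened point as an affine point. -/
noncomputable def closedTo : closedPt J ⟶ aff (𝟙 (Spec (CommRingCat.of R))) (R ⧸ J) :=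
  Over.homMk (𝟙 _) (by
    change 𝟙 _ ≫ Spec.map _ ≫ 𝟙 _ = _
    rw [Category.id_comp, Category.comp_id]
    rfl)

/-- The inverse of `closedTo`. -/
noncomputable def closedFrom : aff (𝟙 (Spec (CommRingCat.of R))) (R ⧸ J) ⟶ closedPt J :=
  Over.homMk (𝟙 _) (by
    change 𝟙 _ ≫ _ = Spec.map _ ≫ 𝟙 _
    rw [Category.id_comp, Category.comp_id]
    rfl)

theorem closedTo_from : closedTo J ≫ closedFrom J = 𝟙 _ := Over.OverMorphism.ext (Category.id_comp _)

theorem toUnit_unitTo : toUnit (closedPt J) ≫ unitTo =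
    closedTo J ≫ affMap (𝟙 (Spec (CommRingCat.of R))) (Ideal.Quotient.mkₐ R J) := by
  apply Over.OverMorphism.ext
  change Spec.map _ ≫ 𝟙 _ = 𝟙 _ ≫ Spec.map _
  rw [Category.comp_id, Category.id_comp]
  rfl

variable {Q : ∀ (M : Type), AddCommGroup M → Prop} {H G : Over (Spec (CommRingCat.of R))} [GrpObj H] [GrpObj G]
  (hH : DiagGrp.HasChartsFpqc Q H) (u v : H ⟶ G) [IsMonHom u] [IsMonHom v]

include hH in
/-- Over an affine base: correct a given lift, modulo a square-zero ideal. -/
theorem exists_conj_spec (hJ : J ^ 2 = ⊥) (g₁ : 𝟙_ (Over (Spec (CommRingCat.of R))) ⟶ G)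
    (h0 : ConjOn u v (toUnit (closedPt J) ≫ g₁)) :
    ∃ g : 𝟙_ (Over (Spec (CommRingCat.of R))) ⟶ G, toUnit (closedPt J) ≫ g = toUnit (closedPt J) ≫ g₁ ∧
      ConjOn u v g := by
  let q := 𝟙 (Spec (CommRingCat.of R))
  have e : affMap q (Ideal.Quotient.mkₐ R J) ≫ toUnit (aff q R) = closedFrom J ≫ toUnit (closedPt J) :=
    toUnit_unique _ _
  obtain ⟨g, hg, hc⟩ := exists_conjOn_step hH (EssFree.isAffineHom_of_charts hH) u v q J hJ (toUnit _ ≫ g₁)
    (by rw [← Category.assoc, e, Category.assoc]; exact h0.comp _)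
  refine ⟨unitTo ≫ g, ?_, hc.comp _⟩
  rw [← Category.assoc, toUnit_unitTo, Category.assoc, hg, ← Category.assoc, ← Category.assoc]
  congr 1

include hH in
/-- Over an affine base: lift along a nilpotent thickening, for a smooth target. -/
theorem exists_conj_spec_lift (hJ : IsNilpotent J) (hG : Smooth G.hom) (g₀ : closedPt J ⟶ G)
    (h0 : ConjOn u v g₀) :
    ∃ g : 𝟙_ (Over (Spec (CommRingCat.of R))) ⟶ G, toUnit (closedPt J) ≫ g = g₀ ∧ ConjOn u v g := by
  obtain ⟨g, hg, hc⟩ := exists_conjOn_lift hH (EssFree.isAffineHom_of_charts hH) u v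
    ((Groth.Agent.S1488.result G.hom).mp hG).2 (𝟙 _) J hJ (closedFrom J ≫ g₀) (h0.comp _)
  refine ⟨unitTo ≫ g, ?_, hc.comp _⟩
  rw [← Category.assoc, toUnit_unitTo, Category.assoc, hg, ← Category.assoc, closedTo_from, Category.id_comp]

end GrothLib.MultDef14
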