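import Groth.Agent.Lib.MultDef14.HomPt
import Groth.Agent.Lib.MultDef14.Cover
import Groth.Agent.Lib.ProdPoints.Basic

/-!
Homomorphisms between groups of multiplicative type lift uniquely along nilpotent thickenings.
-/

universe u

open CategoryTheory MonoidalCategory CartesianMonoidalCategory MonObj GrpObj AlgebraicGeometry
open CategoryTheory.Limits
open scoped TensorProduct

namespace GrothLib.MultDef14

variable {S : Scheme.{u}} {R : Type u} [CommRing R] {q : Spec (CommRingCat.of R) ⟶ S}

section BaseChange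

variable (q) (T : Type u) [CommRing T] [Algebra R T]

/-- The base point of an algebra. -/
noncomputable abbrev baseMap : Spec (CommRingCat.of T) ⟶ S := Spec.map (CommRingCat.ofHom (algebraMap R T)) ≫ q

variable (B : Type u) [CommRing B] [Algebra R B] [Algebra T B] [IsScalarTower R T B]

/-- An affine point over the new base, over the old one. -/
noncomputable def chgTo : aff (baseMap q T) B ⟶ aff q B :=
  Over.homMk (𝟙 _) (by
    change 𝟙 _ ≫ Spec.map _ ≫ q = Spec.map _ ≫ Spec.map _ ≫ q
    rw [Category.id_comp, ← Category.assoc (Spec.map _), ← Spec.map_comp, ← CommRingCat.ofHom_comp,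
      ← IsScalarTower.algebraMap_eq])

/-- An affine point over the old base, over the new one. -/
noncomputable def chgFrom : aff q B ⟶ aff (baseMap q T) B :=
  Over.homMk (𝟙 _) (by
    change 𝟙 _ ≫ Spec.map _ ≫ Spec.map _ ≫ q = Spec.map _ ≫ q
    rw [Category.id_comp, ← Category.assoc (Spec.map _), ← Spec.map_comp, ← CommRingCat.ofHom_comp,
      ← IsScalarTower.algebraMap_eq])

theorem chgTo_from : chgTo q T B ≫ chgFrom q T B = 𝟙 _ := Over.OverMorphism.ext (Category.id_comp _)

theorem chgFrom_to : chgFrom q T B ≫ chgTo q T B = 𝟙 _ := Over.OverMorphism.ext (Category.id_comp _)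

theorem chgTo_injective {X : Over S} {x y : aff q B ⟶ X} (h : chgTo q T B ≫ x = chgTo q T B ≫ y) : x = y := by
  have := congrArg (chgFrom q T B ≫ ·) h
  simpa [← Category.assoc, chgFrom_to] using this

theorem chgTo_comp {B' : Type u} [CommRing B'] [Algebra R B'] [Algebra T B'] [IsScalarTower R T B'] (f : B →ₐ[T] B') :
    affMap (baseMap q T) f ≫ chgTo q T B = chgTo q T B' ≫ affMap q (f.restrictScalars R) := by
  apply Over.OverMorphism.ext
  change Spec.map _ ≫ 𝟙 _ = 𝟙 _ ≫ Spec.map _
  rw [Category.comp_id, Category.id_comp]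
  rfl

theorem chgTo_comp_assoc {B' : Type u} [CommRing B'] [Algebra R B'] [Algebra T B'] [IsScalarTower R T B']
    (f : B →ₐ[T] B') {X : Over S} (x : aff q B ⟶ X) :
    affMap (baseMap q T) f ≫ chgTo q T B ≫ x = chgTo q T B' ≫ affMap q (f.restrictScalars R) ≫ x := by
  rw [← Category.assoc, chgTo_comp, Category.assoc]

variable {A : Type u} [CommRing A] [Algebra R A]

/-- The base change of a point. -/
noncomputable def bcPt {X : Over S} (x : aff q A ⟶ X) : aff (baseMap q T) (T ⊗[R] A) ⟶ X :=
  chgTo q T _ ≫ affMap q (Algebra.TensorProduct.includeRight : A →ₐ[R] T ⊗[R] A) ≫ x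

variable {q T} {H K : Over S} [GrpObj H] [GrpObj K]

theorem IsHomPt.baseChange {h : aff q A ⟶ H} {a : aff q A ⟶ K} (ha : IsHomPt h a) :
    IsHomPt (bcPt q T h) (bcPt q T a) := by
  intro B _ _ f g k e
  letI : Algebra R B := ((algebraMap T B).comp (algebraMap R T)).toAlgebra
  haveI : IsScalarTower R T B := IsScalarTower.of_algebraMap_eq fun r => rfl
  simp only [bcPt, chgTo_comp_assoc, ← MonObj.comp_mul] at e ⊢
  have e' := chgTo_injective q T B e
  simp only [affMap_comp_assoc] at e' ⊢
  rw [ha B _ _ _ e']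

omit [GrpObj H] in
theorem IsUniv.baseChange {h : aff q A ⟶ H} (hu : IsUniv q h) :
    IsUniv (baseMap q T) (bcPt q T h) := by
  refine ⟨fun B _ _ => ?_, fun X p y => ?_⟩
  · letI : Algebra R B := ((algebraMap T B).comp (algebraMap R T)).toAlgebra
    haveI : IsScalarTower R T B := IsScalarTower.of_algebraMap_eq fun r => rfl
    have key : ∀ φ : T ⊗[R] A →ₐ[T] B, affMap (baseMap q T) φ ≫ bcPt q T h =
        chgTo q T B ≫ affMap q ((φ.restrictScalars R).comp Algebra.TensorProduct.includeRight) ≫ h := fun φ => by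
      rw [bcPt, chgTo_comp_assoc, affMap_comp_assoc]
    refine ⟨fun φ ψ e => ?_, fun y => ?_⟩
    · simp only [key] at e
      have e1 := (hu.bij B).1 (chgTo_injective q T B e)
      exact Algebra.TensorProduct.ext (by ext) e1
    · obtain ⟨φ, hφ⟩ := (hu.bij B).2 (chgFrom q T B ≫ y)
      dsimp only at hφ
      refine ⟨Algebra.TensorProduct.lift (Algebra.ofId T B) φ fun _ _ => Commute.all _ _, ?_⟩
      dsimp only
      have e : ((Algebra.TensorProduct.lift (Algebra.ofId T B) φ fun _ _ => Commute.all _ _).restrictScalars R).comp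
          Algebra.TensorProduct.includeRight = φ := AlgHom.ext fun a => by simp
      rw [key, e, hφ, ← Category.assoc, chgTo_from, Category.id_comp]
  · let p' : X ⟶ aff q R := p ≫ chgTo q T T ≫ affMap q (Algebra.ofId R T)
    obtain ⟨t, htp, hty⟩ := hu.factor X p' y
    have h1 : IsPullback (Spec.map (CommRingCat.ofHom (algebraMap T (T ⊗[R] A))))
        (Spec.map (CommRingCat.ofHom ((Algebra.TensorProduct.includeRight : A →ₐ[R] T ⊗[R] A) : A →+* T ⊗[R] A)))
        (Spec.map (CommRingCat.ofHom (algebraMap R T))) (Spec.map (CommRingCat.ofHom (algebraMap R A))) :=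
      isPullback_SpecMap_of_isPushout _ _ _ _ (CommRingCat.isPushout_tensorProduct R T A)
    have hc : p.left ≫ Spec.map (CommRingCat.ofHom (algebraMap R T)) =
        t.left ≫ Spec.map (CommRingCat.ofHom (algebraMap R A)) := by
      have := congrArg CommaMorphism.left htp
      change t.left ≫ Spec.map _ = p.left ≫ 𝟙 _ ≫ Spec.map _ at this
      rw [Category.id_comp] at this
      exact this.symm
    have hp : p.left ≫ baseMap q T = X.hom := by
      have := Over.w p
      change p.left ≫ Spec.map (CommRingCat.ofHom (algebraMap T T)) ≫ baseMap q T = X.hom at this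
      rw [Algebra.algebraMap_self, CommRingCat.ofHom_id, show Spec.map (𝟙 (CommRingCat.of T)) = 𝟙 _ from Spec.map_id _] at this
      exact this
    refine ⟨Over.homMk (h1.lift p.left t.left hc) ?_, Over.OverMorphism.ext ?_, Over.OverMorphism.ext ?_⟩
    · change h1.lift _ _ hc ≫ Spec.map _ ≫ baseMap q T = X.hom
      rw [← Category.assoc, h1.lift_fst, hp]
    · change h1.lift _ _ hc ≫ Spec.map _ = p.left
      exact h1.lift_fst _ _ _
    · change h1.lift _ _ hc ≫ 𝟙 _ ≫ Spec.map _ ≫ h.left = y.left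
      rw [Category.id_comp, ← Category.assoc, h1.lift_snd]
      exact congrArg CommaMorphism.left hty

end BaseChange

end GrothLib.MultDef14

namespace GrothLib.MultDef14

open GrothLib.DiagGrp (HasChartsFpqc)

variable {S : Scheme.{u}} {R : Type u} [CommRing R] {q : Spec (CommRingCat.of R) ⟶ S}
variable {A : Type u} [CommRing A] [Algebra R A] {H K : Over S} [GrpObj H] [GrpObj K]

/-- The reduction of a base-changed algebra. -/
noncomputable def kap (J : Ideal R) (T : Type u) [CommRing T] [Algebra R T] :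
    A ⧸ J.map (algebraMap R A) →ₐ[R] (T ⊗[R] A) ⧸ (J.map (algebraMap R T)).map (algebraMap T (T ⊗[R] A)) :=
  Ideal.Quotient.liftₐ _ ((Ideal.Quotient.mkₐ R _).comp Algebra.TensorProduct.includeRight) fun x hx => by
    have h0 : J.map (algebraMap R A) ≤ Ideal.comap (Algebra.TensorProduct.includeRight : A →ₐ[R] T ⊗[R] A)
        ((J.map (algebraMap R T)).map (algebraMap T (T ⊗[R] A))) := by
      rw [Ideal.map_le_iff_le_comap]
      intro r hr
      rw [Ideal.mem_comap, Ideal.mem_comap, AlgHom.commutes, IsScalarTower.algebraMap_apply R T (T ⊗[R] A)]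
      exact Ideal.mem_map_of_mem _ (Ideal.mem_map_of_mem _ hr)
    exact Ideal.Quotient.eq_zero_iff_mem.mpr (h0 hx)

theorem kap_comp_mk (J : Ideal R) (T : Type u) [CommRing T] [Algebra R T] :
    (kap J T).comp (Ideal.Quotient.mkₐ R (J.map (algebraMap R A))) =
      (Ideal.Quotient.mkₐ R _).comp (Algebra.TensorProduct.includeRight : A →ₐ[R] T ⊗[R] A) :=
  AlgHom.ext fun _ => rfl

variable {Q Q' : ∀ (M : Type), AddCommGroup M → Prop}

/-- Multiplicative points which agree modulo a nilpotent ideal agree. -/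
theorem homPt_ext (hH : HasChartsFpqc Q H) (hK : HasChartsFpqc Q' K) {h : aff q A ⟶ H} (hu : IsUniv q h)
    {J : Ideal R} (hJ : IsNilpotent J) {a a' : aff q A ⟶ K} (ha : IsHomPt h a) (ha' : IsHomPt h a')
    (e : affMap q (Ideal.Quotient.mkₐ R (J.map (algebraMap R A))) ≫ a =
      affMap q (Ideal.Quotient.mkₐ R (J.map (algebraMap R A))) ≫ a') : a = a' := by
  obtain ⟨σ, T, _, _, hT, hch⟩ := exists_splitting q hH hK
  refine ext_cover q hT fun i => chgTo_injective q (T i) (T i ⊗[R] A) ?_
  change bcPt q (T i) a = bcPt q (T i) a'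
  have hd : ∀ {X : Over S} [GrpObj X] {Q'' : ∀ (M : Type), AddCommGroup M → Prop},
      DiagGrp.HasChart Q'' X (baseMap q (T i)) →
        DiagGrp.HasChart Q'' X (Spec.map (CommRingCat.ofHom (algebraMap (T i) (T i))) ≫ baseMap q (T i)) :=
    fun hX => hX.precomp _ _ rfl
  obtain ⟨⟨M, _, -, ⟨e₁⟩⟩, ⟨N, _, -, ⟨e₂⟩⟩⟩ := And.intro (hd (hch i).1) (hd (hch i).2)
  set JT := J.map (algebraMap R (T i))
  have hJT : IsNilpotent JT := hJ.map (Ideal.mapHom (algebraMap R (T i)))
  have hred : ∀ b : aff q A ⟶ K,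
      affMap (baseMap q (T i)) (Ideal.Quotient.mkₐ (T i) (JT.map (algebraMap (T i) (T i ⊗[R] A)))) ≫ bcPt q (T i) b =
        chgTo q (T i) _ ≫ affMap q (kap J (T i)) ≫ affMap q (Ideal.Quotient.mkₐ R (J.map (algebraMap R A))) ≫ b := by
    intro b
    rw [bcPt, chgTo_comp_assoc, affMap_comp_assoc, affMap_comp_assoc, kap_comp_mk]
    rfl
  obtain ⟨_, -, hb⟩ := existsUnique_homPt_split (q := baseMap q (T i)) e₁ e₂ hu.baseChange JT hJT
    (affMap _ (Ideal.Quotient.mkₐ (T i) (JT.map (algebraMap (T i) (T i ⊗[R] A)))) ≫ bcPt q (T i) a)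
    (ha.baseChange.map _)
  rw [hb _ ⟨ha.baseChange, rfl⟩, hb _ ⟨ha'.baseChange, by rw [hred, hred, e]⟩]

/-- A multiplicative point over a base extension, used over the old base. -/
theorem IsHomPt.relative {T : Type u} [CommRing T] [Algebra R T] {h : aff q A ⟶ H}
    {a : aff (baseMap q T) (T ⊗[R] A) ⟶ K} (ha : IsHomPt (bcPt q T h) a) {B : Type u} [CommRing B] [Algebra R B]
    (f g k : T ⊗[R] A →ₐ[R] B) (hf : f.comp Algebra.TensorProduct.includeLeft = k.comp Algebra.TensorProduct.includeLeft)
    (hg : g.comp Algebra.TensorProduct.includeLeft = k.comp Algebra.TensorProduct.includeLeft)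
    (e : affMap q (k.comp Algebra.TensorProduct.includeRight) ≫ h =
      (affMap q (f.comp Algebra.TensorProduct.includeRight) ≫ h) *
        (affMap q (g.comp Algebra.TensorProduct.includeRight) ≫ h)) :
    affMap q k ≫ chgFrom q T _ ≫ a = (affMap q f ≫ chgFrom q T _ ≫ a) * (affMap q g ≫ chgFrom q T _ ≫ a) := by
  letI : Algebra T B :=
    ((k.comp (Algebra.TensorProduct.includeLeft : T →ₐ[R] T ⊗[R] A) : T →ₐ[R] B) : T →+* B).toAlgebra
  haveI : IsScalarTower R T B := IsScalarTower.of_algebraMap_eq fun r =>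
    ((k.comp (Algebra.TensorProduct.includeLeft : T →ₐ[R] T ⊗[R] A)).commutes r).symm
  let k' : T ⊗[R] A →ₐ[T] B := { (k : T ⊗[R] A →+* B) with commutes' := fun t => rfl }
  let f' : T ⊗[R] A →ₐ[T] B := { (f : T ⊗[R] A →+* B) with commutes' := fun t => DFunLike.congr_fun hf t }
  let g' : T ⊗[R] A →ₐ[T] B := { (g : T ⊗[R] A →+* B) with commutes' := fun t => DFunLike.congr_fun hg t }
  refine chgTo_injective q T B ?_
  have conv : ∀ (φ : T ⊗[R] A →ₐ[T] B), chgTo q T B ≫ affMap q (φ.restrictScalars R) ≫ chgFrom q T _ ≫ a =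
      affMap (baseMap q T) φ ≫ a := fun φ => by
    rw [← chgTo_comp_assoc, ← Category.assoc (chgTo q T (T ⊗[R] A)), chgTo_from, Category.id_comp]
  have e' : affMap (baseMap q T) k' ≫ bcPt q T h =
      (affMap (baseMap q T) f' ≫ bcPt q T h) * (affMap (baseMap q T) g' ≫ bcPt q T h) := by
    simp only [bcPt, chgTo_comp_assoc, affMap_comp_assoc, ← MonObj.comp_mul]
    exact congrArg (chgTo q T B ≫ ·) e
  rw [MonObj.comp_mul]
  change chgTo q T B ≫ affMap q (k'.restrictScalars R) ≫ _ = (chgTo q T B ≫ affMap q (f'.restrictScalars R) ≫ _) *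
    (chgTo q T B ≫ affMap q (g'.restrictScalars R) ≫ _)
  rw [conv, conv, conv]
  exact ha B f' g' k' e'

/-- The same, for a point on the reduction. -/
theorem IsHomPt.reduction (J : Ideal R) (T : Type u) [CommRing T] [Algebra R T] {h : aff q A ⟶ H}
    {a₀ : aff q (A ⧸ J.map (algebraMap R A)) ⟶ K}
    (ha : IsHomPt (affMap q (Ideal.Quotient.mkₐ R (J.map (algebraMap R A))) ≫ h) a₀) :
    IsHomPt (affMap (baseMap q T)
        (Ideal.Quotient.mkₐ T ((J.map (algebraMap R T)).map (algebraMap T (T ⊗[R] A)))) ≫ bcPt q T h)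
      (chgTo q T _ ≫ affMap q (kap J T) ≫ a₀) := by
  intro B _ _ f g k e
  letI : Algebra R B := ((algebraMap T B).comp (algebraMap R T)).toAlgebra
  haveI : IsScalarTower R T B := IsScalarTower.of_algebraMap_eq fun r => rfl
  simp only [bcPt, chgTo_comp_assoc, affMap_comp_assoc, ← MonObj.comp_mul] at e ⊢
  have e' := chgTo_injective q T B e
  rw [ha B ((f.restrictScalars R).comp (kap J T)) ((g.restrictScalars R).comp (kap J T))
    ((k.restrictScalars R).comp (kap J T))]
  simp only [affMap_comp_assoc, AlgHom.comp_assoc, kap_comp_mk]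
  exact e'

/-- The comparison map from the algebra over a product of two extensions. -/
theorem exists_theta {T₁ T₂ C : Type u} [CommRing T₁] [Algebra R T₁] [CommRing T₂] [Algebra R T₂] [CommRing C]
    [Algebra R C] (iL : T₁ ⊗[R] A →ₐ[R] C) (iR : T₂ ⊗[R] A →ₐ[R] C)
    (hA : iL.comp Algebra.TensorProduct.includeRight = iR.comp Algebra.TensorProduct.includeRight) :
    ∃ θ : (T₁ ⊗[R] T₂) ⊗[R] A →ₐ[R] C,
      θ.comp (Algebra.TensorProduct.map Algebra.TensorProduct.includeLeft (AlgHom.id R A)) = iL ∧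
      θ.comp (Algebra.TensorProduct.map Algebra.TensorProduct.includeRight (AlgHom.id R A)) = iR := by
  refine ⟨Algebra.TensorProduct.productMap
    (Algebra.TensorProduct.productMap (iL.comp Algebra.TensorProduct.includeLeft)
      (iR.comp Algebra.TensorProduct.includeLeft)) (iL.comp Algebra.TensorProduct.includeRight), ?_, ?_⟩
  · exact Algebra.TensorProduct.ext (AlgHom.ext fun t => by simp [← Algebra.TensorProduct.one_def])
      (AlgHom.ext fun x => by simp [← Algebra.TensorProduct.one_def])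
  · refine Algebra.TensorProduct.ext (AlgHom.ext fun t => by simp [← Algebra.TensorProduct.one_def])
      (AlgHom.ext fun x => ?_)
    have := DFunLike.congr_fun hA x
    simpa [← Algebra.TensorProduct.one_def] using this

/-- Multiplicative points lift along nilpotent thickenings. -/
theorem exists_homPt_lift (hH : HasChartsFpqc Q H) (hK : HasChartsFpqc Q' K) {h : aff q A ⟶ H} (hu : IsUniv q h)
    {J : Ideal R} (hJ : IsNilpotent J) (a₀ : aff q (A ⧸ J.map (algebraMap R A)) ⟶ K)
    (ha₀ : IsHomPt (affMap q (Ideal.Quotient.mkₐ R (J.map (algebraMap R A))) ≫ h) a₀) :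
    ∃ a : aff q A ⟶ K, IsHomPt h a ∧ affMap q (Ideal.Quotient.mkₐ R (J.map (algebraMap R A))) ≫ a = a₀ := by
  classical
  obtain ⟨σ, T, _, _, hT, hch⟩ := exists_splitting q hH hK
  have hd : ∀ i {X : Over S} [GrpObj X] {Q'' : ∀ (M : Type), AddCommGroup M → Prop},
      DiagGrp.HasChart Q'' X (baseMap q (T i)) →
        DiagGrp.HasChart Q'' X (Spec.map (CommRingCat.ofHom (algebraMap (T i) (T i))) ≫ baseMap q (T i)) :=
    fun i _ _ _ hX => hX.precomp _ _ rfl
  have hloc : ∀ i, ∃ a : aff (baseMap q (T i)) (T i ⊗[R] A) ⟶ K, IsHomPt (bcPt q (T i) h) a ∧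
      affMap (baseMap q (T i)) (Ideal.Quotient.mkₐ (T i) ((J.map (algebraMap R (T i))).map
        (algebraMap (T i) (T i ⊗[R] A)))) ≫ a = chgTo q (T i) _ ≫ affMap q (kap J (T i)) ≫ a₀ := fun i => by
    obtain ⟨⟨M, _, -, ⟨e₁⟩⟩, ⟨N, _, -, ⟨e₂⟩⟩⟩ := And.intro (hd i (hch i).1) (hd i (hch i).2)
    exact (existsUnique_homPt_split (q := baseMap q (T i)) e₁ e₂ hu.baseChange _
      (hJ.map (Ideal.mapHom (algebraMap R (T i)))) _ (ha₀.reduction J (T i))).exists
  choose a ha hared using hloc
  let b : ∀ i, aff q (T i ⊗[R] A) ⟶ K := fun i => chgFrom q (T i) _ ≫ a i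
  have hbred : ∀ i, affMap q (Ideal.Quotient.mkₐ R ((J.map (algebraMap R (T i))).map
      (algebraMap (T i) (T i ⊗[R] A)))) ≫ b i = affMap q (kap J (T i)) ≫ a₀ := fun i => by
    refine chgTo_injective q (T i) _ ?_
    rw [← hared i, show (Ideal.Quotient.mkₐ R ((J.map (algebraMap R (T i))).map (algebraMap (T i) (T i ⊗[R] A)))) =
      (Ideal.Quotient.mkₐ (T i) ((J.map (algebraMap R (T i))).map
        (algebraMap (T i) (T i ⊗[R] A)))).restrictScalars R from rfl, ← chgTo_comp_assoc,
      ← Category.assoc (chgTo q (T i) (T i ⊗[R] A)), chgTo_from, Category.id_comp]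
  -- compatibility
  have hagree : ∀ (j k : σ),
      affMap q (Algebra.TensorProduct.map (Algebra.TensorProduct.includeLeft : T j →ₐ[R] T j ⊗[R] T k)
          (AlgHom.id R A)) ≫ b j =
        affMap q (Algebra.TensorProduct.map (Algebra.TensorProduct.includeRight : T k →ₐ[R] T j ⊗[R] T k)
          (AlgHom.id R A)) ≫ b k := by
    intro j k
    let T' := T j ⊗[R] T k
    have key : ∀ (i : σ) (τ : T i →ₐ[R] T'),
        IsHomPt (bcPt q T' h) (chgTo q T' _ ≫ affMap q (Algebra.TensorProduct.map τ (AlgHom.id R A)) ≫ b i) ∧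
          affMap (baseMap q T') (Ideal.Quotient.mkₐ T' ((J.map (algebraMap R T')).map (algebraMap T' (T' ⊗[R] A)))) ≫
              chgTo q T' _ ≫ affMap q (Algebra.TensorProduct.map τ (AlgHom.id R A)) ≫ b i =
            chgTo q T' _ ≫ affMap q (kap J T') ≫ a₀ := by
      intro i τ
      set ω := Algebra.TensorProduct.map τ (AlgHom.id R A) with hω
      have hωR : ω.comp Algebra.TensorProduct.includeRight = Algebra.TensorProduct.includeRight :=
        AlgHom.ext fun x => by simp [hω]
      have hωL : ω.comp Algebra.TensorProduct.includeLeft =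
          (Algebra.TensorProduct.includeLeft : T' →ₐ[R] T' ⊗[R] A).comp τ := AlgHom.ext fun x => by simp [hω]
      refine ⟨fun B _ _ f g k e => ?_, ?_⟩
      · letI : Algebra R B := ((algebraMap T' B).comp (algebraMap R T')).toAlgebra
        haveI : IsScalarTower R T' B := IsScalarTower.of_algebraMap_eq fun r => rfl
        simp only [bcPt, chgTo_comp_assoc, affMap_comp_assoc, ← MonObj.comp_mul] at e ⊢
        have e' := chgTo_injective q T' B e
        congr 1
        refine (ha i).relative _ _ _ ?_ ?_ ?_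
        · rw [AlgHom.comp_assoc, AlgHom.comp_assoc, hωL, ← AlgHom.comp_assoc, ← AlgHom.comp_assoc]
          congr 1
          exact AlgHom.ext fun t => (f.commutes t).trans (k.commutes t).symm
        · rw [AlgHom.comp_assoc, AlgHom.comp_assoc, hωL, ← AlgHom.comp_assoc, ← AlgHom.comp_assoc]
          congr 1
          exact AlgHom.ext fun t => (g.commutes t).trans (k.commutes t).symm
        · simp only [AlgHom.comp_assoc, hωR]
          exact e'
      · rw [chgTo_comp_assoc]
        congr 1
        let ωq : (T i ⊗[R] A) ⧸ (J.map (algebraMap R (T i))).map (algebraMap (T i) (T i ⊗[R] A)) →ₐ[R]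
            (T' ⊗[R] A) ⧸ (J.map (algebraMap R T')).map (algebraMap T' (T' ⊗[R] A)) :=
          Ideal.Quotient.liftₐ _ ((Ideal.Quotient.mkₐ R _).comp ω) fun x hx => by
            have h0 : (J.map (algebraMap R (T i))).map (algebraMap (T i) (T i ⊗[R] A)) ≤
                Ideal.comap ω ((J.map (algebraMap R T')).map (algebraMap T' (T' ⊗[R] A))) := by
              rw [Ideal.map_map, ← IsScalarTower.algebraMap_eq, Ideal.map_le_iff_le_comap]
              intro r hr
              rw [Ideal.mem_comap, Ideal.mem_comap, AlgHom.commutes, IsScalarTower.algebraMap_apply R T' (T' ⊗[R] A)]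
              exact Ideal.mem_map_of_mem _ (Ideal.mem_map_of_mem _ hr)
            exact Ideal.Quotient.eq_zero_iff_mem.mpr (h0 hx)
        have e1 : ωq.comp (Ideal.Quotient.mkₐ R _) = (Ideal.Quotient.mkₐ R _).comp ω := AlgHom.ext fun _ => rfl
        have e2 : ωq.comp (kap J (T i)) = kap J T' := Ideal.Quotient.algHom_ext R (by
          rw [AlgHom.comp_assoc, kap_comp_mk, ← AlgHom.comp_assoc, e1, AlgHom.comp_assoc, hωR, kap_comp_mk])
        rw [show (Ideal.Quotient.mkₐ T' ((J.map (algebraMap R T')).map (algebraMap T' (T' ⊗[R] A)))).restrictScalars R =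
          Ideal.Quotient.mkₐ R _ from rfl, affMap_comp_assoc, ← e1, ← affMap_comp_assoc, hbred, affMap_comp_assoc, e2]
    obtain ⟨h1, h1'⟩ := key j Algebra.TensorProduct.includeLeft
    obtain ⟨h2, h2'⟩ := key k Algebra.TensorProduct.includeRight
    exact chgTo_injective q T' _ (homPt_ext hH hK (q := baseMap q T') hu.baseChange
      (hJ.map (Ideal.mapHom (algebraMap R T'))) h1 h2 (h1'.trans h2'.symm))
  obtain ⟨_, _, _⟩ := flat_desc (B := A) hT
  obtain ⟨F, hF⟩ := ProdPoints.desc_family (famMap (R := R) (T := T) (B := A)) (fun i => (b i).left) fun j k => by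
    letI : Algebra A (T j ⊗[R] A) := Algebra.TensorProduct.rightAlgebra
    letI : Algebra A (T k ⊗[R] A) := Algebra.TensorProduct.rightAlgebra
    let C := (T j ⊗[R] A) ⊗[A] (T k ⊗[R] A)
    letI : Algebra R C := ((algebraMap A C).comp (algebraMap R A)).toAlgebra
    let iL : T j ⊗[R] A →ₐ[R] C :=
      { (Algebra.TensorProduct.includeLeftRingHom : T j ⊗[R] A →+* C) with
        commutes' := fun r => by
          change (Algebra.TensorProduct.includeLeftRingHom : T j ⊗[R] A →+* C) (algebraMap R (T j ⊗[R] A) r) =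
            algebraMap A C (algebraMap R A r)
          rw [← (Algebra.TensorProduct.includeRight : A →ₐ[R] T j ⊗[R] A).commutes]
          rfl }
    let iR : T k ⊗[R] A →ₐ[R] C :=
      { ((Algebra.TensorProduct.includeRight : T k ⊗[R] A →ₐ[A] C) : T k ⊗[R] A →+* C) with
        commutes' := fun r => by
          change (Algebra.TensorProduct.includeRight : T k ⊗[R] A →ₐ[A] C) (algebraMap R (T k ⊗[R] A) r) =
            algebraMap A C (algebraMap R A r)
          rw [← (Algebra.TensorProduct.includeRight : A →ₐ[R] T k ⊗[R] A).commutes,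
            ← (Algebra.TensorProduct.includeRight : T k ⊗[R] A →ₐ[A] C).commutes]
          rfl }
    obtain ⟨θ, hθL, hθR⟩ := exists_theta iL iR (AlgHom.ext fun x =>
      ((Algebra.TensorProduct.includeRight : T k ⊗[R] A →ₐ[A] C).commutes x).symm)
    have h9 := congrArg (affMap q θ ≫ ·) (hagree j k)
    simp only [affMap_comp_assoc, hθL, hθR] at h9
    refine (cancel_epi (pullbackSpecIso A (T j ⊗[R] A) (T k ⊗[R] A)).inv).mp ?_
    refine (pullbackSpecIso_inv_fst_assoc A (T j ⊗[R] A) (T k ⊗[R] A) _).trans ?_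
    refine Eq.trans ?_ (pullbackSpecIso_inv_snd_assoc A (T j ⊗[R] A) (T k ⊗[R] A) _).symm
    exact congrArg CommaMorphism.left h9
  have hw : F ≫ K.hom = (aff q A).hom := by
    haveI : Epi (Sigma.desc (famMap (R := R) (T := T) (B := A))) := Flat.epi_of_flat_of_surjective _
    rw [← cancel_epi (Sigma.desc (famMap (R := R) (T := T) (B := A)))]
    refine Sigma.hom_ext _ _ fun i => ?_
    rw [Sigma.ι_desc_assoc, Sigma.ι_desc_assoc, reassoc_of% (hF i), Over.w (b i)]
    exact (Over.w (affMap q (Algebra.TensorProduct.includeRight : A →ₐ[R] T i ⊗[R] A))).symm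
  let a' : aff q A ⟶ K := Over.homMk F hw
  have hb : ∀ i, affMap q (Algebra.TensorProduct.includeRight : A →ₐ[R] T i ⊗[R] A) ≫ a' = b i := fun i =>
    Over.OverMorphism.ext (hF i)
  refine ⟨a', fun B _ _ f g k e => ext_cover q hT fun i => ?_, ext_cover q hT fun i => ?_⟩
  · have hcm : ∀ f : A →ₐ[R] B, (Algebra.TensorProduct.includeRight : B →ₐ[R] T i ⊗[R] B).comp f =
        (Algebra.TensorProduct.map (AlgHom.id R (T i)) f).comp Algebra.TensorProduct.includeRight :=
      fun f => AlgHom.ext fun x => by simp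
    have hval : ∀ f : A →ₐ[R] B,
        affMap q (Algebra.TensorProduct.includeRight : B →ₐ[R] T i ⊗[R] B) ≫ affMap q f ≫ a' =
          affMap q (Algebra.TensorProduct.map (AlgHom.id R (T i)) f) ≫ b i := fun f => by
      rw [affMap_comp_assoc, hcm, ← affMap_comp_assoc, hb]
    rw [MonObj.comp_mul, hval, hval, hval]
    refine (ha i).relative _ _ _ (AlgHom.ext fun t => by simp) (AlgHom.ext fun t => by simp) ?_
    rw [← hcm, ← hcm, ← hcm, ← affMap_comp_assoc, ← affMap_comp_assoc, ← affMap_comp_assoc, e, MonObj.comp_mul]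
  · let JA := J.map (algebraMap R A)
    let sg : (T i ⊗[R] A) ⧸ (J.map (algebraMap R (T i))).map (algebraMap (T i) (T i ⊗[R] A)) →ₐ[R]
        T i ⊗[R] (A ⧸ JA) :=
      Ideal.Quotient.liftₐ _ (Algebra.TensorProduct.map (AlgHom.id R (T i)) (Ideal.Quotient.mkₐ R JA)) fun x hx => by
        have h0 : (J.map (algebraMap R (T i))).map (algebraMap (T i) (T i ⊗[R] A)) ≤
            RingHom.ker (Algebra.TensorProduct.map (AlgHom.id R (T i)) (Ideal.Quotient.mkₐ R JA)) := by
          rw [Ideal.map_map, ← IsScalarTower.algebraMap_eq, Ideal.map_le_iff_le_comap]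
          intro r hr
          rw [Ideal.mem_comap, RingHom.mem_ker, AlgHom.commutes]
          rw [← (Algebra.TensorProduct.includeRight : A ⧸ JA →ₐ[R] T i ⊗[R] (A ⧸ JA)).commutes,
            show algebraMap R (A ⧸ JA) r = Ideal.Quotient.mk JA (algebraMap R A r) from rfl,
            Ideal.Quotient.eq_zero_iff_mem.mpr (Ideal.mem_map_of_mem _ hr), map_zero]
        exact h0 hx
    have e1 : (Algebra.TensorProduct.includeRight : A ⧸ JA →ₐ[R] T i ⊗[R] (A ⧸ JA)).comp (Ideal.Quotient.mkₐ R JA) =
        (sg.comp (Ideal.Quotient.mkₐ R _)).comp Algebra.TensorProduct.includeRight :=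
      AlgHom.ext fun x => by simp [sg]
    have e2 : sg.comp (kap J (T i)) = Algebra.TensorProduct.includeRight := Ideal.Quotient.algHom_ext R (by
      rw [AlgHom.comp_assoc, kap_comp_mk, ← AlgHom.comp_assoc, ← e1])
    rw [affMap_comp_assoc, e1, ← affMap_comp_assoc, ← affMap_comp_assoc, hb, hbred, affMap_comp_assoc, e2]

end GrothLib.MultDef14
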