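import Groth.Agent.Lib.MultDef14.Spec
import Groth.Agent.Lib.MultDef14.HomLift

/-!
Conjugation of subgroups of multiplicative type along nilpotent thickenings.
-/

universe u

open CategoryTheory MonoidalCategory CartesianMonoidalCategory MonObj GrpObj AlgebraicGeometry
open scoped TensorProduct

set_option backward.isDefEq.respectTransparency false

namespace GrothLib.MultDef14

open GrothLib.DiagGrp (HasChartsFpqc)

variable {S : Scheme.{u}} {H₁ H₂ G : Over S} [GrpObj H₁] [GrpObj H₂] [GrpObj G]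

/-- The square-zero step on the level of multiplicative points. -/
theorem exists_conjPt_step {Q : ∀ (M : Type), AddCommGroup M → Prop} (hH : HasChartsFpqc Q H₁) {R : Type u} [CommRing R]
    {q : Spec (CommRingCat.of R) ⟶ S} {A : Type u} [CommRing A] [Algebra R A] {h : aff q A ⟶ H₁} (hu : IsUniv q h)
    (J : Ideal R) (hJ : J ^ 2 = ⊥) (a b : aff q A ⟶ G) (ha : IsHomPt h a) (hb : IsHomPt h b)
    (e : affMap q (Ideal.Quotient.mkₐ R (J.map (algebraMap R A))) ≫ b =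
      affMap q (Ideal.Quotient.mkₐ R (J.map (algebraMap R A))) ≫ a) :
    ∃ x : aff q R ⟶ G, affMap q (Ideal.Quotient.mkₐ R J) ≫ x = 1 ∧
      b = (affMap q (Algebra.ofId R A) ≫ x) * a * (affMap q (Algebra.ofId R A) ≫ x)⁻¹ := by
  obtain ⟨Δ, hΔ⟩ := hu.exists_isComul
  obtain ⟨ε, h1, hε⟩ := exists_mean hH q hu hΔ
  obtain ⟨x, hx, hxd⟩ := exists_coboundary q J hJ ε h1 Δ hε a (b * a⁻¹)
    (by rw [MonObj.comp_mul, GrpObj.comp_inv, e, mul_inv_cancel]) (by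
      simp only [MonObj.comp_mul, GrpObj.comp_inv, ha _ _ _ Δ hΔ, hb _ _ _ Δ hΔ]
      group)
  exact ⟨x, hx, by rwa [inv_mul_cancel_right] at hxd⟩

/-- `g` conjugates the points of `i₁` into those of `i₂`. -/
def ConjInto (i₁ : H₁ ⟶ G) (i₂ : H₂ ⟶ G) {X : Over S} (g : X ⟶ G) : Prop :=
  ∀ (Y : Over S) (p : Y ⟶ X) (h : Y ⟶ H₁), ∃ h' : Y ⟶ H₂, (p ≫ g) * (h ≫ i₁) * (p ≫ g)⁻¹ = h' ≫ i₂

/-- `g` conjugates the points of `i₁` onto those of `i₂`. -/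
def ConjSub (i₁ : H₁ ⟶ G) (i₂ : H₂ ⟶ G) {X : Over S} (g : X ⟶ G) : Prop :=
  ∀ (Y : Over S) (p : Y ⟶ X),
    (∀ h : Y ⟶ H₁, ∃ h' : Y ⟶ H₂, (p ≫ g) * (h ≫ i₁) * (p ≫ g)⁻¹ = h' ≫ i₂) ∧
    (∀ h' : Y ⟶ H₂, ∃ h : Y ⟶ H₁, (p ≫ g)⁻¹ * (h' ≫ i₂) * (p ≫ g) = h ≫ i₁)

omit [GrpObj H₁] [GrpObj H₂] in
theorem ConjInto.comp {i₁ : H₁ ⟶ G} {i₂ : H₂ ⟶ G} {X X' : Over S} {g : X ⟶ G} (hg : ConjInto i₁ i₂ g)
    (k : X' ⟶ X) : ConjInto i₁ i₂ (k ≫ g) := fun Y p h => by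
  simpa [Category.assoc] using hg Y (p ≫ k) h

omit [GrpObj H₁] [GrpObj H₂] in
theorem ConjSub.comp {i₁ : H₁ ⟶ G} {i₂ : H₂ ⟶ G} {X X' : Over S} {g : X ⟶ G} (hg : ConjSub i₁ i₂ g)
    (k : X' ⟶ X) : ConjSub i₁ i₂ (k ≫ g) := fun Y p => by
  simpa [Category.assoc] using hg Y (p ≫ k)

omit [GrpObj H₁] [GrpObj H₂] in
theorem ConjSub.conjInto {i₁ : H₁ ⟶ G} {i₂ : H₂ ⟶ G} {X : Over S} {g : X ⟶ G} (hg : ConjSub i₁ i₂ g) :
    ConjInto i₁ i₂ g := fun Y p h => (hg Y p).1 h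

omit [GrpObj H₁] [GrpObj H₂] in
theorem ConjSub.symm {i₁ : H₁ ⟶ G} {i₂ : H₂ ⟶ G} {X : Over S} {g : X ⟶ G} (hg : ConjSub i₁ i₂ g) :
    ConjSub i₂ i₁ g⁻¹ := fun Y p => by
  constructor
  · intro h
    obtain ⟨h', e⟩ := (hg Y p).2 h
    exact ⟨h', by rw [GrpObj.comp_inv, _root_.inv_inv, e]⟩
  · intro h
    obtain ⟨h', e⟩ := (hg Y p).1 h
    exact ⟨h', by rw [GrpObj.comp_inv, _root_.inv_inv, e]⟩

variable {Q₁ Q₂ : ∀ (M : Type), AddCommGroup M → Prop} (hH₁ : HasChartsFpqc Q₁ H₁) (hH₂ : HasChartsFpqc Q₂ H₂)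
  (i₁ : H₁ ⟶ G) [IsMonHom i₁] (i₂ : H₂ ⟶ G) [IsMonHom i₂] [Mono i₂]

omit [GrpObj H₂] [IsMonHom i₂] [Mono i₂] in
/-- The homomorphism of a group given by conjugating. -/
theorem isHomPt_conj {R : Type u} [CommRing R] {q : Spec (CommRingCat.of R) ⟶ S} {A : Type u} [CommRing A]
    [Algebra R A] (h : aff q A ⟶ H₁) {A' : Type u} [CommRing A'] [Algebra R A'] (m : A →ₐ[R] A')
    (g : aff q R ⟶ G) : IsHomPt (affMap q m ≫ h) ((affMap q (Algebra.ofId R A') ≫ g) *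
      ((affMap q m ≫ h) ≫ i₁) * (affMap q (Algebra.ofId R A') ≫ g)⁻¹) := by
  intro B _ _ f k l e
  have e₀ : ∀ f : A' →ₐ[R] B, f.comp (Algebra.ofId R A') = Algebra.ofId R B :=
    fun f => AlgHom.ext fun r => f.commutes r
  simp only [MonObj.comp_mul, GrpObj.comp_inv, affMap_comp_assoc, e₀]
  rw [← Category.assoc (affMap q l), e]
  simp only [MonObj.mul_comp, Category.assoc]
  group

include hH₁ hH₂ in
/-- The square-zero step for subgroups: a point conjugating one into another modulo the ideal can be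
corrected, and the induced homomorphism is part of the data. -/
theorem exists_conjInto_pt {R : Type u} [CommRing R] (q : Spec (CommRingCat.of R) ⟶ S) (J : Ideal R)
    (hJ : J ^ 2 = ⊥) (g₁ : aff q R ⟶ G) (h0 : ConjInto i₁ i₂ (affMap q (Ideal.Quotient.mkₐ R J) ≫ g₁))
    {A : Type u} [CommRing A] [Algebra R A] {h : aff q A ⟶ H₁} (hu : IsUniv q h) :
    ∃ (g : aff q R ⟶ G) (a : aff q A ⟶ H₂),
      affMap q (Ideal.Quotient.mkₐ R J) ≫ g = affMap q (Ideal.Quotient.mkₐ R J) ≫ g₁ ∧ IsHomPt h a ∧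
      (affMap q (Algebra.ofId R A) ≫ g) * (h ≫ i₁) * (affMap q (Algebra.ofId R A) ≫ g)⁻¹ = a ≫ i₂ := by
  obtain ⟨a₀, ha₀⟩ := h0 _ (affMap q (quotA (A := A) J)) (affMap q (Ideal.Quotient.mkₐ R (J.map (algebraMap R A))) ≫ h)
  have hq : (quotA (A := A) J).comp (Ideal.Quotient.mkₐ R J) = Algebra.ofId R (A ⧸ (J.map (algebraMap R A))) :=
    AlgHom.ext fun _ => rfl
  rw [affMap_comp_assoc, hq] at ha₀
  have hhom : IsHomPt (affMap q (Ideal.Quotient.mkₐ R (J.map (algebraMap R A))) ≫ h) a₀ := fun B _ _ f k l e => by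
    have := isHomPt_conj i₁ h (Ideal.Quotient.mkₐ R (J.map (algebraMap R A))) g₁ B f k l e
    rw [ha₀] at this
    rw [← cancel_mono i₂, MonObj.mul_comp, Category.assoc, Category.assoc, Category.assoc]
    exact this
  obtain ⟨a, ha, hared⟩ := exists_homPt_lift hH₁ hH₂ hu ⟨2, hJ⟩ a₀ hhom
  have hconj : IsHomPt h ((affMap q (Algebra.ofId R A) ≫ g₁) * (h ≫ i₁) * (affMap q (Algebra.ofId R A) ≫ g₁)⁻¹) := by
    have := isHomPt_conj i₁ h (AlgHom.id R A) g₁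
    rwa [affMap_id, Category.id_comp] at this
  have hai : IsHomPt h (a ≫ i₂) := fun B _ _ f k l e => by
    rw [← Category.assoc, ha B f k l e, MonObj.mul_comp, Category.assoc, Category.assoc]
  obtain ⟨x, hx, hxa⟩ := exists_conjPt_step hH₁ hu J hJ _ _ hconj hai (by
    have e₀ : (Ideal.Quotient.mkₐ R (J.map (algebraMap R A))).comp (Algebra.ofId R A) = Algebra.ofId R (A ⧸ (J.map (algebraMap R A))) :=
      AlgHom.ext fun _ => rfl
    rw [← Category.assoc, hared, ← ha₀]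
    simp only [MonObj.comp_mul, GrpObj.comp_inv, affMap_comp_assoc, Category.assoc, e₀])
  refine ⟨x * g₁, a, by rw [MonObj.comp_mul, hx, _root_.one_mul], ha, ?_⟩
  rw [hxa, MonObj.comp_mul]
  group

omit [GrpObj H₂] [IsMonHom i₁] [IsMonHom i₂] [Mono i₂] in
/-- A point conjugating the universal point conjugates all points. -/
theorem conjInto_of_univ {R : Type u} [CommRing R] {q : Spec (CommRingCat.of R) ⟶ S} {A : Type u} [CommRing A]
    [Algebra R A] {h : aff q A ⟶ H₁} (hu : IsUniv q h) {g : aff q R ⟶ G} {a : aff q A ⟶ H₂}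
    (e : (affMap q (Algebra.ofId R A) ≫ g) * (h ≫ i₁) * (affMap q (Algebra.ofId R A) ≫ g)⁻¹ = a ≫ i₂) :
    ConjInto i₁ i₂ g := fun Y p y => by
  obtain ⟨t, htp, hty⟩ := hu.factor Y p y
  refine ⟨t ≫ a, ?_⟩
  rw [← htp, ← hty, Category.assoc, Category.assoc, Category.assoc, ← e, MonObj.comp_mul, MonObj.comp_mul,
    GrpObj.comp_inv]

include hH₁ hH₂ in
/-- The square-zero step, one containment. -/
theorem exists_conjInto_step {R : Type u} [CommRing R] (q : Spec (CommRingCat.of R) ⟶ S) (J : Ideal R)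
    (hJ : J ^ 2 = ⊥) (g₁ : aff q R ⟶ G) (h0 : ConjInto i₁ i₂ (affMap q (Ideal.Quotient.mkₐ R J) ≫ g₁)) :
    ∃ g : aff q R ⟶ G, affMap q (Ideal.Quotient.mkₐ R J) ≫ g = affMap q (Ideal.Quotient.mkₐ R J) ≫ g₁ ∧
      ConjInto i₁ i₂ g := by
  obtain ⟨A, _, _, h, hu⟩ := exists_isUniv q H₁ (EssFree.isAffineHom_of_charts hH₁)
  obtain ⟨g, a, hg, -, e⟩ := exists_conjInto_pt hH₁ hH₂ i₁ i₂ q J hJ g₁ h0 hu
  exact ⟨g, hg, conjInto_of_univ i₁ i₂ hu e⟩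

include hH₁ hH₂ in
/-- The square-zero step, equality of subgroups. -/
theorem exists_conjSub_step [Mono i₁] {R : Type u} [CommRing R] (q : Spec (CommRingCat.of R) ⟶ S) (J : Ideal R)
    (hJ : J ^ 2 = ⊥) (g₁ : aff q R ⟶ G) (h0 : ConjSub i₁ i₂ (affMap q (Ideal.Quotient.mkₐ R J) ≫ g₁)) :
    ∃ g : aff q R ⟶ G, affMap q (Ideal.Quotient.mkₐ R J) ≫ g = affMap q (Ideal.Quotient.mkₐ R J) ≫ g₁ ∧
      ConjSub i₁ i₂ g := by
  obtain ⟨A₁, _, _, h₁, hu₁⟩ := exists_isUniv q H₁ (EssFree.isAffineHom_of_charts hH₁)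
  obtain ⟨A₂, _, _, h₂, hu₂⟩ := exists_isUniv q H₂ (EssFree.isAffineHom_of_charts hH₂)
  obtain ⟨g, a, hg, ha, ea⟩ := exists_conjInto_pt hH₁ hH₂ i₁ i₂ q J hJ g₁ h0.conjInto hu₁
  have h0' : ConjInto i₂ i₁ (affMap q (Ideal.Quotient.mkₐ R J) ≫ g⁻¹) := by
    rw [GrpObj.comp_inv, hg]
    exact h0.symm.conjInto
  obtain ⟨g', b, hg', hb, eb⟩ := exists_conjInto_pt hH₂ hH₁ i₂ i₁ q J hJ g⁻¹ h0' hu₂
  obtain ⟨φ, hφ⟩ := (hu₂.bij A₁).2 a
  obtain ⟨ψ, hψ⟩ := (hu₁.bij A₂).2 b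
  dsimp only at hφ hψ
  have e₀ : ∀ {B B' : Type u} [CommRing B] [Algebra R B] [CommRing B'] [Algebra R B'] (f : B →ₐ[R] B'),
      f.comp (Algebra.ofId R B) = Algebra.ofId R B' := fun f => AlgHom.ext fun r => f.commutes r
  have hcomp : IsHomPt h₂ (affMap q ψ ≫ a) := fun B _ _ f k l e => by
    simp only [affMap_comp_assoc]
    refine ha B _ _ _ ?_
    simp only [← affMap_comp_assoc, hψ]
    exact hb B f k l e
  have hid : affMap q ψ ≫ a = h₂ := by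
    refine homPt_ext hH₂ hH₂ hu₂ ⟨2, hJ⟩ hcomp (fun B _ _ f k l e => e) ?_
    rw [← cancel_mono i₂, Category.assoc, Category.assoc, Category.assoc, ← ea]
    have hP : affMap q (Ideal.Quotient.mkₐ R (J.map (algebraMap R A₂))) ≫ affMap q (Algebra.ofId R A₂) ≫ g' =
        (affMap q (Ideal.Quotient.mkₐ R (J.map (algebraMap R A₂))) ≫ affMap q (Algebra.ofId R A₂) ≫ g)⁻¹ := by
      have hq : (quotA (A := A₂) J).comp (Ideal.Quotient.mkₐ R J) =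
          (Ideal.Quotient.mkₐ R (J.map (algebraMap R A₂))).comp (Algebra.ofId R A₂) := AlgHom.ext fun _ => rfl
      rw [affMap_comp_assoc, affMap_comp_assoc, ← hq, ← affMap_comp_assoc, ← affMap_comp_assoc, hg',
        GrpObj.comp_inv, GrpObj.comp_inv]
    have eb' := congrArg (affMap q (Ideal.Quotient.mkₐ R (J.map (algebraMap R A₂))) ≫ ·) eb
    simp only [MonObj.comp_mul, GrpObj.comp_inv, hP, _root_.inv_inv] at eb'
    simp only [MonObj.comp_mul, GrpObj.comp_inv]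
    have hψ' : affMap q ψ ≫ h₁ ≫ i₁ = b ≫ i₁ := by rw [← Category.assoc, hψ]
    rw [hψ', affMap_comp_assoc q (Algebra.ofId R A₁) ψ, e₀, ← eb']
    group
  refine ⟨g, hg, fun Y p => ⟨fun y => conjInto_of_univ i₁ i₂ hu₁ ea Y p y, fun y => ?_⟩⟩
  obtain ⟨t, htp, hty⟩ := hu₂.factor Y p y
  refine ⟨t ≫ b, ?_⟩
  have key := congrArg (affMap q ψ ≫ ·) ea
  simp only [MonObj.comp_mul, GrpObj.comp_inv, affMap_comp_assoc, e₀] at key
  rw [← Category.assoc (affMap q ψ) a, hid, ← Category.assoc (affMap q ψ) h₁, hψ] at key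
  have key' : (affMap q (Algebra.ofId R A₂) ≫ g)⁻¹ * (h₂ ≫ i₂) * (affMap q (Algebra.ofId R A₂) ≫ g) = b ≫ i₁ := by
    rw [← key]; group
  rw [← htp, ← hty, Category.assoc, Category.assoc, Category.assoc, ← key']
  simp only [MonObj.comp_mul, GrpObj.comp_inv]

/-- Lifting along nilpotent thickenings from square-zero steps. -/
theorem exists_lift_of_step {G : Over S} (hG : MoreMor.IsFormallySmoothHom G.hom) (P : ∀ {X : Over S}, (X ⟶ G) → Prop)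
    (hP : ∀ {X X' : Over S} {g : X ⟶ G} (k : X' ⟶ X), P g → P (k ≫ g))
    (hstep : ∀ {R : Type u} [CommRing R] (q : Spec (CommRingCat.of R) ⟶ S) (J : Ideal R), J ^ 2 = ⊥ →
      ∀ g₁ : aff q R ⟶ G, P (affMap q (Ideal.Quotient.mkₐ R J) ≫ g₁) →
        ∃ g : aff q R ⟶ G, affMap q (Ideal.Quotient.mkₐ R J) ≫ g = affMap q (Ideal.Quotient.mkₐ R J) ≫ g₁ ∧ P g) :
    ∀ {R : Type u} [CommRing R] (q : Spec (CommRingCat.of R) ⟶ S) (J : Ideal R), IsNilpotent J →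
      ∀ g₀ : aff q (R ⧸ J) ⟶ G, P g₀ →
        ∃ g : aff q R ⟶ G, affMap q (Ideal.Quotient.mkₐ R J) ≫ g = g₀ ∧ P g := by
  suffices key : ∀ (n : ℕ) {R : Type u} [CommRing R] (q : Spec (CommRingCat.of R) ⟶ S) (J : Ideal R),
      J ^ n = ⊥ → ∀ g₀ : aff q (R ⧸ J) ⟶ G, P g₀ →
        ∃ g : aff q R ⟶ G, affMap q (Ideal.Quotient.mkₐ R J) ≫ g = g₀ ∧ P g by
    intro R _ q J ⟨n, hn⟩
    exact key n q J hn
  intro n
  induction n with
  | zero =>
    intro R _ q J hJ g₀ h0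
    have hJ2 : J ^ 2 = ⊥ := le_bot_iff.mp (hJ ▸ Ideal.pow_le_pow_right (Nat.zero_le 2))
    obtain ⟨g₁, rfl⟩ := exists_lift_point hG q J hJ2 g₀
    exact hstep q J hJ2 g₁ h0
  | succ n IH =>
    intro R _ q J hJ g₀ h0
    by_cases hn : n ≤ 1
    · have hJ2 : J ^ 2 = ⊥ := le_bot_iff.mp (hJ ▸ Ideal.pow_le_pow_right (by omega))
      obtain ⟨g₁, rfl⟩ := exists_lift_point hG q J hJ2 g₀
      exact hstep q J hJ2 g₁ h0
    let I := J ^ n
    have hIJ : I ≤ J := Ideal.pow_le_self (by omega)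
    have hI2 : I ^ 2 = ⊥ := le_bot_iff.mp (hJ ▸ by rw [← pow_mul]; exact Ideal.pow_le_pow_right (by omega))
    let q' : Spec (CommRingCat.of (R ⧸ I)) ⟶ S := Spec.map (CommRingCat.ofHom (Ideal.Quotient.mk I)) ≫ q
    let J' : Ideal (R ⧸ I) := J.map (Ideal.Quotient.mk I)
    have hJ' : J' ^ n = ⊥ := by rw [← Ideal.map_pow]; exact Ideal.map_quotient_self I
    let e := DoubleQuot.quotQuotEquivQuotOfLE hIJ
    let k₁ : aff q' ((R ⧸ I) ⧸ J') ⟶ aff q (R ⧸ J) := Over.homMk (Spec.map (CommRingCat.ofHom e.symm.toRingHom)) (by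
      change Spec.map _ ≫ Spec.map _ ≫ q = Spec.map _ ≫ Spec.map _ ≫ q
      rw [← Spec.map_comp_assoc, ← Spec.map_comp_assoc, ← CommRingCat.ofHom_comp, ← CommRingCat.ofHom_comp]
      rfl)
    let k₃ : aff q (R ⧸ J) ⟶ aff q' ((R ⧸ I) ⧸ J') := Over.homMk (Spec.map (CommRingCat.ofHom e.toRingHom)) (by
      change Spec.map _ ≫ Spec.map _ ≫ Spec.map _ ≫ q = Spec.map _ ≫ q
      rw [← Spec.map_comp_assoc, ← Spec.map_comp_assoc, ← CommRingCat.ofHom_comp, ← CommRingCat.ofHom_comp]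
      rfl)
    have hk : k₃ ≫ k₁ = 𝟙 _ := Over.OverMorphism.ext (by
      change Spec.map _ ≫ Spec.map _ = 𝟙 _
      rw [← Spec.map_comp, ← CommRingCat.ofHom_comp, RingEquiv.toRingHom_eq_coe, RingEquiv.toRingHom_eq_coe,
        RingEquiv.comp_symm, CommRingCat.ofHom_id]
      exact Spec.map_id _)
    obtain ⟨g', hg', hc'⟩ := IH q' J' hJ' (k₁ ≫ g₀) (hP k₁ h0)
    let k₂ : aff q (R ⧸ I) ⟶ aff q' (R ⧸ I) := Over.homMk (𝟙 _) (by
      change 𝟙 _ ≫ Spec.map _ ≫ Spec.map _ ≫ q = Spec.map _ ≫ q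
      rw [Category.id_comp, ← Spec.map_comp_assoc, ← CommRingCat.ofHom_comp]
      rfl)
    obtain ⟨g₁, hg₁⟩ := exists_lift_point hG q I hI2 (k₂ ≫ g')
    obtain ⟨g, hg, hc⟩ := hstep q I hI2 g₁ (hg₁ ▸ hP k₂ hc')
    refine ⟨g, ?_, hc⟩
    let f : R ⧸ I →ₐ[R] R ⧸ J := Ideal.Quotient.factorₐ R hIJ
    have hf : f.comp (Ideal.Quotient.mkₐ R I) = Ideal.Quotient.mkₐ R J := AlgHom.ext fun _ => rfl
    have hfk : affMap q f ≫ k₂ = k₃ ≫ affMap q' (Ideal.Quotient.mkₐ (R ⧸ I) J') := Over.OverMorphism.ext (by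
      change Spec.map _ ≫ 𝟙 _ = Spec.map _ ≫ Spec.map _
      rw [Category.comp_id, ← Spec.map_comp, ← CommRingCat.ofHom_comp]
      congr 2
      exact Ideal.Quotient.ringHom_ext (RingHom.ext fun _ => rfl))
    rw [← hf, ← affMap_comp, Category.assoc, hg, hg₁, ← Category.assoc, hfk, Category.assoc, hg',
      ← Category.assoc, hk, Category.id_comp]

end GrothLib.MultDef14
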