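import Groth.Agent.Lib.MultDef14.Mean

/-!
Diagonalisable charts read on a universal point, and the invariant mean of a group of multiplicative type.
-/

universe u

open CategoryTheory MonoidalCategory CartesianMonoidalCategory MonObj GrpObj AlgebraicGeometry
open scoped TensorProduct

set_option maxSynthPendingDepth 3

namespace GrothLib.MultDef14

section Chart

variable {S : Scheme.{u}} {R : Type u} [CommRing R] (q : Spec (CommRingCat.of R) ⟶ S)
  {H : Over S} [GrpObj H] {T : Type u} [CommRing T] [Algebra R T] {M : Type} [AddCommGroup M]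
  (e : Grp.mk (Red.bc (Spec.map (CommRingCat.ofHom (algebraMap R T)) ≫ q) H) ≅
    Grp.mk (Red.DS (Spec (CommRingCat.of T)) M))
  (B : Type u) [CommRing B] [Algebra R B] [Algebra T B] [IsScalarTower R T B]

/-- Comparison of the two ways to see a `T`-algebra over `S`. -/
noncomputable def chIso : aff q B ⟶
    (Over.map (Spec.map (CommRingCat.ofHom (algebraMap R T)) ≫ q)).obj
      (Over.mk (Spec.map (CommRingCat.ofHom (algebraMap T B)))) :=
  Over.homMk (𝟙 _) (by
    change 𝟙 _ ≫ Spec.map _ ≫ Spec.map _ ≫ q = Spec.map _ ≫ q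
    rw [Category.id_comp, ← Category.assoc, ← Spec.map_comp, ← CommRingCat.ofHom_comp, ← IsScalarTower.algebraMap_eq])

/-- The inverse comparison. -/
noncomputable def chInv : (Over.map (Spec.map (CommRingCat.ofHom (algebraMap R T)) ≫ q)).obj
      (Over.mk (Spec.map (CommRingCat.ofHom (algebraMap T B)))) ⟶ aff q B :=
  Over.homMk (𝟙 _) (by
    change 𝟙 _ ≫ Spec.map _ ≫ q = Spec.map _ ≫ Spec.map _ ≫ q
    rw [Category.id_comp, ← Category.assoc (Spec.map _), ← Spec.map_comp, ← CommRingCat.ofHom_comp,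
      ← IsScalarTower.algebraMap_eq])

theorem chIso_chInv : chIso q (T := T) B ≫ chInv q B = 𝟙 _ :=
  Over.OverMorphism.ext (Category.id_comp _)

theorem chInv_chIso : chInv q (T := T) B ≫ chIso q B = 𝟙 _ :=
  Over.OverMorphism.ext (Category.id_comp _)

/-- The point of a character over a chart. -/
noncomputable def chPt (χ : Multiplicative M →* B) : aff q B ⟶ H :=
  chIso q (T := T) B ≫ DiagGrp.ptG _ e (Spec.map (CommRingCat.ofHom (algebraMap T B))) χ

theorem chPt_mul (χ χ' : Multiplicative M →* B) : chPt q e B (χ * χ') = chPt q e B χ * chPt q e B χ' := by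
  rw [chPt, DiagGrp.ptG_mul, MonObj.comp_mul]
  rfl

theorem chPt_bijective : Function.Bijective (chPt q e B) := by
  constructor
  · intro χ χ' h
    refine DiagGrp.ptG_injective _ e (Spec.map (CommRingCat.ofHom (algebraMap T B))) ?_
    have h2 := congrArg (chInv q (T := T) B ≫ ·) h
    simpa [chPt, ← Category.assoc, chInv_chIso] using h2
  · intro y
    obtain ⟨χ, hχ⟩ := DiagGrp.exists_ptG_eq _ e (Spec.map (CommRingCat.ofHom (algebraMap T B))) (chInv q B ≫ y)
    exact ⟨χ, by rw [chPt, hχ, ← Category.assoc, chIso_chInv, Category.id_comp]⟩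

theorem chPt_comp {B' : Type u} [CommRing B'] [Algebra R B'] [Algebra T B'] [IsScalarTower R T B']
    (f : B →ₐ[T] B') (χ : Multiplicative M →* B) :
    affMap q (f.restrictScalars R) ≫ chPt q e B χ = chPt q e B' ((f : B →* B').comp χ) := by
  have hp : Spec.map (CommRingCat.ofHom (f : B →+* B')) ≫ Spec.map (CommRingCat.ofHom (algebraMap T B)) =
      Spec.map (CommRingCat.ofHom (algebraMap T B')) := by
    rw [← Spec.map_comp, ← CommRingCat.ofHom_comp, AlgHom.comp_algebraMap]
  rw [chPt, chPt, show ((f : B →* B') : B →* B') = ((f : B →+* B') : B →* B') from rfl,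
    ← DiagGrp.ptG_comp _ e _ _ (f : B →+* B') χ hp]
  apply Over.OverMorphism.ext
  simp only [Over.comp_left, affMap_left, chIso, Over.homMk_left, Over.map_map_left, Category.id_comp]
  rfl

variable {A : Type u} [CommRing A] [Algebra R A] {h : aff q A ⟶ H}

include e in
/-- The universal point splits over a chart. -/
theorem exists_inv_of_chart (hu : IsUniv q h) {Δ : A →ₐ[R] A ⊗[R] A} (hΔ : IsComul h Δ) :
    ∃ j : A →ₗ[R] T, IsInv Δ j ∧ j 1 = 1 := by
  obtain ⟨χ, hχ⟩ := (chPt_bijective q e (T ⊗[R] A)).2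
    (affMap q (Algebra.TensorProduct.includeRight : A →ₐ[R] T ⊗[R] A) ≫ h)
  obtain ⟨φ, hφ⟩ := (hu.bij (MonoidAlgebra T (Multiplicative M))).2
    (chPt q e _ (MonoidAlgebra.of T (Multiplicative M)))
  dsimp only at hφ
  let Λ := MonoidAlgebra.lift T (T ⊗[R] A) (Multiplicative M) χ
  let ψ : T ⊗[R] A →ₐ[T] MonoidAlgebra T (Multiplicative M) :=
    Algebra.TensorProduct.lift (Algebra.ofId T _) φ fun _ _ => Commute.all _ _
  have hψi : (ψ.restrictScalars R).comp Algebra.TensorProduct.includeRight = φ := AlgHom.ext fun a => by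
    simp [ψ]
  have hΛo : ((Λ : MonoidAlgebra T (Multiplicative M) →* T ⊗[R] A)).comp (MonoidAlgebra.of T (Multiplicative M)) = χ :=
    MonoidHom.ext fun m => MonoidAlgebra.lift_of χ m
  have h1 : (Λ.restrictScalars R).comp φ = Algebra.TensorProduct.includeRight := by
    refine (hu.bij _).1 ?_
    dsimp only
    rw [← affMap_comp_assoc, hφ, chPt_comp, hΛo, hχ]
  have h2 : (ψ : T ⊗[R] A →* MonoidAlgebra T (Multiplicative M)).comp χ = MonoidAlgebra.of T (Multiplicative M) := by
    refine (chPt_bijective q e _).1 ?_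
    rw [← chPt_comp, hχ, affMap_comp_assoc, hψi, hφ]
  have hbij : Function.Bijective Λ := by
    refine Function.bijective_iff_has_inverse.mpr ⟨ψ, fun x => ?_, fun y => ?_⟩
    · refine DFunLike.congr_fun (?_ : ψ.comp Λ = AlgHom.id T (MonoidAlgebra T (Multiplicative M))) x
      refine MonoidAlgebra.algHom_ext' (MonoidHom.ext fun m => ?_) (AlgHom.ext fun r => ?_)
      swap
      · exact ((ψ.comp Λ).comp MonoidAlgebra.singleOneAlgHom).commutes r
      change ψ (Λ (MonoidAlgebra.of T (Multiplicative M) m)) = MonoidAlgebra.of T (Multiplicative M) m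
      rw [show Λ (MonoidAlgebra.of T (Multiplicative M) m) = χ m from MonoidAlgebra.lift_of χ m]
      exact DFunLike.congr_fun h2 m
    · refine DFunLike.congr_fun (?_ : Λ.comp ψ = AlgHom.id T (T ⊗[R] A)) y
      refine Algebra.TensorProduct.ext (by ext) (AlgHom.ext fun a => ?_)
      change Λ (ψ ((1 : T) ⊗ₜ[R] a)) = (1 : T) ⊗ₜ[R] a
      simp only [ψ, Algebra.TensorProduct.lift_tmul, map_one, _root_.one_mul]
      exact DFunLike.congr_fun h1 a
  refine exists_inv_split Δ χ hbij fun m => ?_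
  let f₀ := Algebra.TensorProduct.map (AlgHom.id T T) Δ
  let f₁ := Algebra.TensorProduct.map (AlgHom.id T T) (Algebra.TensorProduct.includeLeft : A →ₐ[R] A ⊗[R] A)
  let f₂ := Algebra.TensorProduct.map (AlgHom.id T T) (Algebra.TensorProduct.includeRight : A →ₐ[R] A ⊗[R] A)
  have hf : ∀ g : A →ₐ[R] A ⊗[R] A, ((Algebra.TensorProduct.map (AlgHom.id T T) g).restrictScalars R).comp
      Algebra.TensorProduct.includeRight = (Algebra.TensorProduct.includeRight : _ →ₐ[R] T ⊗[R] (A ⊗[R] A)).comp g :=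
    fun g => AlgHom.ext fun a => by simp
  have h3 : (f₀ : T ⊗[R] A →* T ⊗[R] (A ⊗[R] A)).comp χ =
      (f₁ : T ⊗[R] A →* _).comp χ * (f₂ : T ⊗[R] A →* _).comp χ := by
    refine (chPt_bijective q e _).1 ?_
    rw [chPt_mul, ← chPt_comp, ← chPt_comp, ← chPt_comp, hχ]
    simp only [affMap_comp_assoc, f₀, f₁, f₂, hf]
    simp only [← affMap_comp_assoc]
    rw [hΔ, MonObj.comp_mul]
  exact DFunLike.congr_fun h3 m

end Chart

end GrothLib.MultDef14

namespace GrothLib.MultDef14

/-- A group of multiplicative type has an invariant mean over every affine base. -/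
theorem exists_mean {S : Scheme.{u}} {H : Over S} [GrpObj H]
    {Q : ∀ (M : Type), AddCommGroup M → Prop} (hH : DiagGrp.HasChartsFpqc Q H)
    {R : Type u} [CommRing R] (q : Spec (CommRingCat.of R) ⟶ S) {A : Type u} [CommRing A] [Algebra R A]
    {h : aff q A ⟶ H} (hu : IsUniv q h) {Δ : A →ₐ[R] A ⊗[R] A} (hΔ : IsComul h Δ) :
    ∃ ε : A →ₗ[R] R, ε 1 = 1 ∧ ∀ a, slice ε (Δ a) = algebraMap R A (ε a) := by
  classical
  have hcomm := hΔ.comm hu (DiagGrp.mul_comm_of_charts hH)
  obtain ⟨W, g, _, _, _, hR⟩ := (hH.baseChange q).coverBy (⊤ : (Spec (CommRingCat.of R)).Opens) (isAffineOpen_top _)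
  choose U hwU hUa hch using hR
  haveI : IsAffine ((⊤ : (Spec (CommRingCat.of R)).Opens) : Scheme.{u}) := isAffineOpen_top _
  haveI : CompactSpace W := QuasiCompact.compactSpace_of_compactSpace g
  obtain ⟨t, ht⟩ := isCompact_univ.elim_finite_subcover (fun w => ((U w : W.Opens) : Set W))
    (fun w => (U w).2) fun w _ => Set.mem_iUnion.2 ⟨w, hwU w⟩
  let σ : Type u := {w : W // w ∈ t}
  haveI : Finite σ := Finite.of_fintype _
  let T : σ → Type u := fun i => Γ(W, U i.1)
  let f : ∀ i : σ, Spec (CommRingCat.of (T i)) ⟶ Spec (CommRingCat.of R) := fun i =>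
    (hUa i.1).fromSpec ≫ g ≫ (⊤ : (Spec (CommRingCat.of R)).Opens).ι
  letI : ∀ i, Algebra R (T i) := fun i => (Spec.preimage (f i)).hom.toAlgebra
  have hf : ∀ i, Spec.map (CommRingCat.ofHom (algebraMap R (T i))) = f i := fun i => Spec.map_preimage _
  haveI : ∀ i, Module.Flat R (T i) := fun i => by
    have : Flat (f i) := inferInstance
    rw [← hf i, HasRingHomProperty.Spec_iff (P := @Flat)] at this
    exact RingHom.flat_algebraMap_iff.mp this
  haveI : Module.Flat R (∀ i, T i) := by
    haveI := Fintype.ofFinite σ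
    exact Module.Flat.of_linearEquiv (DirectSum.linearEquivFunOnFintype R σ T).symm
  haveI : Module.FaithfullyFlat R (∀ i, T i) := by
    refine Module.FaithfullyFlat.of_comap_surjective fun x => ?_
    obtain ⟨w, hw⟩ := g.surjective ⟨x, trivial⟩
    obtain ⟨i, hi, hwi⟩ := Set.mem_iUnion₂.1 (ht (Set.mem_univ w))
    obtain ⟨z, hz⟩ : w ∈ Set.range (hUa i).fromSpec := by rw [IsAffineOpen.range_fromSpec]; exact hwi
    refine ⟨PrimeSpectrum.comap (Pi.evalRingHom T ⟨i, hi⟩) z, ?_⟩
    rw [← PrimeSpectrum.comap_comp_apply]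
    change (Spec.map (CommRingCat.ofHom (algebraMap R (T ⟨i, hi⟩)))) z = x
    rw [hf]
    change (⊤ : (Spec (CommRingCat.of R)).Opens).ι (g ((hUa i).fromSpec z)) = x
    rw [hz, hw]
    rfl
  refine exists_mean_of_family Δ hcomm T fun i => ?_
  have hci : DiagGrp.HasChart Q (Red.bc q H) (f i) := by
    refine (hch i.1).precomp (hUa i.1).isoSpec.inv _ ?_
    change (hUa i.1).fromSpec ≫ g ≫ _ = _
    rw [← (hUa i.1).isoSpec_inv_ι, Category.assoc]
  rw [← hf i] at hci
  obtain ⟨M, inst, -, ⟨e⟩⟩ := hci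
  letI := inst
  exact exists_inv_of_chart q (T := T i)
    ((DiagGrp.bcGrpComp H q (Spec.map (CommRingCat.ofHom (algebraMap R (T i)))) _ rfl).trans e) hu hΔ

end GrothLib.MultDef14
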