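import Groth.Agent.Lib.MultDef14.Squeeze
import Mathlib.LinearAlgebra.TensorProduct.Tower
import Mathlib.RingTheory.TensorProduct.Basic

/-!
The averaging argument: a cocycle congruent to the unit modulo a square-zero ideal, on a group with an
invariant mean, is the coboundary of the mean of the cocycle.
-/

universe u

set_option backward.isDefEq.respectTransparency false

open CategoryTheory MonoidalCategory CartesianMonoidalCategory MonObj GrpObj AlgebraicGeometry
open scoped TensorProduct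

namespace GrothLib.MultDef14

variable {S : Scheme.{u}} {R : Type u} [CommRing R] (q : Spec (CommRingCat.of R) ⟶ S)
  {A : Type u} [CommRing A] [Algebra R A]

/-- Integration in the second factor. -/
noncomputable def slice (ε : A →ₗ[R] R) : A ⊗[R] A →ₗ[A] A :=
  (TensorProduct.AlgebraTensorModule.rid R A A).toLinearMap ∘ₗ ε.baseChange A

theorem slice_tmul (ε : A →ₗ[R] R) (a b : A) : slice ε (a ⊗ₜ b) = ε b • a := by
  simp [slice]

theorem slice_one (ε : A →ₗ[R] R) (h1 : ε 1 = 1) : slice ε 1 = 1 := by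
  rw [Algebra.TensorProduct.one_def, slice_tmul, h1, one_smul]

variable (J : Ideal R)

/-- A homomorphism preserves the elements congruent to constants. -/
noncomputable def sqMap (f : A →ₐ[R] A ⊗[R] A) : Sq A J →ₐ[R] Sq (A ⊗[R] A) (J.map (algebraMap R A)) where
  toFun c := ⟨f c.1, by
    obtain ⟨r, hr⟩ := c.2
    refine ⟨algebraMap R A r, ?_⟩
    rw [Ideal.map_map, ← IsScalarTower.algebraMap_eq, ← IsScalarTower.algebraMap_apply, ← f.commutes, ← map_sub]
    have h := Ideal.mem_map_of_mem (f : A →+* A ⊗[R] A) hr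
    rwa [Ideal.map_map, AlgHom.comp_algebraMap] at h⟩
  map_one' := Subtype.ext (map_one f)
  map_zero' := Subtype.ext (map_zero f)
  map_add' x y := Subtype.ext (map_add f x.1 y.1)
  map_mul' x y := Subtype.ext (map_mul f x.1 y.1)
  commutes' r := Subtype.ext (f.commutes r)

theorem sqVal_comp_sqMap (f : A →ₐ[R] A ⊗[R] A) :
    (sqVal (J.map (algebraMap R A))).comp (sqMap J f) = f.comp (sqVal J) := rfl

theorem retr_comp_sqMap (hJ : J ^ 2 = ⊥) (hJA : (J.map (algebraMap R A)) ^ 2 = ⊥) (ε : A →ₗ[R] R)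
    (h1 : ε 1 = 1) (f : A →ₐ[R] A ⊗[R] A) (hf : ∀ a, slice ε (f a) = algebraMap R A (ε a)) :
    (retrR (J.map (algebraMap R A)) (slice ε) (slice_one ε h1) hJA).comp (sqMap J f) =
      (Algebra.ofId R A).comp (retrR J ε h1 hJ) :=
  AlgHom.ext fun c => hf c.1

/-- The reductions compared. -/
noncomputable def quotA : R ⧸ J →ₐ[R] A ⧸ J.map (algebraMap R A) :=
  Ideal.Quotient.liftₐ J ((Ideal.Quotient.mkₐ R (J.map (algebraMap R A))).comp (Algebra.ofId R A)) fun r hr => by
    change Ideal.Quotient.mk (J.map (algebraMap R A)) (algebraMap R A r) = 0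
    exact Ideal.Quotient.eq_zero_iff_mem.mpr (Ideal.mem_map_of_mem (algebraMap R A) hr)

theorem red_comp_sqMap (hJ : J ^ 2 = ⊥) (hJA : (J.map (algebraMap R A)) ^ 2 = ⊥) (ε : A →ₗ[R] R)
    (h1 : ε 1 = 1) (f : A →ₐ[R] A ⊗[R] A) (hf : ∀ a, slice ε (f a) = algebraMap R A (ε a)) :
    (redR (J.map (algebraMap R A)) (slice ε) (slice_one ε h1) hJA).comp (sqMap J f) =
      (quotA J).comp (redR J ε h1 hJ) := by
  rw [redR, AlgHom.comp_assoc, retr_comp_sqMap J hJ hJA ε h1 f hf]
  rfl

/-- A cocycle congruent to the unit is a coboundary: if `d` is congruent to the unit and satisfies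
`d(hh') = d(h) a(h) d(h') a(h)⁻¹`, then `d a = x a x⁻¹` for a point `x` congruent to the unit. -/
theorem exists_coboundary {G : Over S} [GrpObj G] (hJ : J ^ 2 = ⊥) (ε : A →ₗ[R] R) (h1 : ε 1 = 1)
    (Δ : A →ₐ[R] A ⊗[R] A) (hΔ : ∀ a, slice ε (Δ a) = algebraMap R A (ε a)) (a d : aff q A ⟶ G)
    (hd : affMap q (Ideal.Quotient.mkₐ R (J.map (algebraMap R A))) ≫ d = 1)
    (hc : affMap q Δ ≫ d =
      (affMap q Algebra.TensorProduct.includeLeft ≫ d) *
        ((affMap q Algebra.TensorProduct.includeLeft ≫ a) * (affMap q Algebra.TensorProduct.includeRight ≫ d) *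
          (affMap q Algebra.TensorProduct.includeLeft ≫ a)⁻¹)) :
    ∃ x : aff q R ⟶ G, affMap q (Ideal.Quotient.mkₐ R J) ≫ x = 1 ∧
      d * a = (affMap q (Algebra.ofId R A) ≫ x) * a * (affMap q (Algebra.ofId R A) ≫ x)⁻¹ := by
  have hJA : (J.map (algebraMap R A)) ^ 2 = ⊥ := by rw [← Ideal.map_pow, hJ, Ideal.map_bot]
  obtain ⟨d', hd', hd'r⟩ := exists_squeeze q J ε h1 hJ d hd
  have hE := slice_one ε h1
  have hi₂ : ∀ b, (slice ε) ((Algebra.TensorProduct.includeRight : A →ₐ[R] A ⊗[R] A) b) = algebraMap R A (ε b) :=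
    fun b => by
      change slice ε ((1 : A) ⊗ₜ[R] b) = _
      rw [slice_tmul, Algebra.algebraMap_eq_smul_one]
  let cst : A →ₐ[R] Sq (A ⊗[R] A) (J.map (algebraMap R A)) := IsScalarTower.toAlgHom R A _
  refine ⟨affMap q (retrR J ε h1 hJ) ≫ d', ?_, ?_⟩
  · rw [← Category.assoc, affMap_comp]
    exact hd'r
  have key : affMap q (sqMap J Δ) ≫ d' =
      (affMap q cst ≫ d) * ((affMap q cst ≫ a) *
        (affMap q (sqMap J Algebra.TensorProduct.includeRight) ≫ d') * (affMap q cst ≫ a)⁻¹) := by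
    refine squeeze_ext q (J.map (algebraMap R A)) (slice ε) hE hJA ?_ ?_
    · have e1 : (sqVal (J.map (algebraMap R A))).comp cst = Algebra.TensorProduct.includeLeft := AlgHom.ext fun _ => rfl
      simp only [MonObj.comp_mul, GrpObj.comp_inv, affMap_comp_assoc, e1, sqVal_comp_sqMap]
      simp only [← affMap_comp_assoc, hd']
      exact hc
    · have e2 : (redR (J.map (algebraMap R A)) (slice ε) hE hJA).comp cst = Ideal.Quotient.mkₐ R (J.map (algebraMap R A)) := AlgHom.ext fun b => by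
        change Ideal.Quotient.mk (J.map (algebraMap R A)) (slice ε (algebraMap A (A ⊗[R] A) b)) = _
        rw [Algebra.TensorProduct.algebraMap_apply, slice_tmul, h1, one_smul]
        rfl
      simp only [MonObj.comp_mul, GrpObj.comp_inv, affMap_comp_assoc, e2,
        red_comp_sqMap J hJ hJA ε h1 Δ hΔ, red_comp_sqMap J hJ hJA ε h1 _ hi₂]
      simp only [← affMap_comp_assoc, hd'r, hd, MonObj.comp_one, _root_.mul_one, _root_.one_mul,
        mul_inv_cancel]
  have h := congrArg (affMap q (retrR (J.map (algebraMap R A)) (slice ε) hE hJA) ≫ ·) key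
  have e3 : (retrR (J.map (algebraMap R A)) (slice ε) hE hJA).comp cst = AlgHom.id R A := AlgHom.ext fun b => by
    change slice ε (algebraMap A (A ⊗[R] A) b) = b
    rw [Algebra.TensorProduct.algebraMap_apply, slice_tmul, h1, one_smul]
    rfl
  simp only [MonObj.comp_mul, GrpObj.comp_inv, affMap_comp_assoc, e3, affMap_id, Category.id_comp,
    retr_comp_sqMap J hJ hJA ε h1 Δ hΔ, retr_comp_sqMap J hJ hJA ε h1 _ hi₂] at h
  simp only [← affMap_comp_assoc] at h
  set x := affMap q (Algebra.ofId R A) ≫ affMap q (retrR J ε h1 hJ) ≫ d' with hx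
  calc d * a = d * (a * x * a⁻¹) * (a * x⁻¹) := by group
    _ = x * a * x⁻¹ := by rw [← h, _root_.mul_assoc]

end GrothLib.MultDef14
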