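import Groth.Agent.Lib.MultDef14.CocycleLift
import Groth.Agent.Lib.MultDef14.Spec
import Groth.Agent.Lib.DiagGrp.Points
import Groth.Agent.Lib.AlgSp.SliceLemmas
import Groth.Agent.Lib.GrpSchField.Points

/-!
Homomorphisms from multiplicative points, and the lifting of homomorphisms over an affine base.
-/

universe u

open CategoryTheory MonoidalCategory CartesianMonoidalCategory MonObj GrpObj AlgebraicGeometry
open scoped TensorProduct

set_option backward.isDefEq.respectTransparency false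

namespace GrothLib.MultDef14

open GrothLib.DiagGrp (bcPoint bcPointMulEquiv HasChartsFpqc)

/-- Two points over the base give a point of the tensor product. -/
theorem exists_pair {S : Scheme.{u}} {R : Type u} [CommRing R] {q : Spec (CommRingCat.of R) ⟶ S}
    {A A' : Type u} [CommRing A] [Algebra R A] [CommRing A'] [Algebra R A'] {X : Over S}
    (t₁ : X ⟶ aff q A) (t₂ : X ⟶ aff q A')
    (e : t₁ ≫ affMap q (Algebra.ofId R A) = t₂ ≫ affMap q (Algebra.ofId R A')) :
    ∃ t : X ⟶ aff q (A ⊗[R] A'), t ≫ affMap q Algebra.TensorProduct.includeLeft = t₁ ∧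
      t ≫ affMap q Algebra.TensorProduct.includeRight = t₂ := by
  have h1 : IsPullback (Spec.map (CommRingCat.ofHom (algebraMap A (A ⊗[R] A'))))
      (Spec.map (CommRingCat.ofHom ((Algebra.TensorProduct.includeRight : A' →ₐ[R] A ⊗[R] A') : A' →+* A ⊗[R] A')))
      (Spec.map (CommRingCat.ofHom (algebraMap R A))) (Spec.map (CommRingCat.ofHom (algebraMap R A'))) :=
    isPullback_SpecMap_of_isPushout _ _ _ _ (CommRingCat.isPushout_tensorProduct R A A')
  have he : t₁.left ≫ Spec.map (CommRingCat.ofHom (algebraMap R A)) =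
      t₂.left ≫ Spec.map (CommRingCat.ofHom (algebraMap R A')) := congrArg CommaMorphism.left e
  refine ⟨Over.homMk (h1.lift t₁.left t₂.left he) ?_, Over.OverMorphism.ext (h1.lift_fst _ _ _),
    Over.OverMorphism.ext (h1.lift_snd _ _ _)⟩
  change h1.lift _ _ he ≫ Spec.map _ ≫ q = X.hom
  rw [IsScalarTower.algebraMap_eq R A (A ⊗[R] A'), CommRingCat.ofHom_comp, Spec.map_comp, Category.assoc,
    h1.lift_fst_assoc]
  exact Over.w t₁

variable {R : Type u} [CommRing R] {H G : Over (Spec (CommRingCat.of R))} [GrpObj H] [GrpObj G]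
variable {A : Type u} [CommRing A] [Algebra R A] {h : aff (𝟙 (Spec (CommRingCat.of R))) A ⟶ H}

/-- A multiplicative point is the universal value of a homomorphism. -/
theorem exists_hom_of_homPt (hu : IsUniv (𝟙 (Spec (CommRingCat.of R))) h)
    {a : aff (𝟙 (Spec (CommRingCat.of R))) A ⟶ G} (ha : IsHomPt h a) :
    ∃ w : H ⟶ G, IsMonHom w ∧ h ≫ w = a := by
  obtain ⟨t, htp, hth⟩ := hu.factor H (toUnit H ≫ unitTo) (𝟙 H)
  have hht : h ≫ t = 𝟙 _ := by
    have hw : (h ≫ t).left ≫ Spec.map (CommRingCat.ofHom (algebraMap R A)) ≫ 𝟙 _ =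
        Spec.map (CommRingCat.ofHom (algebraMap R A)) ≫ 𝟙 _ := Over.w (h ≫ t)
    rw [Category.comp_id] at hw
    have hφ : CommRingCat.ofHom (algebraMap R A) ≫ Spec.preimage (h ≫ t).left = CommRingCat.ofHom (algebraMap R A) := by
      apply Spec.map_injective
      rw [Spec.map_comp, Spec.map_preimage, hw]
    let φ : A →ₐ[R] A := ⟨(Spec.preimage (h ≫ t).left).hom, fun r => congr($(hφ).hom r)⟩
    have e : h ≫ t = affMap _ φ := Over.OverMorphism.ext (Spec.map_preimage _).symm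
    have hid : φ = AlgHom.id R A := (hu.bij A).1 (by
      dsimp only
      rw [← e, Category.assoc, hth, Category.comp_id, affMap_id, Category.id_comp])
    rw [e, hid, affMap_id]
  obtain ⟨Δ, hΔ⟩ := hu.exists_isComul
  have hmul : ∀ (X : Over (Spec (CommRingCat.of R))) (y₁ y₂ : X ⟶ H),
      (y₁ * y₂) ≫ t ≫ a = (y₁ ≫ t ≫ a) * (y₂ ≫ t ≫ a) := by
    intro X y₁ y₂
    obtain ⟨t₁₂, h₁, h₂⟩ := exists_pair (y₁ ≫ t) (y₂ ≫ t) (by
      rw [Category.assoc, Category.assoc, htp, ← Category.assoc, ← Category.assoc, toUnit_unique (y₁ ≫ _) (y₂ ≫ _)])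
    have e : y₁ * y₂ = t₁₂ ≫ affMap _ Δ ≫ h := by
      rw [hΔ, MonObj.comp_mul, reassoc_of% h₁, reassoc_of% h₂, hth, Category.comp_id, Category.comp_id]
    rw [e, Category.assoc, Category.assoc, reassoc_of% hht, ha _ _ _ _ hΔ, MonObj.comp_mul, reassoc_of% h₁,
      reassoc_of% h₂]
  refine ⟨t ≫ a, ?_, by rw [reassoc_of% hht]⟩
  refine GrpSchField.isMonHom_of_mul _ ?_
  have := hmul _ (fst H H) (snd H H)
  rw [Hom.mul_def, Hom.mul_def, lift_fst_snd, Category.id_comp] at this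
  rw [this, ← lift_fst_comp_snd_comp]

/-- A homomorphism over a closed subscheme of the base as a multiplicative point, and the homomorphisms
reducing to it. -/
theorem exists_point_of_hom₀ (hu : IsUniv (𝟙 (Spec (CommRingCat.of R))) h) (J : Ideal R)
    (f₀ : Red.bc (Spec.map (CommRingCat.ofHom (Ideal.Quotient.mk J))) H ⟶
      Red.bc (Spec.map (CommRingCat.ofHom (Ideal.Quotient.mk J))) G) [IsMonHom f₀] :
    ∃ a₀ : aff (𝟙 (Spec (CommRingCat.of R))) (A ⧸ J.map (algebraMap R A)) ⟶ G,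
      IsHomPt (affMap _ (Ideal.Quotient.mkₐ R (J.map (algebraMap R A))) ≫ h) a₀ ∧
      ∀ w : H ⟶ G, affMap _ (Ideal.Quotient.mkₐ R (J.map (algebraMap R A))) ≫ h ≫ w = a₀ →
        (Over.pullback (Spec.map (CommRingCat.ofHom (Ideal.Quotient.mk J)))).map w = f₀ := by
  let q := 𝟙 (Spec (CommRingCat.of R))
  let z := Spec.map (CommRingCat.ofHom (Ideal.Quotient.mk J))
  let Φ : ∀ T : Over (Spec (CommRingCat.of (R ⧸ J))), ((Over.map z).obj T ⟶ H) →* ((Over.map z).obj T ⟶ G) :=
    fun T => ((bcPointMulEquiv z G T).symm.toMonoidHom.comp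
      (MonoidHom.mk' (fun y : T ⟶ Red.bc z H => y ≫ f₀) fun a b => MonObj.mul_comp a b f₀)).comp
      (bcPointMulEquiv z H T).toMonoidHom
  have hΦ : ∀ T y, bcPoint z G T (Φ T y) = bcPoint z H T y ≫ f₀ := fun T y => (bcPoint z G T).apply_symm_apply _
  have hnat : ∀ {T T' : Over (Spec (CommRingCat.of (R ⧸ J)))} (k : T' ⟶ T) y,
      Φ T' ((Over.map z).map k ≫ y) = (Over.map z).map k ≫ Φ T y := fun k y => by
    apply (bcPoint z G _).injective
    rw [hΦ, DiagGrp.bcPoint_comp, DiagGrp.bcPoint_comp, hΦ, Category.assoc]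
  let A₀ := A ⧸ J.map (algebraMap R A)
  let mkA : A →ₐ[R] A₀ := Ideal.Quotient.mkₐ R _
  let T₀ : Over (Spec (CommRingCat.of (R ⧸ J))) :=
    Over.mk (Spec.map (CommRingCat.ofHom ((quotA (A := A) J : R ⧸ J →ₐ[R] A₀) : R ⧸ J →+* A₀)))
  have hB : ∀ {B : Type u} [CommRing B] [Algebra R B] (k : R ⧸ J →ₐ[R] B),
      Spec.map (CommRingCat.ofHom (algebraMap R B)) ≫ q =
        Spec.map (CommRingCat.ofHom (k : R ⧸ J →+* B)) ≫ z := fun k => by
    change Spec.map (CommRingCat.ofHom (algebraMap R _)) ≫ 𝟙 _ = _ ≫ Spec.map _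
    rw [Category.comp_id, ← Spec.map_comp, ← CommRingCat.ofHom_comp, ← AlgHom.comp_algebraMap k]
    rfl
  let e₀ : aff q A₀ ⟶ (Over.map z).obj T₀ := Over.homMk (𝟙 _) ((Category.id_comp _).trans (hB _).symm)
  let e₀' : (Over.map z).obj T₀ ⟶ aff q A₀ := Over.homMk (𝟙 _) ((Category.id_comp _).trans (hB _))
  let a₀ : aff q A₀ ⟶ G := e₀ ≫ Φ T₀ (e₀' ≫ affMap q mkA ≫ h)
  have hhom : IsHomPt (affMap q mkA ≫ h) a₀ := by
    intro B _ _ f g k e
    let T : Over (Spec (CommRingCat.of (R ⧸ J))) :=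
      Over.mk (Spec.map (CommRingCat.ofHom ((k.comp (quotA J) : R ⧸ J →ₐ[R] B) : R ⧸ J →+* B)))
    let eB : aff q B ⟶ (Over.map z).obj T := Over.homMk (𝟙 _) ((Category.id_comp _).trans (hB _).symm)
    let eB' : (Over.map z).obj T ⟶ aff q B := Over.homMk (𝟙 _) ((Category.id_comp _).trans (hB _))
    let m : (A₀ →ₐ[R] B) → (T ⟶ T₀) := fun l => Over.homMk (Spec.map (CommRingCat.ofHom (l : A₀ →+* B))) (by
      change Spec.map _ ≫ Spec.map _ = Spec.map _
      rw [← Spec.map_comp, ← CommRingCat.ofHom_comp]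
      exact congrArg (fun φ : R ⧸ J →ₐ[R] B => Spec.map (CommRingCat.ofHom (φ : R ⧸ J →+* B)))
        (Ideal.Quotient.algHom_ext R (Subsingleton.elim _ _) : l.comp (quotA J) = k.comp (quotA J)))
    have hmv : ∀ l, affMap q l ≫ a₀ = eB ≫ Φ T ((Over.map z).map (m l) ≫ e₀' ≫ affMap q mkA ≫ h) := fun l => by
      rw [hnat, ← Category.assoc eB, ← Category.assoc (affMap q l)]
      congr 1
    have hl : ∀ l, (Over.map z).map (m l) ≫ e₀' ≫ affMap q mkA ≫ h = eB' ≫ affMap q l ≫ affMap q mkA ≫ h := fun l => by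
      rw [← Category.assoc ((Over.map z).map _), ← Category.assoc eB']
      congr 1
    rw [hmv, hmv, hmv, hl, hl, hl, ← MonObj.comp_mul, ← map_mul, ← MonObj.comp_mul, e]
  refine ⟨a₀, hhom, fun w hw => ?_⟩
  have key : ∀ (T : Over (Spec (CommRingCat.of (R ⧸ J)))) (y : (Over.map z).obj T ⟶ H), y ≫ w = Φ T y := by
    intro T y
    obtain ⟨t, -, ht⟩ := hu.factor _ (toUnit _ ≫ unitTo) y
    have sq : IsPullback (Spec.map (CommRingCat.ofHom ((quotA (A := A) J : R ⧸ J →ₐ[R] A₀) : R ⧸ J →+* A₀)))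
        (Spec.map (CommRingCat.ofHom (mkA : A →+* A₀))) z (Spec.map (CommRingCat.ofHom (algebraMap R A))) := by
      have e : ((quotA (A := A) J : R ⧸ J →ₐ[R] A₀) : R ⧸ J →+* A₀) =
          Ideal.quotientMap (J.map (algebraMap R A)) (algebraMap R A) Ideal.le_comap_map :=
        Ideal.Quotient.ringHom_ext (RingHom.ext fun _ => rfl)
      rw [e]
      exact (AlgSp.isPullback_SpecMap_quotient (CommRingCat.ofHom (algebraMap R A)) J).flip
    have ht' : T.hom ≫ z = t.left ≫ Spec.map (CommRingCat.ofHom (algebraMap R A)) := by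
      have := Over.w t
      change t.left ≫ Spec.map _ ≫ 𝟙 _ = T.hom ≫ z at this
      rw [Category.comp_id] at this
      exact this.symm
    let t' : T ⟶ T₀ := Over.homMk (sq.lift T.hom t.left ht') (sq.lift_fst _ _ _)
    have hy : y = (Over.map z).map t' ≫ e₀' ≫ affMap q mkA ≫ h := by
      rw [← ht, ← Category.assoc, ← Category.assoc]
      congr 1
      refine Over.OverMorphism.ext ?_
      change t.left = (sq.lift T.hom t.left ht' ≫ 𝟙 _) ≫ Spec.map _
      rw [Category.comp_id, sq.lift_snd]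
    conv_lhs => rw [hy]
    rw [hy, hnat, Category.assoc, Category.assoc, Category.assoc, hw]
    congr 1
  have e := key (Red.bc z H) ((bcPoint z H _).symm (𝟙 _))
  have e' := congrArg (bcPoint z G _) e
  rw [DiagGrp.bcPoint_comp_right, Equiv.apply_symm_apply, Category.id_comp, hΦ, Equiv.apply_symm_apply,
    Category.id_comp] at e'
  exact e'

/-- Homomorphisms out of groups of multiplicative type into formally smooth groups lift along nilpotent
thickenings of an affine base. -/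
theorem exists_hom_lift_spec {Q : ∀ (M : Type), AddCommGroup M → Prop} (hH : HasChartsFpqc Q H)
    (hG : MoreMor.IsFormallySmoothHom G.hom) (J : Ideal R) (hJ : IsNilpotent J)
    (f₀ : Red.bc (Spec.map (CommRingCat.ofHom (Ideal.Quotient.mk J))) H ⟶
      Red.bc (Spec.map (CommRingCat.ofHom (Ideal.Quotient.mk J))) G) [IsMonHom f₀] :
    ∃ f : H ⟶ G, IsMonHom f ∧ (Over.pullback (Spec.map (CommRingCat.ofHom (Ideal.Quotient.mk J)))).map f = f₀ := by
  obtain ⟨A, _, _, h, hu⟩ := exists_isUniv (𝟙 (Spec (CommRingCat.of R))) H (EssFree.isAffineHom_of_charts hH)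
  obtain ⟨a₀, hhom, hred⟩ := exists_point_of_hom₀ hu J f₀
  obtain ⟨a, ha, hah⟩ := exists_homPt_nil hH hG hu J hJ a₀ hhom
  obtain ⟨w, hwm, hw⟩ := exists_hom_of_homPt hu hah
  exact ⟨w, hwm, hred w (by rw [hw, ha])⟩

end GrothLib.MultDef14
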