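import Groth.Agent.Lib.MultDef14.Chart
import Groth.Agent.Lib.DiagGrp.CharLift

/-!
Multiplicative points: homomorphisms out of an affine group read on its universal point, and their
rigidity between diagonalisable groups.
-/

universe u

open CategoryTheory MonoidalCategory CartesianMonoidalCategory MonObj GrpObj AlgebraicGeometry
open scoped TensorProduct

namespace GrothLib.MultDef14

variable {S : Scheme.{u}} {R : Type u} [CommRing R] {q : Spec (CommRingCat.of R) ⟶ S}
variable {H K : Over S} [GrpObj H] [GrpObj K] {A : Type u} [CommRing A] [Algebra R A]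

/-- A point which respects the products of the universal point. -/
def IsHomPt (h : aff q A ⟶ H) (a : aff q A ⟶ K) : Prop :=
  ∀ (B : Type u) [CommRing B] [Algebra R B] (f g k : A →ₐ[R] B),
    affMap q k ≫ h = (affMap q f ≫ h) * (affMap q g ≫ h) → affMap q k ≫ a = (affMap q f ≫ a) * (affMap q g ≫ a)

theorem IsHomPt.of_hom (h : aff q A ⟶ H) (w : H ⟶ K) [IsMonHom w] : IsHomPt h (h ≫ w) := fun B _ _ f g k e => by
  rw [← Category.assoc, e, MonObj.mul_comp, Category.assoc, Category.assoc]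

theorem IsHomPt.map {h : aff q A ⟶ H} {a : aff q A ⟶ K} (ha : IsHomPt h a) {A' : Type u} [CommRing A']
    [Algebra R A'] (m : A →ₐ[R] A') : IsHomPt (affMap q m ≫ h) (affMap q m ≫ a) := fun B _ _ f g k e => by
  simp only [affMap_comp_assoc] at e ⊢
  exact ha B _ _ _ e

variable {N M : Type} [AddCommGroup M] [AddCommGroup N]

section Split

variable (e₁ : Grp.mk (Red.bc (Spec.map (CommRingCat.ofHom (algebraMap R R)) ≫ q) H) ≅
      Grp.mk (Red.DS (Spec (CommRingCat.of R)) M))
  (e₂ : Grp.mk (Red.bc (Spec.map (CommRingCat.ofHom (algebraMap R R)) ≫ q) K) ≅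
      Grp.mk (Red.DS (Spec (CommRingCat.of R)) N))
  {h : aff q A ⟶ H} {χu : Multiplicative M →* A} (hχu : chPt q e₁ A χu = h)

include hχu in
theorem pt_eq {B : Type u} [CommRing B] [Algebra R B] (f : A →ₐ[R] B) :
    affMap q f ≫ h = chPt q e₁ B ((f : A →* B).comp χu) := by
  rw [← chPt_comp, hχu]
  rfl

include hχu in
theorem existsUnique_algHom (hu : IsUniv q h) (B : Type u) [CommRing B] [Algebra R B] (χ : Multiplicative M →* B) :
    ∃! f : A →ₐ[R] B, (f : A →* B).comp χu = χ := by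
  obtain ⟨f, hf⟩ := (hu.bij B).2 (chPt q e₁ B χ)
  have hf' := (chPt_bijective q e₁ B).1 ((pt_eq e₁ hχu f).symm.trans hf)
  refine ⟨f, hf', fun g hg => (hu.bij B).1 ?_⟩
  change affMap q g ≫ h = affMap q f ≫ h
  rw [pt_eq e₁ hχu, pt_eq e₁ hχu, hg, hf']

include hχu in
theorem mul_iff {B : Type u} [CommRing B] [Algebra R B] (f g k : A →ₐ[R] B) :
    affMap q k ≫ h = (affMap q f ≫ h) * (affMap q g ≫ h) ↔
      (k : A →* B).comp χu = (f : A →* B).comp χu * (g : A →* B).comp χu := by
  rw [pt_eq e₁ hχu, pt_eq e₁ hχu, pt_eq e₁ hχu, ← chPt_mul, (chPt_bijective q e₁ B).1.eq_iff]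

theorem chPt_one (B : Type u) [CommRing B] [Algebra R B] : chPt q e₂ B (1 : Multiplicative N →* B) = 1 := by
  have h5 := chPt_mul q e₂ B (1 : Multiplicative N →* B) 1
  rw [_root_.one_mul] at h5
  exact left_eq_mul.mp h5

include hχu in
/-- A multiplicative point on a quotient of the universal algebra is given by group-like elements. -/
theorem exists_groupLike_of_homPt (hu : IsUniv q h) {R₁ : Type u} [CommRing R₁] (π : R →+* R₁)
    {A₁ : Type u} [CommRing A₁] [Algebra R A₁] (m : A →ₐ[R] A₁) (hm : Function.Surjective m)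
    (ρ : R₁ →+* A₁) (hρ : ρ.comp π = algebraMap R A₁)
    (hker : ∀ x, m x = 0 → x ∈ (RingHom.ker π).map (algebraMap R A))
    (a : aff q A₁ ⟶ K) (ha : IsHomPt (affMap q m ≫ h) a) :
    ∃ y : Multiplicative N →* MonoidAlgebra R₁ (Multiplicative M), (∀ n, DiagGrp.IsGroupLikeFam (y n)) ∧
      a = chPt q e₂ A₁ (DiagGrp.charOf y ρ ((m : A →* A₁).comp χu)) := by
  classical
  have hfam : ∀ (C : Type u) [CommRing C] (hC : R₁ →+* C) (χ : Multiplicative M →* C),
      letI := (hC.comp π).toAlgebra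
      ∃ (ξ : Multiplicative N →* C) (f : A₁ →ₐ[R] C),
        ((f.comp m : A →ₐ[R] C) : A →* C).comp χu = χ ∧ chPt q e₂ C ξ = affMap q f ≫ a := by
    intro C _ hC χ
    letI := (hC.comp π).toAlgebra
    obtain ⟨f, hf, -⟩ := existsUnique_algHom e₁ hχu hu C χ
    have hk : RingHom.ker (m : A →+* A₁) ≤ RingHom.ker (f : A →+* C) := by
      refine le_trans (fun x hx => hker x hx) (Ideal.map_le_iff_le_comap.mpr fun r hr => ?_)
      rw [Ideal.mem_comap, RingHom.mem_ker]
      refine (f.commutes r).trans ?_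
      change hC (π r) = 0
      rw [(RingHom.mem_ker.mp hr : π r = 0), map_zero]
    let f₁ : A₁ →+* C := RingHom.liftOfSurjective (m : A →+* A₁) hm ⟨(f : A →+* C), hk⟩
    have hf₁ : ∀ x, f₁ (m x) = f x := fun x => RingHom.liftOfRightInverse_comp_apply _ _ _ _ x
    let fA : A₁ →ₐ[R] C := ⟨f₁, fun r => by
      change f₁ (algebraMap R A₁ r) = _
      rw [← m.commutes, hf₁, f.commutes]⟩
    obtain ⟨ξ, hξ⟩ := (chPt_bijective q e₂ C).2 (affMap q fA ≫ a)
    refine ⟨ξ, fA, ?_, hξ⟩
    rw [← hf]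
    exact MonoidHom.ext fun x => hf₁ (χu x)
  choose Φ F hF hΦ using hfam
  have huniq : ∀ (C : Type u) [CommRing C] (hC : R₁ →+* C) (χ : Multiplicative M →* C),
      letI := (hC.comp π).toAlgebra
      ∀ f : A₁ →ₐ[R] C, ((f.comp m : A →ₐ[R] C) : A →* C).comp χu = χ → F C hC χ = f := by
    intro C _ hC χ
    letI := (hC.comp π).toAlgebra
    intro f hf
    have h1 := (existsUnique_algHom e₁ hχu hu C χ).unique (hF C hC χ) hf
    exact AlgHom.ext fun z => by
      obtain ⟨x, rfl⟩ := hm z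
      exact DFunLike.congr_fun h1 x
  have hnat : ∀ (C C' : Type u) [CommRing C] [CommRing C'] (hC : R₁ →+* C) (g : C →+* C')
      (χ : Multiplicative M →* C), Φ C' (g.comp hC) ((g : C →* C').comp χ) = (g : C →* C').comp (Φ C hC χ) := by
    intro C C' _ _ hC g χ
    letI := (hC.comp π).toAlgebra
    letI := ((g.comp hC).comp π).toAlgebra
    let gA : C →ₐ[R] C' := ⟨g, fun r => rfl⟩
    refine (chPt_bijective q e₂ C').1 ?_
    rw [hΦ, huniq C' (g.comp hC) _ (gA.comp (F C hC χ))
      (congrArg (fun t => (g : C →* C').comp t) (hF C hC χ))]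
    refine Eq.trans ?_ (chPt_comp q e₂ C gA (Φ C hC χ))
    rw [hΦ, affMap_comp_assoc]
    rfl
  have hmul : ∀ (C : Type u) [CommRing C] (hC : R₁ →+* C) (χ χ' : Multiplicative M →* C),
      Φ C hC (χ * χ') = Φ C hC χ * Φ C hC χ' := by
    intro C _ hC χ χ'
    letI := (hC.comp π).toAlgebra
    refine (chPt_bijective q e₂ C).1 ?_
    rw [chPt_mul, hΦ, hΦ, hΦ]
    have h1 := (mul_iff e₁ hχu ((F C hC χ).comp m) ((F C hC χ').comp m) ((F C hC (χ * χ')).comp m)).mpr (by
      rw [hF, hF, hF])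
    simp only [← affMap_comp_assoc] at h1
    exact ha C _ _ _ h1
  have hone : ∀ (C : Type u) [CommRing C] (hC : R₁ →+* C), Φ C hC 1 = 1 := by
    intro C _ hC
    have h2 := hmul C hC 1 1
    rw [_root_.one_mul] at h2
    letI := (hC.comp π).toAlgebra
    have h3 := congrArg (chPt q e₂ C) h2
    rw [chPt_mul] at h3
    refine (chPt_bijective q e₂ C).1 ?_
    rw [left_eq_mul.mp h3, chPt_one]
  obtain ⟨y, hy, hΦy⟩ := DiagGrp.exists_groupLike_of_family (A := R₁) (G := Multiplicative M)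
    (N := Multiplicative N) Φ hnat hmul hone
  refine ⟨y, hy, ?_⟩
  rw [← hΦy]
  have hI : (ρ.comp π).toAlgebra = ‹Algebra R A₁› :=
    Algebra.algebra_ext _ _ fun r => RingHom.congr_fun hρ r
  have h7 := hΦ A₁ ρ ((m : A →* A₁).comp χu)
  have h8 := huniq A₁ ρ ((m : A →* A₁).comp χu)
  revert h7 h8
  generalize F A₁ ρ ((m : A →* A₁).comp χu) = f
  revert f
  rw [hI]
  intro f h7 h8
  rw [h7, h8 (AlgHom.id R A₁) (by rw [AlgHom.id_comp]), affMap_id, Category.id_comp]

include hχu in
/-- A family of group-like elements gives a multiplicative point. -/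
theorem charOf_point (x : Multiplicative N →* MonoidAlgebra R (Multiplicative M))
    (hx : ∀ n, DiagGrp.IsGroupLikeFam (x n)) :
    IsHomPt h (chPt q e₂ A (DiagGrp.charOf x (algebraMap R A) χu)) ∧
      ∀ (B : Type u) [CommRing B] [Algebra R B] (f : A →ₐ[R] B),
        affMap q f ≫ chPt q e₂ A (DiagGrp.charOf x (algebraMap R A) χu) =
          chPt q e₂ B (DiagGrp.charOf x (algebraMap R B) ((f : A →* B).comp χu)) := by
  have hnat : ∀ (B : Type u) [CommRing B] [Algebra R B] (f : A →ₐ[R] B),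
      affMap q f ≫ chPt q e₂ A (DiagGrp.charOf x (algebraMap R A) χu) =
        chPt q e₂ B (DiagGrp.charOf x (algebraMap R B) ((f : A →* B).comp χu)) := by
    intro B _ _ f
    rw [← f.comp_algebraMap]
    refine Eq.trans ?_ (congrArg (chPt q e₂ B) (DiagGrp.charOf_nat x (algebraMap R A) (f : A →+* B) χu).symm)
    exact chPt_comp q e₂ A f _
  refine ⟨fun B _ _ f g k hk => ?_, hnat⟩
  rw [hnat, hnat, hnat, ← chPt_mul, ← DiagGrp.charOf_mul x hx, (mul_iff e₁ hχu f g k).mp hk]

include hχu in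
/-- The group-like elements are determined by the character they define. -/
theorem charOf_injective (hu : IsUniv q h) {R₁ : Type u} [CommRing R₁] (π : R →+* R₁)
    {A₁ : Type u} [CommRing A₁] [Algebra R A₁] (m : A →ₐ[R] A₁) (hm : Function.Surjective m)
    (ρ : R₁ →+* A₁) (hπ : Function.Surjective π) (hρ : ρ.comp π = algebraMap R A₁)
    (hker : ∀ x, m x = 0 → x ∈ (RingHom.ker π).map (algebraMap R A))
    {y y' : Multiplicative N →* MonoidAlgebra R₁ (Multiplicative M)}
    (he : DiagGrp.charOf y ρ ((m : A →* A₁).comp χu) = DiagGrp.charOf y' ρ ((m : A →* A₁).comp χu)) : y = y' := by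
  let hC : R₁ →+* MonoidAlgebra R₁ (Multiplicative M) := MonoidAlgebra.singleOneRingHom
  letI : Algebra R (MonoidAlgebra R₁ (Multiplicative M)) := (hC.comp π).toAlgebra
  obtain ⟨f, hf, -⟩ := existsUnique_algHom e₁ hχu hu _ (MonoidAlgebra.of R₁ (Multiplicative M))
  have hk : RingHom.ker (m : A →+* A₁) ≤ RingHom.ker (f : A →+* MonoidAlgebra R₁ (Multiplicative M)) := by
    refine le_trans (fun x hx => hker x hx) (Ideal.map_le_iff_le_comap.mpr fun r hr => ?_)
    rw [Ideal.mem_comap, RingHom.mem_ker]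
    refine (f.commutes r).trans ?_
    change hC (π r) = 0
    rw [(RingHom.mem_ker.mp hr : π r = 0), map_zero]
  let f₁ := RingHom.liftOfSurjective (m : A →+* A₁) hm ⟨(f : A →+* MonoidAlgebra R₁ (Multiplicative M)), hk⟩
  have hf₁ : ∀ x, f₁ (m x) = f x := fun x => RingHom.liftOfRightInverse_comp_apply _ _ _ _ x
  have h1 : f₁.comp ρ = hC := RingHom.ext fun r₁ => by
    obtain ⟨r, rfl⟩ := hπ r₁
    rw [RingHom.comp_apply, show ρ (π r) = algebraMap R A₁ r from RingHom.congr_fun hρ r, ← m.commutes, hf₁,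
      f.commutes]
    rfl
  have hval : ∀ (y₁ : Multiplicative N →* MonoidAlgebra R₁ (Multiplicative M)) n,
      f₁ (DiagGrp.charOf y₁ ρ ((m : A →* A₁).comp χu) n) = y₁ n := by
    intro y₁ n
    have h9 := DFunLike.congr_fun (DiagGrp.charOf_nat y₁ ρ f₁ ((m : A →* A₁).comp χu)) n
    have h10 : (f₁ : A₁ →* _).comp ((m : A →* A₁).comp χu) = MonoidAlgebra.of R₁ (Multiplicative M) := by
      rw [← hf]
      exact MonoidHom.ext fun x => hf₁ (χu x)
    rw [h1, h10] at h9
    refine h9.symm.trans ?_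
    change DiagGrp.evalAt _ _ (y₁ n) = y₁ n
    generalize y₁ n = z
    induction z using MonoidAlgebra.induction_linear with
    | zero => simp
    | add p p' hp hp' => rw [map_add, hp, hp']
    | single g r => simp [DiagGrp.evalAt_single, hC]
  exact MonoidHom.ext fun n => by rw [← hval y n, he, hval]

include e₁ e₂ in
/-- Over a split base, multiplicative points congruent to a given one exist and are unique. -/
theorem existsUnique_homPt_split (hu : IsUniv q h) (J : Ideal R) (hJ : IsNilpotent J)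
    (a₀ : aff q (A ⧸ J.map (algebraMap R A)) ⟶ K)
    (ha₀ : IsHomPt (affMap q (Ideal.Quotient.mkₐ R (J.map (algebraMap R A))) ≫ h) a₀) :
    ∃! a : aff q A ⟶ K, IsHomPt h a ∧ affMap q (Ideal.Quotient.mkₐ R (J.map (algebraMap R A))) ≫ a = a₀ := by
  classical
  obtain ⟨χu, hχu⟩ := (chPt_bijective q e₁ A).2 h
  let π : R →+* R ⧸ J := Ideal.Quotient.mk J
  let ρ : R ⧸ J →+* A ⧸ J.map (algebraMap R A) := Ideal.quotientMap _ (algebraMap R A) Ideal.le_comap_map
  let mA := Ideal.Quotient.mkₐ R (J.map (algebraMap R A))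
  have hρ : ρ.comp π = algebraMap R (A ⧸ J.map (algebraMap R A)) := RingHom.ext fun r => rfl
  have hker : ∀ x, mA x = 0 → x ∈ (RingHom.ker π).map (algebraMap R A) := fun x hx => by
    rw [Ideal.mk_ker]
    exact Ideal.Quotient.eq_zero_iff_mem.mp hx
  have hnil : ∀ r ∈ RingHom.ker π, IsNilpotent r := fun r hr => by
    obtain ⟨n, hn⟩ := hJ
    refine ⟨n, ?_⟩
    rw [← Ideal.mem_bot, ← Ideal.zero_eq_bot, ← hn]
    exact Ideal.pow_mem_pow (by rwa [Ideal.mk_ker] at hr) n
  obtain ⟨y, hy, hay⟩ := exists_groupLike_of_homPt e₁ e₂ hχu hu π mA Ideal.Quotient.mk_surjective ρ hρ hker a₀ ha₀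
  obtain ⟨x, hx, hxy⟩ := DiagGrp.exists_groupLike_hom_lift π Ideal.Quotient.mk_surjective hnil y hy
  have hred : ∀ (x' : Multiplicative N →* MonoidAlgebra R (Multiplicative M)),
      (∀ n, DiagGrp.IsGroupLikeFam (x' n)) → ∀ y' : Multiplicative N →* MonoidAlgebra (R ⧸ J) (Multiplicative M),
      (∀ n, MonoidAlgebra.mapRingHom (Multiplicative M) π (x' n) = y' n) →
      affMap q mA ≫ chPt q e₂ A (DiagGrp.charOf x' (algebraMap R A) χu) =
        chPt q e₂ _ (DiagGrp.charOf y' ρ ((mA : A →* A ⧸ J.map (algebraMap R A)).comp χu)) := by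
    intro x' hx' y' hxy'
    rw [(charOf_point e₁ e₂ hχu x' hx').2]
    refine congrArg _ (MonoidHom.ext fun n => ?_)
    change DiagGrp.evalAt _ _ (x' n) = DiagGrp.evalAt _ _ (y' n)
    rw [← hxy', DiagGrp.evalAt_mapRange]
    rfl
  refine ⟨_, ⟨(charOf_point e₁ e₂ hχu x hx).1, (hred x hx y hxy).trans hay.symm⟩, ?_⟩
  rintro a ⟨ha, hared⟩
  obtain ⟨x', hx', hax⟩ := exists_groupLike_of_homPt e₁ e₂ hχu hu (RingHom.id R) (AlgHom.id R A)
    Function.surjective_id (algebraMap R A) (RingHom.comp_id _) (fun z hz => by simp_all) a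
    (by rwa [affMap_id, Category.id_comp])
  rw [show ((AlgHom.id R A : A →ₐ[R] A) : A →* A).comp χu = χu from rfl] at hax
  subst hax
  let y' : Multiplicative N →* MonoidAlgebra (R ⧸ J) (Multiplicative M) :=
    (MonoidAlgebra.mapRingHom (Multiplicative M) π : _ →* _).comp x'
  rw [hred x' hx' y' fun _ => rfl, hay] at hared
  have hyy : y' = y := charOf_injective e₁ hχu hu π mA Ideal.Quotient.mk_surjective ρ Ideal.Quotient.mk_surjective hρ
    hker ((chPt_bijective q e₂ _).1 hared)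
  have hxx : x' = x := MonoidHom.ext fun n =>
    (DiagGrp.existsUnique_groupLike_lift π Ideal.Quotient.mk_surjective hnil (y n) (hy n)).unique
      ⟨hx' n, DFunLike.congr_fun hyy n⟩ ⟨hx n, hxy n⟩
  rw [hxx]

end Split

end GrothLib.MultDef14
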