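import Groth.Agent.Lib.MultDef14.Squeeze
import Mathlib.AlgebraicGeometry.Morphisms.Affine
import Mathlib.RingTheory.TensorProduct.Basic

/-!
Universal points of affine schemes over an affine base, and comultiplications of affine groups.
-/

universe u

open CategoryTheory MonoidalCategory CartesianMonoidalCategory MonObj GrpObj AlgebraicGeometry
open scoped TensorProduct

namespace GrothLib.MultDef14

variable {S : Scheme.{u}} {R : Type u} [CommRing R] (q : Spec (CommRingCat.of R) ⟶ S)

/-- A universal point of `H` over `R`-algebras. -/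
structure IsUniv {H : Over S} {A : Type u} [CommRing A] [Algebra R A] (h : aff q A ⟶ H) : Prop where
  bij : ∀ (B : Type u) [CommRing B] [Algebra R B],
    Function.Bijective fun φ : A →ₐ[R] B => affMap q φ ≫ h
  factor : ∀ (X : Over S) (p : X ⟶ aff q R) (y : X ⟶ H),
    ∃ t : X ⟶ aff q A, t ≫ affMap q (Algebra.ofId R A) = p ∧ t ≫ h = y

/-- An affine scheme over an affine base has a universal point. -/
theorem exists_isUniv (H : Over S) (hH : IsAffineHom H.hom) :
    ∃ (A : Type u) (_ : CommRing A) (_ : Algebra R A) (h : aff q A ⟶ H), IsUniv q h := by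
  haveI : IsAffineHom (Limits.pullback.snd H.hom q) := MorphismProperty.pullback_snd _ _ hH
  haveI : IsAffine (Limits.pullback H.hom q) := isAffine_of_isAffineHom (Limits.pullback.snd H.hom q)
  set P := Limits.pullback H.hom q
  let A : Type u := Γ(P, ⊤)
  let str : CommRingCat.of R ⟶ Γ(P, ⊤) := Spec.preimage (P.isoSpec.inv ≫ Limits.pullback.snd H.hom q)
  letI : Algebra R A := str.hom.toAlgebra
  have hstr : Spec.map (CommRingCat.ofHom (algebraMap R A)) = P.isoSpec.inv ≫ Limits.pullback.snd H.hom q :=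
    Spec.map_preimage _
  let h : aff q A ⟶ H := Over.homMk (P.isoSpec.inv ≫ Limits.pullback.fst H.hom q) (by
    change (P.isoSpec.inv ≫ Limits.pullback.fst H.hom q) ≫ H.hom = Spec.map _ ≫ q
    rw [hstr, Category.assoc, Category.assoc, Limits.pullback.condition])
  have hcomm : ∀ {B : Type u} [CommRing B] [Algebra R B] (φ : A →ₐ[R] B),
      Spec.map (CommRingCat.ofHom (φ : A →+* B)) ≫ P.isoSpec.inv ≫ Limits.pullback.snd H.hom q =
        Spec.map (CommRingCat.ofHom (algebraMap R B)) := fun φ => by
    rw [← hstr, ← Spec.map_comp, ← CommRingCat.ofHom_comp, AlgHom.comp_algebraMap]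
  refine ⟨A, inferInstance, inferInstance, h, fun B _ _ => ⟨fun φ ψ hφψ => ?_, fun y => ?_⟩, fun X p y => ?_⟩
  · have h1 : Spec.map (CommRingCat.ofHom (φ : A →+* B)) ≫ P.isoSpec.inv =
        Spec.map (CommRingCat.ofHom (ψ : A →+* B)) ≫ P.isoSpec.inv := by
      apply Limits.pullback.hom_ext
      · simp only [Category.assoc]
        exact congrArg CommaMorphism.left hφψ
      · simp only [Category.assoc]
        exact (hcomm φ).trans (hcomm ψ).symm
    have h2 := Spec.map_injective ((cancel_mono P.isoSpec.inv).mp h1)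
    exact AlgHom.coe_ringHom_injective (congrArg CommRingCat.Hom.hom h2)
  · have hy : y.left ≫ H.hom = Spec.map (CommRingCat.ofHom (algebraMap R B)) ≫ q := Over.w y
    let l : Spec (CommRingCat.of B) ⟶ P := Limits.pullback.lift y.left (Spec.map (CommRingCat.ofHom (algebraMap R B))) hy
    let φ₀ := Spec.preimage (l ≫ P.isoSpec.hom)
    have hφ₀ : Spec.map φ₀ = l ≫ P.isoSpec.hom := Spec.map_preimage _
    have halg : CommRingCat.ofHom (algebraMap R A) ≫ φ₀ = CommRingCat.ofHom (algebraMap R B) := by
      apply Spec.map_injective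
      rw [Spec.map_comp, hφ₀, hstr, Category.assoc, Iso.hom_inv_id_assoc, Limits.pullback.lift_snd]
    refine ⟨⟨φ₀.hom, fun r => congr($(halg).hom r)⟩, Over.OverMorphism.ext ?_⟩
    change Spec.map φ₀ ≫ P.isoSpec.inv ≫ Limits.pullback.fst H.hom q = y.left
    rw [hφ₀, Category.assoc, Iso.hom_inv_id_assoc, Limits.pullback.lift_fst]
  · have hp : p.left ≫ q = X.hom := by
      have := Over.w p
      change p.left ≫ Spec.map (CommRingCat.ofHom (algebraMap R R)) ≫ q = X.hom at this
      rw [Algebra.algebraMap_self, CommRingCat.ofHom_id, show Spec.map (𝟙 (CommRingCat.of R)) = 𝟙 _ from Spec.map_id _] at this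
      exact this
    let l : X.left ⟶ P := Limits.pullback.lift y.left p.left ((Over.w y).trans hp.symm)
    refine ⟨Over.homMk (l ≫ P.isoSpec.hom) ?_, Over.OverMorphism.ext ?_, Over.OverMorphism.ext ?_⟩
    · change (l ≫ P.isoSpec.hom) ≫ Spec.map _ ≫ q = X.hom
      rw [hstr, Category.assoc, Category.assoc, Iso.hom_inv_id_assoc, Limits.pullback.lift_snd_assoc, hp]
    · change (l ≫ P.isoSpec.hom) ≫ Spec.map _ = p.left
      rw [show ((Algebra.ofId R A : R →ₐ[R] A) : R →+* A) = algebraMap R A from rfl, hstr, Category.assoc,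
        Iso.hom_inv_id_assoc, Limits.pullback.lift_snd]
    · change (l ≫ P.isoSpec.hom) ≫ P.isoSpec.inv ≫ Limits.pullback.fst H.hom q = y.left
      rw [Category.assoc, Iso.hom_inv_id_assoc, Limits.pullback.lift_fst]

variable {q} {H : Over S} [GrpObj H] {A : Type u} [CommRing A] [Algebra R A] {h : aff q A ⟶ H}

/-- A comultiplication. -/
def IsComul (h : aff q A ⟶ H) (Δ : A →ₐ[R] A ⊗[R] A) : Prop :=
  affMap q Δ ≫ h = (affMap q Algebra.TensorProduct.includeLeft ≫ h) *
    (affMap q Algebra.TensorProduct.includeRight ≫ h)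

theorem IsUniv.exists_isComul (hu : IsUniv q h) : ∃ Δ, IsComul h Δ := (hu.bij _).2 _

/-- The comultiplication of a commutative group is symmetric. -/
theorem IsComul.comm {Δ : A →ₐ[R] A ⊗[R] A} (hΔ : IsComul h Δ) (hu : IsUniv q h)
    (hcomm : ∀ (Y : Over S) (a b : Y ⟶ H), a * b = b * a) :
    (Algebra.TensorProduct.comm R A A).toAlgHom.comp Δ = Δ := by
  refine (hu.bij _).1 ?_
  dsimp only
  rw [← affMap_comp, Category.assoc, hΔ, MonObj.comp_mul, affMap_comp_assoc, affMap_comp_assoc, hcomm]
  congr 1 <;> congr 2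

end GrothLib.MultDef14
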