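import Groth.Agent.Lib.MultDef14.Core
import Groth.Agent.Lib.MultDef14.Universal
import Groth.Agent.Lib.DiagGrp.BaseChange
import Groth.Agent.Lib.DescElem.Basic
import Mathlib.LinearAlgebra.TensorProduct.Pi
import Mathlib.RingTheory.TensorProduct.Pi
import Mathlib.RingTheory.Flat.FaithfullyFlat.Algebra

/-!
The invariant mean of a group of multiplicative type over an affine base.
-/

universe u

open CategoryTheory MonoidalCategory CartesianMonoidalCategory MonObj GrpObj AlgebraicGeometry
open scoped TensorProduct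

set_option maxSynthPendingDepth 3

namespace GrothLib.MultDef14

section Descent

variable {R : Type u} [CommRing R] {A : Type u} [CommRing A] [Algebra R A] (Δ : A →ₐ[R] A ⊗[R] A)

/-- An invariant functional. -/
def IsInv {T : Type u} [CommRing T] [Algebra R T] (j : A →ₗ[R] T) : Prop :=
  ∀ a, j.lTensor A (Δ a) = (1 : A) ⊗ₜ[R] j a

theorem IsInv.map {T T' : Type u} [CommRing T] [Algebra R T] [CommRing T'] [Algebra R T'] {j : A →ₗ[R] T}
    (hj : IsInv Δ j) (f : T →ₐ[R] T') : IsInv Δ (f.toLinearMap ∘ₗ j) := fun a => by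
  rw [LinearMap.lTensor_comp, LinearMap.comp_apply, hj a]
  rfl

variable (hc : (Algebra.TensorProduct.comm R A A).toAlgHom.comp Δ = Δ)

include hc in
theorem IsInv.unique {T : Type u} [CommRing T] [Algebra R T] {j₁ j₂ : A →ₗ[R] T} (h₁ : IsInv Δ j₁)
    (h₂ : IsInv Δ j₂) (e₁ : j₁ 1 = 1) (e₂ : j₂ 1 = 1) : j₁ = j₂ := by
  refine LinearMap.ext fun a => ?_
  let P : A ⊗[R] A →ₗ[R] T := LinearMap.mul' R T ∘ₗ TensorProduct.map j₁ j₂
  let P₁ : A ⊗[R] T →ₗ[R] T := LinearMap.mul' R T ∘ₗ j₁.rTensor T
  let P₂ : A ⊗[R] T →ₗ[R] T := LinearMap.mul' R T ∘ₗ j₂.rTensor T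
  have hP₁ : ∀ z, P z = P₁ (j₂.lTensor A z) := fun z => by
    induction z using TensorProduct.induction_on with
    | zero => simp
    | add x y hx hy => simp only [map_add, hx, hy]
    | tmul x y => rfl
  have hP₂ : ∀ z, P (Algebra.TensorProduct.comm R A A z) = P₂ (j₁.lTensor A z) := fun z => by
    induction z using TensorProduct.induction_on with
    | zero => simp
    | add x y hx hy => simp only [map_add, hx, hy]
    | tmul x y => simp [P, P₂, mul_comm]
  have hcomm : Algebra.TensorProduct.comm R A A (Δ a) = Δ a := congr($hc a)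
  have h := hP₂ (Δ a)
  rw [hcomm, hP₁, h₁ a, h₂ a] at h
  simpa [P₁, P₂, e₁, e₂] using h.symm

include hc in
/-- An invariant functional descends along faithfully flat algebras. -/
theorem exists_mean_of_ff (T : Type u) [CommRing T] [Algebra R T] [Module.FaithfullyFlat R T]
    (J : A →ₗ[R] T) (hJ : IsInv Δ J) (hJ1 : J 1 = 1) :
    ∃ ε : A →ₗ[R] R, ε 1 = 1 ∧ ∀ a, slice ε (Δ a) = algebraMap R A (ε a) := by
  let i₁ : T →ₐ[R] T ⊗[R] T := Algebra.TensorProduct.includeLeft
  let i₂ : T →ₐ[R] T ⊗[R] T := Algebra.TensorProduct.includeRight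
  have huniq := IsInv.unique Δ hc (hJ.map Δ i₁) (hJ.map Δ i₂) (by simp [hJ1]) (by simp [hJ1])
  have hmem : ∀ a, ∃ r, algebraMap R T r = J a := fun a => by
    refine LinearMap.mem_range.mp (DescElem.mem_range_of_one_tmul T (Algebra.linearMap R T) _ ?_)
    refine ⟨J a ⊗ₜ[R] (1 : R), ?_⟩
    rw [LinearMap.lTensor_tmul]
    have := LinearMap.congr_fun huniq a
    simpa [i₁, i₂] using this
  choose j hj using hmem
  have hinj := FaithfulSMul.algebraMap_injective R T
  let jl : A →ₗ[R] R :=
    { toFun := j
      map_add' := fun x y => hinj (by rw [map_add, hj, hj, hj, map_add])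
      map_smul' := fun r x => hinj (by
        rw [RingHom.id_apply, smul_eq_mul, map_mul, hj, hj, map_smul, Algebra.smul_def]) }
  refine ⟨jl, hinj ((hj 1).trans (hJ1.trans (map_one _).symm)), fun a => ?_⟩
  refine Module.FaithfullyFlat.tensorProduct_mk_injective (A := R) (B := T) A ?_
  have hJl : J = Algebra.linearMap R T ∘ₗ jl := LinearMap.ext fun x => (hj x).symm
  have h1 := congrArg (TensorProduct.comm R A T) (hJ a)
  rw [hJl, LinearMap.lTensor_comp, LinearMap.comp_apply] at h1
  simp only [TensorProduct.mk_apply]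
  have hz : ∀ z : A ⊗[R] A, TensorProduct.comm R A T ((Algebra.linearMap R T).lTensor A (jl.lTensor A z)) =
      (1 : T) ⊗ₜ[R] slice jl z := fun z => by
    induction z using TensorProduct.induction_on with
    | zero => simp
    | add x y hx hy => simp only [map_add, TensorProduct.tmul_add, hx, hy]
    | tmul x y => simp [slice_tmul, Algebra.algebraMap_eq_smul_one, TensorProduct.smul_tmul]
  rw [← hz, h1]
  simp [Algebra.algebraMap_eq_smul_one, TensorProduct.smul_tmul]

/-- The invariant functional of a split group: the coefficient of the trivial character. -/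
theorem exists_inv_split {T : Type u} [CommRing T] [Algebra R T] {M : Type} [AddCommGroup M]
    (χ : Multiplicative M →* T ⊗[R] A)
    (hbij : Function.Bijective (MonoidAlgebra.lift T (T ⊗[R] A) (Multiplicative M) χ))
    (hΔ : ∀ m, Algebra.TensorProduct.map (AlgHom.id T T) Δ (χ m) =
      Algebra.TensorProduct.map (AlgHom.id T T) Algebra.TensorProduct.includeLeft (χ m) *
        Algebra.TensorProduct.map (AlgHom.id T T) Algebra.TensorProduct.includeRight (χ m)) :
    ∃ j : A →ₗ[R] T, IsInv Δ j ∧ j 1 = 1 := by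
  classical
  let E := AlgEquiv.ofBijective (MonoidAlgebra.lift T (T ⊗[R] A) (Multiplicative M) χ) hbij
  let ev : MonoidAlgebra T (Multiplicative M) →ₗ[T] T :=
    { toFun := fun x => x.coeff 1
      map_add' := fun x y => by simp
      map_smul' := fun t x => by simp }
  let J : T ⊗[R] A →ₗ[T] T := ev ∘ₗ E.symm.toLinearEquiv.toLinearMap
  let j : A →ₗ[R] T := J.restrictScalars R ∘ₗ TensorProduct.mk R T A 1
  have hJχ : ∀ m, J (χ m) = if m = 1 then 1 else 0 := fun m => by
    have h : E.symm (χ m) = MonoidAlgebra.single m 1 := by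
      rw [AlgEquiv.symm_apply_eq]
      exact (MonoidAlgebra.lift_of χ m).symm
    change (E.symm (χ m)).coeff 1 = _
    rw [h, MonoidAlgebra.coeff_single, Finsupp.single_apply]
  have hJt : ∀ (t : T) (a : A), J (t ⊗ₜ[R] a) = t * j a := fun t a => by
    rw [show t ⊗ₜ[R] a = t • ((1 : T) ⊗ₜ[R] a) by
      rw [TensorProduct.smul_tmul', smul_eq_mul, _root_.mul_one], map_smul]
    rfl
  have hj1 : j 1 = 1 := by
    change J ((1 : T) ⊗ₜ[R] (1 : A)) = 1
    rw [← Algebra.TensorProduct.one_def, ← map_one χ, hJχ, if_pos rfl]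
  let sw : T ⊗[R] A ≃ₐ[R] A ⊗[R] T := Algebra.TensorProduct.comm R T A
  let ψ : T ⊗[R] (A ⊗[R] A) →ₗ[R] A ⊗[R] T :=
    ((LinearMap.mul' R T).lTensor A ∘ₗ (TensorProduct.leftComm R T A T).toLinearMap) ∘ₗ (j.lTensor A).lTensor T
  have hψ : ∀ u v : T ⊗[R] A, ψ (Algebra.TensorProduct.map (AlgHom.id T T) Algebra.TensorProduct.includeLeft u *
      Algebra.TensorProduct.map (AlgHom.id T T) Algebra.TensorProduct.includeRight v) =
      sw u * ((1 : A) ⊗ₜ[R] J v) := fun u v => by
    induction u using TensorProduct.induction_on with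
    | zero => simp
    | add x y hx hy => simp only [map_add, add_mul, hx, hy]
    | tmul t a =>
      induction v using TensorProduct.induction_on with
      | zero => simp
      | add x y hx hy => simp only [TensorProduct.tmul_add, map_add, mul_add, hx, hy]
      | tmul s b =>
        rw [hJt]
        simp [ψ, sw, Algebra.TensorProduct.tmul_mul_tmul, _root_.mul_assoc]
  have hψs : ∀ (t : T) (z : T ⊗[R] (A ⊗[R] A)), ψ (t • z) = ((1 : A) ⊗ₜ[R] t) * ψ z := fun t z => by
    induction z using TensorProduct.induction_on with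
    | zero => simp
    | add x y hx hy => simp only [smul_add, map_add, mul_add, hx, hy]
    | tmul s z =>
      induction z using TensorProduct.induction_on with
      | zero => simp
      | add x y hx hy => simp only [TensorProduct.tmul_add, smul_add, map_add, mul_add, hx, hy]
      | tmul a b => simp [ψ, TensorProduct.smul_tmul', Algebra.TensorProduct.tmul_mul_tmul, _root_.mul_assoc]
  have key : ∀ y : T ⊗[R] A, ψ (Algebra.TensorProduct.map (AlgHom.id T T) Δ y) = (1 : A) ⊗ₜ[R] J y := by
    intro y
    obtain ⟨z, rfl⟩ := hbij.2 y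
    induction z using MonoidAlgebra.induction_linear with
    | zero => simp
    | add x y hx hy => simp only [map_add, TensorProduct.tmul_add, hx, hy]
    | single m r =>
      rw [MonoidAlgebra.lift_single, map_smul, hΔ, hψs, hψ, map_smul J, hJχ, smul_eq_mul]
      split_ifs with hm
      · rw [hm, map_one, map_one, _root_.mul_one, _root_.one_mul, Algebra.TensorProduct.tmul_mul_tmul,
          _root_.mul_one]
        simp
      · simp
  refine ⟨j, fun a => ?_, hj1⟩
  have h := key ((1 : T) ⊗ₜ[R] a)
  rw [Algebra.TensorProduct.map_tmul] at h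
  refine Eq.trans ?_ h
  induction Δ a using TensorProduct.induction_on with
  | zero => simp
  | add x y hx hy => simp only [map_add, TensorProduct.tmul_add, hx, hy]
  | tmul x y => simp [ψ]

include hc in
/-- The mean exists as soon as the group splits over a finite faithfully flat family. -/
theorem exists_mean_of_family {σ : Type u} [Finite σ] (T : σ → Type u) [∀ i, CommRing (T i)]
    [∀ i, Algebra R (T i)] [Module.FaithfullyFlat R (∀ i, T i)]
    (hj : ∀ i, ∃ j : A →ₗ[R] T i, IsInv Δ j ∧ j 1 = 1) :
    ∃ ε : A →ₗ[R] R, ε 1 = 1 ∧ ∀ a, slice ε (Δ a) = algebraMap R A (ε a) := by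
  classical
  haveI := Fintype.ofFinite σ
  choose jj hjj hjj1 using hj
  refine exists_mean_of_ff Δ hc (∀ i, T i) (LinearMap.pi jj) (fun a => ?_) (funext fun i => hjj1 i)
  refine (TensorProduct.piRight R R A T).injective (funext fun i => ?_)
  have hl : ∀ z, TensorProduct.piRight R R A T ((LinearMap.pi jj).lTensor A z) i = (jj i).lTensor A z := fun z => by
    induction z using TensorProduct.induction_on with
    | zero => simp
    | add x y hx hy => simp only [map_add, Pi.add_apply, hx, hy]
    | tmul x y => simp [TensorProduct.piRight_apply]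
  rw [hl, hjj i a]
  simp [TensorProduct.piRight_apply]

end Descent

end GrothLib.MultDef14
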