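import Groth.Agent.Lib.Misc6.AffinePushout
import Mathlib.CategoryTheory.Monoidal.Cartesian.Over
import Mathlib.CategoryTheory.Monoidal.Cartesian.Grp
import Mathlib.AlgebraicGeometry.Limits
import Mathlib.RingTheory.Ideal.Quotient.Operations

/-!
Affine points over a base ring, and points congruent to the unit modulo a square-zero ideal: they come
from the subalgebra of elements congruent to constants, on which any normalised linear form is a
ring homomorphism.
-/

universe u

open CategoryTheory MonoidalCategory CartesianMonoidalCategory MonObj GrpObj AlgebraicGeometry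

namespace GrothLib.MultDef14

section Aff

variable {S : Scheme.{u}} {R : Type u} [CommRing R] (q : Spec (CommRingCat.of R) ⟶ S)

/-- The spectrum of an `R`-algebra over `S`. -/
noncomputable abbrev aff (B : Type u) [CommRing B] [Algebra R B] : Over S :=
  Over.mk (Spec.map (CommRingCat.ofHom (algebraMap R B)) ≫ q)

/-- The morphism of spectra of a homomorphism of `R`-algebras. -/
noncomputable def affMap {B B' : Type u} [CommRing B] [Algebra R B] [CommRing B'] [Algebra R B']
    (f : B →ₐ[R] B') : aff q B' ⟶ aff q B :=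
  Over.homMk (Spec.map (CommRingCat.ofHom (f : B →+* B'))) (by
    change Spec.map _ ≫ Spec.map _ ≫ q = Spec.map _ ≫ q
    rw [← Spec.map_comp_assoc, ← CommRingCat.ofHom_comp, AlgHom.comp_algebraMap])

theorem affMap_left {B B' : Type u} [CommRing B] [Algebra R B] [CommRing B'] [Algebra R B']
    (f : B →ₐ[R] B') : (affMap q f).left = Spec.map (CommRingCat.ofHom (f : B →+* B')) := rfl

theorem affMap_comp {B B' B'' : Type u} [CommRing B] [Algebra R B] [CommRing B'] [Algebra R B']
    [CommRing B''] [Algebra R B''] (f : B →ₐ[R] B') (g : B' →ₐ[R] B'') :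
    affMap q g ≫ affMap q f = affMap q (g.comp f) := by
  apply Over.OverMorphism.ext
  change Spec.map _ ≫ Spec.map _ = Spec.map _
  rw [← Spec.map_comp, ← CommRingCat.ofHom_comp]
  rfl

theorem affMap_comp_assoc {B B' B'' : Type u} [CommRing B] [Algebra R B] [CommRing B'] [Algebra R B']
    [CommRing B''] [Algebra R B''] (f : B →ₐ[R] B') (g : B' →ₐ[R] B'') {X : Over S} (h : aff q B ⟶ X) :
    affMap q g ≫ affMap q f ≫ h = affMap q (g.comp f) ≫ h := by
  rw [← Category.assoc, affMap_comp]

theorem affMap_id {B : Type u} [CommRing B] [Algebra R B] : affMap q (AlgHom.id R B) = 𝟙 (aff q B) := by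
  apply Over.OverMorphism.ext
  change Spec.map _ = 𝟙 _
  rw [show ((AlgHom.id R B : B →ₐ[R] B) : B →+* B) = RingHom.id B from rfl, CommRingCat.ofHom_id]
  exact Spec.map_id _

end Aff

section Sq

variable {B C : Type u} [CommRing B] [CommRing C] [Algebra B C] (J : Ideal B)

variable (C) in
/-- Elements congruent to constants modulo the ideal. -/
def Sq : Subalgebra B C where
  carrier := {c | ∃ b : B, c - algebraMap B C b ∈ J.map (algebraMap B C)}
  mul_mem' := fun {x y} ⟨b, hb⟩ ⟨b', hb'⟩ => ⟨b * b', by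
    have e : x * y - algebraMap B C (b * b') =
        x * (y - algebraMap B C b') + algebraMap B C b' * (x - algebraMap B C b) := by rw [map_mul]; ring
    rw [e]
    exact add_mem (Ideal.mul_mem_left _ _ hb') (Ideal.mul_mem_left _ _ hb)⟩
  add_mem' := fun {x y} ⟨b, hb⟩ ⟨b', hb'⟩ => ⟨b + b', by
    have e : x + y - algebraMap B C (b + b') = (x - algebraMap B C b) + (y - algebraMap B C b') := by
      rw [map_add]; ring
    rw [e]
    exact add_mem hb hb'⟩
  algebraMap_mem' := fun b => ⟨b, by rw [sub_self]; exact zero_mem _⟩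

theorem mem_Sq {c : C} : c ∈ Sq C J ↔ ∃ b : B, c - algebraMap B C b ∈ J.map (algebraMap B C) := Iff.rfl

theorem linear_mem (φ : C →ₗ[B] B) {x : C} (hx : x ∈ J.map (algebraMap B C)) : φ x ∈ J := by
  suffices h : ∀ c, φ (c * x) ∈ J by simpa using h 1
  refine Submodule.span_induction (p := fun x _ => ∀ c, φ (c * x) ∈ J) ?_ ?_ ?_ ?_ hx
  · rintro _ ⟨j, hj, rfl⟩ c
    rw [mul_comm, ← Algebra.smul_def, map_smul, smul_eq_mul]
    exact J.mul_mem_right _ hj
  · intro c
    rw [mul_zero, map_zero]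
    exact zero_mem _
  · intro x y _ _ hx hy c
    rw [mul_add, map_add]
    exact add_mem (hx c) (hy c)
  · intro a x _ hx c
    rw [smul_eq_mul, ← _root_.mul_assoc]
    exact hx _

theorem mul_eq_zero_of_mem_map (hJ : J ^ 2 = ⊥) {x y : C} (hx : x ∈ J.map (algebraMap B C))
    (hy : y ∈ J.map (algebraMap B C)) : x * y = 0 := by
  have h := Ideal.mul_mem_mul hx hy
  rw [← pow_two, ← Ideal.map_pow, hJ, Ideal.map_bot] at h
  exact (Submodule.mem_bot _).mp h

/-- A normalised linear form, restricted to the elements congruent to constants, is multiplicative. -/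
def retr (φ : C →ₗ[B] B) (h1 : φ 1 = 1) (hJ : J ^ 2 = ⊥) : Sq C J →ₐ[B] B where
  toFun c := φ c.1
  map_one' := h1
  map_zero' := map_zero φ
  map_add' x y := map_add φ x.1 y.1
  map_mul' x y := by
    obtain ⟨b, hb⟩ := x.2
    obtain ⟨b', hb'⟩ := y.2
    have hc : ∀ r : B, φ (algebraMap B C r) = r := fun r => by
      rw [Algebra.algebraMap_eq_smul_one, map_smul, h1, smul_eq_mul, _root_.mul_one]
    set i := x.1 - algebraMap B C b with hi
    set i' := y.1 - algebraMap B C b' with hi'
    have ex : x.1 = algebraMap B C b + i := by rw [hi]; ring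
    have ey : y.1 = algebraMap B C b' + i' := by rw [hi']; ring
    have e : x.1 * y.1 = algebraMap B C (b * b') + (b • i' + b' • i) := by
      rw [ex, ey, map_mul, Algebra.smul_def, Algebra.smul_def]
      linear_combination (mul_eq_zero_of_mem_map J hJ hb hb')
    have h0 : φ i * φ i' = 0 := by
      have h := Ideal.mul_mem_mul (linear_mem J φ hb) (linear_mem J φ hb')
      rw [← pow_two, hJ] at h
      exact (Submodule.mem_bot _).mp h
    change φ (x.1 * y.1) = φ x.1 * φ y.1
    rw [e, ex, ey]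
    simp only [map_add, map_smul, smul_eq_mul, hc]
    linear_combination -h0
  commutes' r := by
    change φ (algebraMap B C r) = r
    rw [Algebra.algebraMap_eq_smul_one, map_smul, h1, smul_eq_mul, _root_.mul_one]

theorem retr_apply (φ : C →ₗ[B] B) (h1 : φ 1 = 1) (hJ : J ^ 2 = ⊥) (c : Sq C J) :
    retr J φ h1 hJ c = φ c.1 := rfl

/-- Reduction of the elements congruent to constants. -/
def red (φ : C →ₗ[B] B) (h1 : φ 1 = 1) (hJ : J ^ 2 = ⊥) : Sq C J →+* B ⧸ J :=
  (Ideal.Quotient.mk J).comp (retr J φ h1 hJ).toRingHom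

theorem red_eq (φ : C →ₗ[B] B) (h1 : φ 1 = 1) (hJ : J ^ 2 = ⊥) (c : Sq C J) (b : B)
    (hb : c.1 - algebraMap B C b ∈ J.map (algebraMap B C)) : red J φ h1 hJ c = Ideal.Quotient.mk J b := by
  change Ideal.Quotient.mk J (φ c.1) = _
  rw [Ideal.Quotient.mk_eq_mk_iff_sub_mem]
  have := linear_mem J φ hb
  rwa [map_sub, Algebra.algebraMap_eq_smul_one, map_smul, h1, smul_eq_mul, _root_.mul_one] at this

variable (C) in
/-- The map of quotients. -/
def quot : B ⧸ J →+* C ⧸ J.map (algebraMap B C) :=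
  Ideal.quotientMap _ (algebraMap B C) Ideal.le_comap_map

theorem fibreSquare (φ : C →ₗ[B] B) (h1 : φ 1 = 1) (hJ : J ^ 2 = ⊥) :
    Misc6.FibreSquare (red J φ h1 hJ) (Sq C J).val.toRingHom (quot C J)
      (Ideal.Quotient.mk (J.map (algebraMap B C))) := by
  refine ⟨RingHom.ext fun c => ?_, fun c _ hc => Subtype.ext hc, fun b a h => ?_, Ideal.Quotient.mk_surjective⟩
  · obtain ⟨b, hb⟩ := c.2
    change quot C J (red J φ h1 hJ c) = Ideal.Quotient.mk _ c.1
    rw [red_eq J φ h1 hJ c b hb, quot, Ideal.quotientMap_mk]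
    exact (Ideal.Quotient.mk_eq_mk_iff_sub_mem _ _).mpr (by rw [← neg_sub]; exact neg_mem hb)
  · obtain ⟨b, rfl⟩ := Ideal.Quotient.mk_surjective b
    rw [quot, Ideal.quotientMap_mk] at h
    have hm : a - algebraMap B C b ∈ J.map (algebraMap B C) :=
      (Ideal.Quotient.mk_eq_mk_iff_sub_mem _ _).mp h.symm
    exact ⟨⟨a, b, hm⟩, red_eq J φ h1 hJ _ b hm, rfl⟩

end Sq

end GrothLib.MultDef14

namespace GrothLib.MultDef14

section Points

variable {S : Scheme.{u}} {R : Type u} [CommRing R] (q : Spec (CommRingCat.of R) ⟶ S)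
variable {B C : Type u} [CommRing B] [Algebra R B] [CommRing C] [Algebra R C] [Algebra B C] [IsScalarTower R B C]
variable (J : Ideal B)

/-- The inclusion of the elements congruent to constants, over `R`. -/
def sqVal : Sq C J →ₐ[R] C := (Sq C J).val.restrictScalars R

/-- The retraction, over `R`. -/
def retrR (φ : C →ₗ[B] B) (h1 : φ 1 = 1) (hJ : J ^ 2 = ⊥) : Sq C J →ₐ[R] B :=
  (retr J φ h1 hJ).restrictScalars R

/-- The reduction, over `R`. -/
def redR (φ : C →ₗ[B] B) (h1 : φ 1 = 1) (hJ : J ^ 2 = ⊥) : Sq C J →ₐ[R] B ⧸ J :=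
  (Ideal.Quotient.mkₐ R J).comp (retrR J φ h1 hJ)

theorem redR_toRingHom (φ : C →ₗ[B] B) (h1 : φ 1 = 1) (hJ : J ^ 2 = ⊥) :
    (redR (R := R) J φ h1 hJ : Sq C J →+* B ⧸ J) = red J φ h1 hJ := rfl

theorem sqVal_toRingHom : ((sqVal J : Sq C J →ₐ[R] C) : Sq C J →+* C) = (Sq C J).val.toRingHom := rfl

/-- Points of the squeezed algebra are determined by their image and their reduction. -/
theorem squeeze_ext (φ : C →ₗ[B] B) (h1 : φ 1 = 1) (hJ : J ^ 2 = ⊥) {G : Over S}
    {a b : aff q (Sq C J) ⟶ G} (hv : affMap q (sqVal J) ≫ a = affMap q (sqVal J) ≫ b)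
    (hr : affMap q (redR J φ h1 hJ) ≫ a = affMap q (redR J φ h1 hJ) ≫ b) : a = b := by
  apply Over.OverMorphism.ext
  exact Misc6.hom_ext_of_jointPair (f := CommRingCat.ofHom (red J φ h1 hJ))
    (g := CommRingCat.ofHom (Sq C J).val.toRingHom) (fibreSquare J φ h1 hJ).jointPair
    (congrArg CommaMorphism.left hr) (congrArg CommaMorphism.left hv)

/-- A point congruent to the unit comes from the squeezed algebra. -/
theorem exists_squeeze (φ : C →ₗ[B] B) (h1 : φ 1 = 1) (hJ : J ^ 2 = ⊥) {G : Over S} [GrpObj G]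
    (g : aff q C ⟶ G) (hg : affMap q (Ideal.Quotient.mkₐ R (J.map (algebraMap B C))) ≫ g = 1) :
    ∃ g' : aff q (Sq C J) ⟶ G, affMap q (sqVal J) ≫ g' = g ∧ affMap q (redR J φ h1 hJ) ≫ g' = 1 := by
  let po := Misc6.isPushout_spec (P := CommRingCat.of (Sq C J)) (B := CommRingCat.of (B ⧸ J))
    (A' := CommRingCat.of C) (A := CommRingCat.of (C ⧸ J.map (algebraMap B C)))
    (f := CommRingCat.ofHom (red J φ h1 hJ)) (g := CommRingCat.ofHom (Sq C J).val.toRingHom)
    (q := CommRingCat.ofHom (quot C J)) (p := CommRingCat.ofHom (Ideal.Quotient.mk _))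
    (fibreSquare J φ h1 hJ)
  let qA : B ⧸ J →ₐ[R] C ⧸ J.map (algebraMap B C) :=
    { quot C J with
      commutes' := fun r => by
        change quot C J (Ideal.Quotient.mk J (algebraMap R B r)) = Ideal.Quotient.mk _ (algebraMap R C r)
        rw [quot, Ideal.quotientMap_mk, ← IsScalarTower.algebraMap_apply] }
  have hcomp : affMap q (Ideal.Quotient.mkₐ R (J.map (algebraMap B C))) ≫ g =
      affMap q qA ≫ (1 : aff q (B ⧸ J) ⟶ G) := by rw [hg, MonObj.comp_one]
  let l := po.desc g.left (1 : aff q (B ⧸ J) ⟶ G).left (congrArg CommaMorphism.left hcomp)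
  have hl₁ : Spec.map (CommRingCat.ofHom (Sq C J).val.toRingHom) ≫ l = g.left := po.inl_desc _ _ _
  have hl₂ : Spec.map (CommRingCat.ofHom (red J φ h1 hJ)) ≫ l = (1 : aff q (B ⧸ J) ⟶ G).left :=
    po.inr_desc _ _ _
  have hw : l ≫ G.hom = (aff q (Sq C J)).hom := by
    refine Misc6.hom_ext_of_jointPair (f := CommRingCat.ofHom (red J φ h1 hJ))
      (g := CommRingCat.ofHom (Sq C J).val.toRingHom) (fibreSquare J φ h1 hJ).jointPair ?_ ?_
    · rw [reassoc_of% hl₂, Over.w]
      exact (Over.w (affMap q (redR J φ h1 hJ))).symm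
    · rw [reassoc_of% hl₁, Over.w]
      exact (Over.w (affMap q (sqVal J))).symm
  exact ⟨Over.homMk l hw, Over.OverMorphism.ext hl₁, Over.OverMorphism.ext hl₂⟩

end Points

end GrothLib.MultDef14
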