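import Groth.Agent.Lib.MultDef14.HomOfPt

/-!
Successive lifting of homomorphisms out of groups of multiplicative type.
-/

universe u

open CategoryTheory MonoidalCategory CartesianMonoidalCategory MonObj GrpObj AlgebraicGeometry
open scoped TensorProduct

set_option backward.isDefEq.respectTransparency false

namespace GrothLib.MultDef14

open GrothLib.DiagGrp (HasChartsFpqc)

variable {S : Scheme.{u}} {R : Type u} [CommRing R] {q : Spec (CommRingCat.of R) ⟶ S}
variable {A : Type u} [CommRing A] [Algebra R A] {H G : Over S} [GrpObj H] [GrpObj G] {h : aff q A ⟶ H}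

/-- A point commuting with the comultiplication is multiplicative. -/
theorem isHomPt_of_comul (hu : IsUniv q h) {Δ : A →ₐ[R] A ⊗[R] A} (hΔ : IsComul h Δ) {a : aff q A ⟶ G}
    (e : affMap q Δ ≫ a = (affMap q Algebra.TensorProduct.includeLeft ≫ a) *
      (affMap q Algebra.TensorProduct.includeRight ≫ a)) : IsHomPt h a := by
  intro B _ _ f g k he
  have hk : k = (Algebra.TensorProduct.lift f g fun _ _ => Commute.all _ _).comp Δ := by
    refine (hu.bij B).1 ?_
    dsimp only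
    rw [he, ← affMap_comp_assoc, hΔ, MonObj.comp_mul, affMap_comp_assoc, affMap_comp_assoc]
    congr 2 <;> congr 1 <;> exact AlgHom.ext fun _ => by simp
  rw [hk, ← affMap_comp_assoc, e, MonObj.comp_mul, affMap_comp_assoc, affMap_comp_assoc]
  congr 2 <;> congr 1 <;> exact AlgHom.ext fun _ => by simp

/-- A multiplicative point modulo `J` lifts modulo any `I ≤ J` containing a power of `J`. -/
theorem exists_homPt_mod {Q : ∀ (M : Type), AddCommGroup M → Prop} (hH : HasChartsFpqc Q H)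
    (hG : MoreMor.IsFormallySmoothHom G.hom) (hu : IsUniv q h) (I J : Ideal R) (hle : I ≤ J) {k : ℕ}
    (hk : J ^ k ≤ I) (a₀ : aff q (A ⧸ J.map (algebraMap R A)) ⟶ G)
    (h0 : IsHomPt (affMap q (Ideal.Quotient.mkₐ R (J.map (algebraMap R A))) ≫ h) a₀) :
    ∃ a : aff q (A ⧸ I.map (algebraMap R A)) ⟶ G, affMap q (Ideal.Quotient.factorₐ R (Ideal.map_mono hle)) ≫ a = a₀ ∧
      IsHomPt (affMap q (Ideal.Quotient.mkₐ R (I.map (algebraMap R A))) ≫ h) a := by
  have hnil : IsNilpotent (J.map (algebraMap R (R ⧸ I))) := ⟨k, by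
    rw [← Ideal.map_pow, Ideal.Quotient.algebraMap_eq]
    exact Ideal.map_eq_bot_iff_le_ker _ |>.mpr (hk.trans_eq Ideal.mk_ker.symm)⟩
  obtain ⟨a', ha', hah'⟩ := exists_homPt_nil hH hG hu.baseChange _ hnil _ (h0.reduction J (R ⧸ I))
  let σ : (R ⧸ I) ⊗[R] A →ₐ[R] A ⧸ I.map (algebraMap R A) :=
    Algebra.TensorProduct.lift (quotA I) (Ideal.Quotient.mkₐ R _) fun _ _ => Commute.all _ _
  have hσ : σ.comp Algebra.TensorProduct.includeRight = Ideal.Quotient.mkₐ R _ := AlgHom.ext fun x => by simp [σ]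
  refine ⟨affMap q σ ≫ chgFrom q (R ⧸ I) _ ≫ a', ?_, ?_⟩
  swap
  · intro B _ _ f g k e
    simp only [affMap_comp_assoc] at e ⊢
    simp only [← affMap_comp_assoc _ σ]
    rw [affMap_comp_assoc, affMap_comp_assoc, affMap_comp_assoc]
    refine hah'.relative _ _ _ (Ideal.Quotient.algHom_ext R (Subsingleton.elim _ _))
      (Ideal.Quotient.algHom_ext R (Subsingleton.elim _ _)) ?_
    simp only [AlgHom.comp_assoc, hσ]
    exact e
  let π : A ⧸ I.map (algebraMap R A) →ₐ[R] A ⧸ J.map (algebraMap R A) :=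
    Ideal.Quotient.liftₐ _ (Ideal.Quotient.mkₐ R _) fun x hx =>
      Ideal.Quotient.eq_zero_iff_mem.mpr (Ideal.map_mono hle hx)
  have hπ : π.comp (Ideal.Quotient.mkₐ R _) = Ideal.Quotient.mkₐ R _ := AlgHom.ext fun _ => rfl
  let muq : ((R ⧸ I) ⊗[R] A) ⧸ (J.map (algebraMap R (R ⧸ I))).map
      (algebraMap (R ⧸ I) ((R ⧸ I) ⊗[R] A)) →ₐ[R] A ⧸ J.map (algebraMap R A) :=
    Ideal.Quotient.liftₐ _ (π.comp σ) fun x hx => by
      have hker : (J.map (algebraMap R (R ⧸ I))).map (algebraMap (R ⧸ I) ((R ⧸ I) ⊗[R] A)) ≤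
          RingHom.ker (π.comp σ) := by
        rw [Ideal.map_map, ← IsScalarTower.algebraMap_eq, Ideal.map_le_iff_le_comap]
        intro r hr
        rw [Ideal.mem_comap, RingHom.mem_ker, AlgHom.commutes]
        exact Ideal.Quotient.eq_zero_iff_mem.mpr (Ideal.mem_map_of_mem _ hr)
      exact hker hx
  have hmuq : muq.comp (Ideal.Quotient.mkₐ R _) = π.comp σ := AlgHom.ext fun _ => rfl
  have hk : muq.comp (kap J (R ⧸ I)) = AlgHom.id R _ := Ideal.Quotient.algHom_ext R (by
    rw [AlgHom.comp_assoc, kap_comp_mk, ← AlgHom.comp_assoc, hmuq, AlgHom.comp_assoc, hσ, hπ, AlgHom.id_comp])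
  have hred : affMap q (Ideal.Quotient.mkₐ R _) ≫ chgFrom q (R ⧸ I) _ ≫ a' =
      affMap q (kap J (R ⧸ I)) ≫ a₀ := by
    refine chgTo_injective q (R ⧸ I) _ ?_
    rw [← ha', show (Ideal.Quotient.mkₐ R ((J.map (algebraMap R (R ⧸ I))).map
        (algebraMap (R ⧸ I) ((R ⧸ I) ⊗[R] A)))) = (Ideal.Quotient.mkₐ (R ⧸ I)
        ((J.map (algebraMap R (R ⧸ I))).map
          (algebraMap (R ⧸ I) ((R ⧸ I) ⊗[R] A)))).restrictScalars R from rfl,
      ← chgTo_comp_assoc, ← Category.assoc (chgTo q (R ⧸ I) ((R ⧸ I) ⊗[R] A)), chgTo_from,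
      Category.id_comp]
  rw [show Ideal.Quotient.factorₐ R (Ideal.map_mono hle) = π from Ideal.Quotient.algHom_ext R (AlgHom.ext fun _ => rfl),
    affMap_comp_assoc, ← hmuq]
  refine (affMap_quot_comp _ muq _ _ hk _ _ hred).trans ?_
  rw [affMap_id, Category.id_comp]

end GrothLib.MultDef14
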