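import Groth.Agent.Lib.MultDef14.HomOfPt

/-!
The transporter of a group of multiplicative type into a smooth subgroup, or into one of multiplicative
type, is formally smooth.
-/

universe u

open CategoryTheory MonoidalCategory CartesianMonoidalCategory MonObj GrpObj AlgebraicGeometry

set_option backward.isDefEq.respectTransparency false

namespace GrothLib.MultDef14

open GrothLib.DiagGrp (HasChartsFpqc bcPoint)

variable {R : Type u} [CommRing R] (J : Ideal R) {H K G : Over (Spec (CommRingCat.of R))}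
  [GrpObj H] [GrpObj K] [GrpObj G]
  {Q : ∀ (M : Type), AddCommGroup M → Prop} (hH : HasChartsFpqc Q H) (hJ : IsNilpotent J)

include hH hJ

/-- Homomorphisms between groups of multiplicative type lift along nilpotent thickenings. -/
theorem exists_hom_lift_multType {Q' : ∀ (M : Type), AddCommGroup M → Prop} (hK : HasChartsFpqc Q' K)
    (f₀ : Red.bc (Spec.map (CommRingCat.ofHom (Ideal.Quotient.mk J))) H ⟶
      Red.bc (Spec.map (CommRingCat.ofHom (Ideal.Quotient.mk J))) K) [IsMonHom f₀] :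
    ∃ f : H ⟶ K, IsMonHom f ∧ (Over.pullback (Spec.map (CommRingCat.ofHom (Ideal.Quotient.mk J)))).map f = f₀ := by
  obtain ⟨A, _, _, h, hu⟩ := exists_isUniv (𝟙 (Spec (CommRingCat.of R))) H (EssFree.isAffineHom_of_charts hH)
  obtain ⟨a₀, hhom, hred⟩ := exists_point_of_hom₀ hu J f₀
  obtain ⟨a, hah, ha⟩ := exists_homPt_lift hH hK hu hJ a₀ hhom
  obtain ⟨w, hwm, hw⟩ := exists_hom_of_homPt hu hah
  exact ⟨w, hwm, hred w (by rw [hw, ha])⟩

/-- The transporter into a subgroup is formally smooth, when homomorphisms into the subgroup lift. -/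
theorem exists_conjInto_lift_spec (hG : Smooth G.hom) (k : K ⟶ G) [IsMonHom k] [Mono k]
    (hK : ∀ (f₀ : Red.bc (Spec.map (CommRingCat.ofHom (Ideal.Quotient.mk J))) H ⟶
      Red.bc (Spec.map (CommRingCat.ofHom (Ideal.Quotient.mk J))) K), IsMonHom f₀ →
      ∃ f : H ⟶ K, IsMonHom f ∧ (Over.pullback (Spec.map (CommRingCat.ofHom (Ideal.Quotient.mk J)))).map f = f₀)
    (u : H ⟶ G) [IsMonHom u] (g₀ : closedPt J ⟶ G)
    (h0 : ∀ (X : Over (Spec (CommRingCat.of R))) (p : X ⟶ closedPt J) (h : X ⟶ H),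
      ∃ x : X ⟶ K, (p ≫ g₀) * (h ≫ u) * (p ≫ g₀)⁻¹ = x ≫ k) :
    ∃ g : 𝟙_ (Over (Spec (CommRingCat.of R))) ⟶ G, toUnit (closedPt J) ≫ g = g₀ ∧
      ∀ (X : Over (Spec (CommRingCat.of R))) (h : X ⟶ H), ∃ x : X ⟶ K,
        (toUnit X ≫ g) * (h ≫ u) * (toUnit X ≫ g)⁻¹ = x ≫ k := by
  let z := Spec.map (CommRingCat.ofHom (Ideal.Quotient.mk J))
  haveI : (Over.pullback z).IsRightAdjoint := (Over.mapPullbackAdj z).isRightAdjoint
  have h1 : IsMonHom (1 : H ⟶ G) := GrpSchField.isMonHom_of_mul _ (by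
    rw [MonObj.comp_one, ← lift_fst_comp_snd_comp, ← Hom.mul_def, MonObj.comp_one, MonObj.comp_one, _root_.mul_one])
  obtain ⟨g₁, hg₁, -⟩ := exists_conj_spec_lift J hH (1 : H ⟶ G) 1 hJ hG g₀ fun Y p y => by simp
  let u' : H ⟶ G := (toUnit H ≫ g₁) * u * (toUnit H ≫ g₁)⁻¹
  have hu' : ∀ (X : Over (Spec (CommRingCat.of R))) (y : X ⟶ H),
      y ≫ u' = (toUnit X ≫ g₁) * (y ≫ u) * (toUnit X ≫ g₁)⁻¹ := fun X y => by
    simp only [u', MonObj.comp_mul, GrpObj.comp_inv, ← Category.assoc, toUnit_unique (y ≫ toUnit H) (toUnit X)]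
  haveI : IsMonHom u' := GrpSchField.isMonHom_of_mul _ (by
    have e : μ[H] = fst H H * snd H H := by rw [Hom.mul_def, lift_fst_snd, Category.id_comp]
    rw [← lift_fst_comp_snd_comp, ← Hom.mul_def, e, hu', hu', hu', MonObj.mul_comp]
    group)
  let Xu : Over (Spec (CommRingCat.of R)) := (Over.map z).obj (Red.bc z H)
  let y₀ : Xu ⟶ H := (bcPoint z H _).symm (𝟙 _)
  let p₀ : Xu ⟶ closedPt J := Over.homMk (Red.bc z H).hom rfl
  obtain ⟨x₀, hx₀⟩ := h0 Xu p₀ y₀
  let f₀ : Red.bc z H ⟶ Red.bc z K := bcPoint z K _ x₀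
  have hf₀ : f₀ ≫ (Over.pullback z).map k = (Over.pullback z).map u' := by
    have e : x₀ ≫ k = y₀ ≫ u' := by
      rw [← hx₀, hu', ← toUnit_unique (p₀ ≫ toUnit _) (toUnit Xu), Category.assoc, hg₁]
    calc f₀ ≫ (Over.pullback z).map k = bcPoint z G _ (x₀ ≫ k) := (DiagGrp.bcPoint_comp_right z x₀ k).symm
      _ = bcPoint z G _ (y₀ ≫ u') := by rw [e]
      _ = (Over.pullback z).map u' := by
        rw [DiagGrp.bcPoint_comp_right, Equiv.apply_symm_apply, Category.id_comp]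
  haveI : IsMonHom f₀ := GrpSchField.isMonHom_of_mul _ (by
    rw [← cancel_mono ((Over.pullback z).map k), Category.assoc, Category.assoc, hf₀,
      IsMonHom.mul_hom ((Over.pullback z).map k), ← Category.assoc, MonoidalCategory.tensorHom_comp_tensorHom,
      hf₀, IsMonHom.mul_hom])
  obtain ⟨v, hvm, hv⟩ := hK f₀ inferInstance
  obtain ⟨g', hg', hc⟩ := exists_conj_spec_lift J hH u' (v ≫ k) hJ hG (1 : closedPt J ⟶ G) fun Y p y => by
    rw [MonObj.comp_one, _root_.one_mul, inv_one, _root_.mul_one]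
    let b : Over (Spec (CommRingCat.of (R ⧸ J))) := Over.mk p.left
    let i : Y ⟶ (Over.map z).obj b := Over.homMk (𝟙 _) ((Category.id_comp _).trans (Over.w p))
    let i' : (Over.map z).obj b ⟶ Y := Over.homMk (𝟙 _) ((Category.id_comp _).trans (Over.w p).symm)
    have e : (i' ≫ y) ≫ v ≫ k = (i' ≫ y) ≫ u' := (bcPoint z G b).injective (by
      rw [DiagGrp.bcPoint_comp_right z (i' ≫ y) (v ≫ k), DiagGrp.bcPoint_comp_right z (i' ≫ y) u',
        Functor.map_comp, hv, hf₀])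
    have e2 := congrArg (i ≫ ·) e
    simp only [← Category.assoc, show i ≫ i' = 𝟙 _ from Over.OverMorphism.ext (Category.id_comp _),
      Category.id_comp] at e2
    simpa using e2
  refine ⟨g' * g₁, by rw [MonObj.comp_mul, hg', hg₁, _root_.one_mul], fun X y => ⟨y ≫ v, ?_⟩⟩
  rw [Category.assoc, hc X (toUnit X) y, hu', MonObj.comp_mul]
  group

end GrothLib.MultDef14
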